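import Mathlib

/-! Regular pairs, dual bases at an element, lifting along a regular element. -/

set_option autoImplicit false

universe u v

open IsLocalRing

namespace Groth.Purity

variable {A : Type u} [CommRing A] {M : Type v} [AddCommGroup M] [Module A M]

/-- `g, h` is a regular pair on `M`. -/
structure RegPair (M : Type v) [AddCommGroup M] [Module A M] (g h : A) : Prop where
  reg : ∀ m : M, g • m = 0 → m = 0
  mem : ∀ a b : M, h • a = g • b → ∃ c, a = g • c

namespace RegPair

variable {g h : A}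

theorem cancel (H : RegPair M g h) {k : ℕ} {a b : M} (hab : g ^ k • a = g ^ k • b) : a = b := by
  induction k with
  | zero => simpa using hab
  | succ k ih =>
    refine ih (sub_eq_zero.mp (H.reg _ ?_))
    rw [smul_sub, smul_smul, smul_smul, ← pow_succ', hab, sub_self]

theorem pow_right (H : RegPair M g h) (l : ℕ) : ∀ a b : M, h ^ l • a = g • b → ∃ c, a = g • c := by
  induction l with
  | zero => exact fun a b hab => ⟨b, by simpa using hab⟩
  | succ l ih =>
    intro a b hab
    rw [pow_succ', mul_smul] at hab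
    obtain ⟨c, hc⟩ := H.mem _ _ hab
    exact ih a c hc

theorem pow (H : RegPair M g h) (k l : ℕ) : ∀ a b : M, h ^ l • a = g ^ k • b → ∃ c, a = g ^ k • c := by
  induction k with
  | zero => exact fun a b _ => ⟨a, by simp⟩
  | succ k ih =>
    intro a b hab
    rw [pow_succ', mul_smul] at hab
    obtain ⟨c, rfl⟩ := H.pow_right l a _ hab
    rw [smul_comm] at hab
    obtain ⟨d, rfl⟩ := ih c b (H.cancel (k := 1) (by simpa using hab))
    exact ⟨d, by rw [pow_succ', mul_smul]⟩

theorem dual (H : RegPair A g h) (N : Type v) [AddCommGroup N] [Module A N] : RegPair (N →ₗ[A] A) g h where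
  reg φ hφ := LinearMap.ext fun x => H.reg _ (DFunLike.congr_fun hφ x)
  mem φ ψ hab := by
    have h1 : ∀ x, ∃ c, φ x = g • c := fun x => H.mem _ _ (DFunLike.congr_fun hab x)
    choose c hc using h1
    refine ⟨{ toFun := c, map_add' := fun x y => ?_, map_smul' := fun r x => ?_ }, LinearMap.ext hc⟩
    · exact H.cancel (k := 1) (by rw [pow_one, smul_add, ← hc, ← hc, ← hc, map_add])
    · exact H.cancel (k := 1) (by rw [pow_one, RingHom.id_apply, ← hc, map_smul, hc, smul_comm])

theorem of_linearEquiv {N : Type*} [AddCommGroup N] [Module A N] (e : M ≃ₗ[A] N) (H : RegPair N g h) : RegPair M g h where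
  reg m hm := e.injective (by rw [map_zero]; exact H.reg _ (by rw [← map_smul, hm, map_zero]))
  mem a b hab := by
    obtain ⟨c, hc⟩ := H.mem (e a) (e b) (by rw [← map_smul, hab, map_smul])
    exact ⟨e.symm c, by rw [← map_smul, ← hc, e.symm_apply_apply]⟩

end RegPair

/-- A dual basis after inverting `g`. -/
def DualBasisAt (M : Type v) [AddCommGroup M] [Module A M] (g : A) : Prop :=
  ∃ (K n : ℕ) (x : Fin n → M) (ψ : Fin n → (M →ₗ[A] A)), ∀ m, g ^ K • m = ∑ i, ψ i m • x i

namespace DualBasisAt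

theorem smul_dual {g : A} {K n : ℕ} {x : Fin n → M} {ψ : Fin n → (M →ₗ[A] A)}
    (h : ∀ m, g ^ K • m = ∑ i, ψ i m • x i) (χ : M →ₗ[A] A) : g ^ K • χ = ∑ i, χ (x i) • ψ i := by
  refine LinearMap.ext fun m => ?_
  rw [LinearMap.smul_apply, ← map_smul, h, map_sum, LinearMap.sum_apply]
  refine Finset.sum_congr rfl fun i _ => ?_
  rw [map_smul, LinearMap.smul_apply, smul_eq_mul, smul_eq_mul, mul_comm]

theorem smul_bidual {g : A} {K n : ℕ} {x : Fin n → M} {ψ : Fin n → (M →ₗ[A] A)}
    (h : ∀ m, g ^ K • m = ∑ i, ψ i m • x i) (φ : (M →ₗ[A] A) →ₗ[A] A) :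
    g ^ K • φ = Module.Dual.eval A M (∑ i, φ (ψ i) • x i) := by
  refine LinearMap.ext fun χ => ?_
  rw [LinearMap.smul_apply, ← map_smul, smul_dual h, map_sum, Module.Dual.eval_apply, map_sum]
  refine Finset.sum_congr rfl fun i _ => ?_
  rw [map_smul, map_smul, smul_eq_mul, smul_eq_mul, mul_comm]

theorem smul_eq_zero {g : A} (H : DualBasisAt M g) {m : M} (hm : ∀ χ : M →ₗ[A] A, χ m = 0) :
    ∃ K, g ^ K • m = 0 := by
  obtain ⟨K, n, x, ψ, h⟩ := H
  exact ⟨K, by rw [h]; simp [hm]⟩

/-- A module with a regular pair at which it has dual bases is reflexive. -/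
theorem bijective_eval {g h : A} (HM : RegPair M g h) (hgA : ∀ a : A, g • a = 0 → a = 0)
    (Hg : DualBasisAt M g) (Hh : DualBasisAt M h) : Function.Bijective (Module.Dual.eval A M) := by
  have hinj : Function.Injective (Module.Dual.eval A M) := by
    rw [injective_iff_map_eq_zero]
    intro m hm
    obtain ⟨K, hK⟩ := Hg.smul_eq_zero (m := m) fun χ => DFunLike.congr_fun hm χ
    exact HM.cancel (k := K) (by rw [hK, smul_zero])
  refine ⟨hinj, fun φ => ?_⟩
  obtain ⟨K, n, x, ψ, hx⟩ := Hg
  obtain ⟨K', n', x', ψ', hx'⟩ := Hh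
  obtain ⟨c, hc⟩ := HM.pow K K' (∑ i, φ (ψ i) • x i) (∑ i, φ (ψ' i) • x' i) (hinj (by
    rw [map_smul, map_smul, ← smul_bidual hx, ← smul_bidual hx', smul_comm]))
  have hreg : ∀ (j : ℕ) (a : A), g ^ j • a = 0 → a = 0 := by
    intro j
    induction j with
    | zero => exact fun a ha => by simpa using ha
    | succ j ih => exact fun a ha => ih a (hgA _ (by rw [smul_smul, ← pow_succ']; exact ha))
  refine ⟨c, LinearMap.ext fun χ => sub_eq_zero.mp (hreg K _ ?_)⟩
  rw [smul_sub, ← LinearMap.smul_apply, ← map_smul, ← hc, ← LinearMap.smul_apply, smul_bidual hx, sub_self]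

end DualBasisAt

theorem finite_dual [IsNoetherianRing A] [Module.Finite A M] : Module.Finite A (M →ₗ[A] A) := by
  obtain ⟨n, f, hf⟩ := Module.Finite.exists_fin' A M
  exact Module.Finite.of_injective (LinearMap.lcomp A A f) fun φ φ' h => LinearMap.ext fun m => by
    obtain ⟨y, rfl⟩ := hf m
    exact DFunLike.congr_fun h y

/-- Lifting a linear form modulo `f`, given lifts modulo every power of `f`. -/
theorem exists_lift_dual [IsNoetherianRing A] [IsLocalRing A] {f : A} (hf : f ∈ maximalIdeal A)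
    (hreg : ∀ a : A, f * a = 0 → a = 0) [Module.Finite A M] (φ₁ : M → A)
    (h : ∀ n : ℕ, ∃ φ : M → A,
      (∀ x y, f ^ (n + 1) ∣ φ (x + y) - φ x - φ y) ∧ (∀ r x, f ^ (n + 1) ∣ φ (r • x) - r * φ x) ∧
      ∀ x, f ∣ φ x - φ₁ x) :
    ∃ φ : M →ₗ[A] A, ∀ x, f ∣ φ x - φ₁ x := by
  classical
  obtain ⟨r, π, hπ⟩ := Module.Finite.exists_fin' A M
  let b := Pi.basisFun A (Fin r)
  choose φ hadd hsmul hφ using h
  let Φ : ℕ → ((Fin r → A) →ₗ[A] A) := fun n => b.constr A fun i => φ n (π (b i))
  have hpow : ∀ (j : ℕ) (a : A), f ^ j * a = 0 → a = 0 := fun j => by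
    induction j with
    | zero => exact fun a ha => by simpa using ha
    | succ j ih => exact fun a ha => ih a (hreg _ (by rw [← mul_assoc, ← pow_succ']; exact ha))
  have hΦ : ∀ n y, f ^ (n + 1) ∣ Φ n y - φ n (π y) := by
    intro n y
    let S : Submodule A (Fin r → A) :=
      { carrier := {y | f ^ (n + 1) ∣ Φ n y - φ n (π y)}
        zero_mem' := by
          have h0 := hsmul n 0 0
          simp only [zero_smul, zero_mul, sub_zero] at h0
          simpa using h0.neg_right
        add_mem' := fun {a c} ha hc => by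
          have := (ha.add hc).sub (hadd n (π a) (π c))
          simp only [Set.mem_setOf_eq, map_add] at this ⊢
          convert this using 1; ring
        smul_mem' := fun t a ha => by
          have := (ha.mul_left t).sub (hsmul n t (π a))
          simp only [Set.mem_setOf_eq, map_smul, smul_eq_mul] at this ⊢
          convert this using 1; ring }
    have hb : Submodule.span A (Set.range b) ≤ S := Submodule.span_le.mpr (by
      rintro _ ⟨i, rfl⟩
      show f ^ (n + 1) ∣ Φ n (b i) - φ n (π (b i))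
      simp [Φ])
    exact hb (by rw [b.span_eq]; trivial)
  let K := LinearMap.ker π
  have hK : ∀ n (z : K), f ^ (n + 1) ∣ Φ n z := by
    intro n z
    have h1 := hΦ n z
    rw [LinearMap.mem_ker.mp z.2] at h1
    have h0 := hsmul n 0 0
    simp only [zero_smul, zero_mul, sub_zero] at h0
    simpa using h1.add h0
  choose χ hχ using hK
  have hlin : ∀ n, ∃ χl : K →ₗ[A] A, ∀ z : K, Φ n (z : Fin r → A) = f ^ (n + 1) * χl z := fun n =>
    ⟨{ toFun := χ n
       map_add' := fun z z' => sub_eq_zero.mp (hpow (n + 1) _ (by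
        rw [mul_sub, mul_add, ← hχ, ← hχ, ← hχ, Submodule.coe_add, map_add, sub_self]))
       map_smul' := fun t z => sub_eq_zero.mp (hpow (n + 1) _ (by
        rw [mul_sub, RingHom.id_apply, ← hχ, Submodule.coe_smul, map_smul, smul_eq_mul, smul_eq_mul,
          mul_left_comm, ← hχ, sub_self])) }, hχ n⟩
  choose χl hχl using hlin
  let T : ((Fin r → A) →ₗ[A] A) →ₗ[A] (K →ₗ[A] A) := LinearMap.lcomp A A K.subtype
  have hstep : ∀ n, ∃ ω, χl 0 + T ω = f ^ n • χl n := by
    intro n
    have hdiff : ∀ i, f ∣ Φ n (b i) - Φ 0 (b i) := fun i => by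
      simp only [Φ, Module.Basis.constr_basis]
      simpa using (hφ n (π (b i))).sub (hφ 0 (π (b i)))
    choose w hw using hdiff
    have hω : Φ n = Φ 0 + f • b.constr A w := b.ext fun i => by
      simp only [LinearMap.add_apply, LinearMap.smul_apply, Module.Basis.constr_basis, smul_eq_mul, ← hw]; ring
    refine ⟨b.constr A w, LinearMap.ext fun z => sub_eq_zero.mp (hreg _ ?_)⟩
    have h1 : Φ n (z : Fin r → A) = Φ 0 (z : Fin r → A) + f * b.constr A w (z : Fin r → A) := DFunLike.congr_fun hω (z : Fin r → A)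
    rw [hχl, hχl, zero_add, pow_one] at h1
    show f * (χl 0 z + b.constr A w (z : Fin r → A) - f ^ n • χl n z) = 0
    rw [smul_eq_mul]
    linear_combination -h1
  haveI : Module.Finite A (K →ₗ[A] A) := by
    haveI : Module.Finite A K := Module.Finite.iff_fg.mpr (IsNoetherian.noetherian K)
    exact finite_dual
  have h0 : (LinearMap.range T).mkQ (χl 0) = 0 := by
    have hne : Ideal.span {f} ≠ ⊤ := fun htop =>
      (maximalIdeal.isMaximal A).ne_top (top_le_iff.mp (htop ▸ (Ideal.span_singleton_le_iff_mem _).mpr hf))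
    have hbot := Ideal.iInf_pow_smul_eq_bot_of_isLocalRing (R := A)
      (M := (K →ₗ[A] A) ⧸ LinearMap.range T) (Ideal.span {f}) hne
    rw [← Submodule.mem_bot A, ← hbot, Submodule.mem_iInf]
    intro n
    obtain ⟨ω, hω⟩ := hstep n
    have h1 : (LinearMap.range T).mkQ (χl 0) = f ^ n • (LinearMap.range T).mkQ (χl n) := by
      rw [← map_smul, ← hω, map_add, Submodule.mkQ_apply _ (T ω),
        (Submodule.Quotient.mk_eq_zero _).mpr (LinearMap.mem_range_self T ω), add_zero]
    rw [h1]
    exact Submodule.smul_mem_smul (Ideal.pow_mem_pow (Ideal.mem_span_singleton_self f) n) trivial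
  obtain ⟨ω, hω⟩ := (Submodule.Quotient.mk_eq_zero _).mp h0
  let Ψ := Φ 0 - f • ω
  have hker : K ≤ LinearMap.ker Ψ := fun z hz => by
    have h1 : ω z = χl 0 ⟨z, hz⟩ := DFunLike.congr_fun hω ⟨z, hz⟩
    have h2 := hχl 0 ⟨z, hz⟩
    show Φ 0 z - f • ω z = 0
    rw [h2, h1, zero_add, pow_one, smul_eq_mul, sub_self]
  refine ⟨(K.liftQ Ψ hker).comp (π.quotKerEquivOfSurjective hπ).symm.toLinearMap, fun x => ?_⟩
  obtain ⟨y, rfl⟩ := hπ x
  have hy : (π.quotKerEquivOfSurjective hπ).symm (π y) = K.mkQ y :=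
    (LinearEquiv.symm_apply_eq _).mpr rfl
  simp only [LinearMap.comp_apply, LinearEquiv.coe_coe, hy, Submodule.mkQ_apply, Submodule.liftQ_apply]
  have h3 := ((dvd_pow_self f (Nat.succ_ne_zero 0)).trans (hΦ 0 y)).add (hφ 0 (π y))
  show f ∣ Φ 0 y - f • ω y - φ₁ (π y)
  have h4 := h3.sub (dvd_mul_right f (ω y))
  rw [smul_eq_mul]
  convert h4 using 1; ring

/-- `M` is free if `M/fM` is, `f` regular on `A` and `M`. -/
theorem free_of_quotient [IsNoetherianRing A] [IsLocalRing A] [Module.Finite A M] {f : A} (hf : f ∈ maximalIdeal A)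
    (hreg : ∀ a : A, f * a = 0 → a = 0) (hregM : ∀ m : M, f • m = 0 → m = 0)
    {ι : Type*} [Fintype ι] (e : ι → M)
    (hspan : ∀ m : M, ∃ (c : ι → A) (m' : M), m = ∑ i, c i • e i + f • m')
    (hind : ∀ c : ι → A, (∃ m', ∑ i, c i • e i = f • m') → ∀ i, f ∣ c i) :
    ∃ b : Module.Basis ι A M, ∀ i, b i = e i := by
  classical
  have hne : Ideal.span {f} ≠ ⊤ := fun htop =>
    (maximalIdeal.isMaximal A).ne_top (top_le_iff.mp (htop ▸ (Ideal.span_singleton_le_iff_mem _).mpr hf))
  have hli : LinearIndependent A e := by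
    rw [Fintype.linearIndependent_iff]
    intro c hc
    suffices ∀ n : ℕ, ∀ i, f ^ n ∣ c i by
      intro i
      have hbot := Ideal.iInf_pow_eq_bot_of_isLocalRing (Ideal.span {f}) hne
      rw [← Ideal.mem_bot, ← hbot, Submodule.mem_iInf]
      intro n
      rw [Ideal.span_singleton_pow, Ideal.mem_span_singleton]
      exact this n i
    intro n
    induction n generalizing c with
    | zero => simp
    | succ n ih =>
      choose c' hc' using hind c ⟨0, by rw [hc, smul_zero]⟩
      have h1 : ∑ i, c' i • e i = 0 := hregM _ (by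
        rw [Finset.smul_sum, ← hc]
        exact Finset.sum_congr rfl fun i _ => by rw [smul_smul, ← hc'])
      exact fun i => by rw [hc' i, pow_succ']; exact mul_dvd_mul_left f (ih c' h1 i)
  have hsp : ⊤ ≤ Submodule.span A (Set.range e) := by
    refine Submodule.le_of_le_smul_of_le_jacobson_bot (Module.finite_def.mp inferInstance)
      ((Ideal.span_singleton_le_iff_mem _).mpr hf |>.trans (maximalIdeal_le_jacobson _)) ?_
    intro m _
    obtain ⟨c, m', rfl⟩ := hspan m
    exact Submodule.add_mem_sup (Submodule.sum_mem _ fun i _ =>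
      Submodule.smul_mem _ _ (Submodule.subset_span (Set.mem_range_self i)))
      (Submodule.smul_mem_smul (Ideal.mem_span_singleton_self f) trivial)
  exact ⟨Module.Basis.mk hli hsp, fun i => Module.Basis.mk_apply hli hsp i⟩

end Groth.Purity
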