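import Mathlib
import Groth.Agent.Purity.RegPair

/-! Sections of an algebra over `D(g) ∪ D(h)`. -/

set_option autoImplicit false

universe u v

namespace Groth.Purity

variable {R : Type u} [CommRing R] {S : Type v} [CommRing S] [Algebra R S]

local notation "L" g => Localization.Away (algebraMap R S g)

/-- `(a, b, K)` represents the pair `(s, t)`. -/
def IsRep (g h : R) (p : (L g) × (L h)) (a b : S) (K : ℕ) : Prop :=
  p.1 * algebraMap R (L g) g ^ K = algebraMap S (L g) a ∧
  p.2 * algebraMap R (L h) h ^ K = algebraMap S (L h) b ∧ h ^ K • a = g ^ K • b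

theorem exists_eq_frac (g : R) (s : L g) : ∃ (a : S) (K : ℕ), s * algebraMap R (L g) g ^ K = algebraMap S (L g) a := by
  obtain ⟨⟨a, ⟨_, K, rfl⟩⟩, h⟩ := IsLocalization.surj (Submonoid.powers (algebraMap R S g)) s
  refine ⟨a, K, ?_⟩
  rw [← map_pow, IsScalarTower.algebraMap_apply R S (L g), map_pow (algebraMap R S)]
  exact h

theorem exists_pow_smul_eq (g : R) {a a' : S} (h : algebraMap S (L g) a = algebraMap S (L g) a') :
    ∃ j, g ^ j • a = g ^ j • a' := by
  obtain ⟨⟨_, j, rfl⟩, hj⟩ := (IsLocalization.eq_iff_exists (Submonoid.powers (algebraMap R S g)) _).mp h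
  exact ⟨j, by simpa [Algebra.smul_def, map_pow] using hj⟩

theorem isUnit_pow (g : R) (K : ℕ) : IsUnit (algebraMap R (L g) g ^ K) := by
  rw [IsScalarTower.algebraMap_apply R S (L g)]
  exact (IsLocalization.Away.algebraMap_isUnit (algebraMap R S g)).pow K

theorem algebraMap_smul' (g : R) (r : R) (a : S) : algebraMap S (L g) (r • a) = algebraMap R (L g) r * algebraMap S (L g) a := by
  rw [Algebra.smul_def, map_mul, ← IsScalarTower.algebraMap_apply]

variable (S) in
/-- The sections. -/
def secAlg (g h : R) : Subalgebra R ((L g) × (L h)) where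
  carrier := {p | ∃ a b K, IsRep g h p a b K}
  mul_mem' := by
    rintro p q ⟨a, b, K, h1, h2, h3⟩ ⟨a', b', K', h1', h2', h3'⟩
    refine ⟨a * a', b * b', K + K', ?_, ?_, ?_⟩
    · rw [Prod.fst_mul, map_mul, ← h1, ← h1', pow_add]; ring
    · rw [Prod.snd_mul, map_mul, ← h2, ← h2', pow_add]; ring
    · simp only [Algebra.smul_def, map_pow] at h3 h3' ⊢
      rw [pow_add, pow_add, mul_mul_mul_comm, h3, h3']; ring
  add_mem' := by
    rintro p q ⟨a, b, K, h1, h2, h3⟩ ⟨a', b', K', h1', h2', h3'⟩
    refine ⟨g ^ K' • a + g ^ K • a', h ^ K' • b + h ^ K • b', K + K', ?_, ?_, ?_⟩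
    · rw [map_add, algebraMap_smul', algebraMap_smul', ← h1, ← h1', Prod.fst_add, map_pow, map_pow]; ring
    · rw [map_add, algebraMap_smul', algebraMap_smul', ← h2, ← h2', Prod.snd_add, map_pow, map_pow]; ring
    · simp only [Algebra.smul_def, map_pow] at h3 h3' ⊢
      linear_combination (algebraMap R S h ^ K' * algebraMap R S g ^ K') * h3 +
        (algebraMap R S h ^ K * algebraMap R S g ^ K) * h3'
  algebraMap_mem' r := ⟨algebraMap R S r, algebraMap R S r, 0, by
    simp [← IsScalarTower.algebraMap_apply], by simp [← IsScalarTower.algebraMap_apply], by simp⟩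

variable {g h : R}

variable (S g h) in
/-- The map to the sections. -/
def toSec : S →ₐ[R] secAlg S g h :=
  ((IsScalarTower.toAlgHom R S (L g)).prod (IsScalarTower.toAlgHom R S (L h))).codRestrict (secAlg S g h)
    fun a => ⟨a, a, 0, by simp, by simp, by simp⟩

theorem isRep_toSec (a : S) : IsRep g h (toSec S g h a : (L g) × (L h)) a a 0 :=
  ⟨by simp [toSec], by simp [toSec], by simp⟩

theorem existsUnique_value (HR : RegPair R g h) (p : secAlg S g h) (ψ : S →ₗ[R] R) :
    ∃! r : R, ∀ (a : S) (K : ℕ), (p : (L g) × (L h)).1 * algebraMap R (L g) g ^ K = algebraMap S (L g) a →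
      g ^ K * r = ψ a := by
  obtain ⟨a, b, K, h1, h2, h3⟩ := p.2
  have h4 := congr_arg ψ h3
  rw [map_smul, map_smul, smul_eq_mul, smul_eq_mul] at h4
  obtain ⟨r, hr⟩ := HR.pow K K (ψ a) (ψ b) h4
  rw [smul_eq_mul] at hr
  refine ⟨r, fun a' K' h' => ?_, fun r' hr' => HR.cancel (k := K) ?_⟩
  · have h5 : algebraMap S (L g) (g ^ K • a') = algebraMap S (L g) (g ^ K' • a) := by
      rw [algebraMap_smul', algebraMap_smul', ← h1, ← h', map_pow, map_pow]; ring
    obtain ⟨j, hj⟩ := exists_pow_smul_eq g h5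
    have h6 := congr_arg ψ hj
    simp only [map_smul, smul_eq_mul] at h6
    refine HR.cancel (k := j + K) ?_
    rw [smul_eq_mul, smul_eq_mul, pow_add, mul_assoc, mul_assoc, h6, hr]
    ring
  · rw [smul_eq_mul, smul_eq_mul, hr' a K h1, hr]

/-- The value of a section on a linear form. -/
noncomputable def value (HR : RegPair R g h) (p : secAlg S g h) (ψ : S →ₗ[R] R) : R :=
  (existsUnique_value HR p ψ).exists.choose

theorem value_spec (HR : RegPair R g h) (p : secAlg S g h) (ψ : S →ₗ[R] R) {a : S} {K : ℕ}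
    (ha : (p : (L g) × (L h)).1 * algebraMap R (L g) g ^ K = algebraMap S (L g) a) :
    g ^ K * value HR p ψ = ψ a :=
  (existsUnique_value HR p ψ).exists.choose_spec a K ha

theorem value_eq (HR : RegPair R g h) (p : secAlg S g h) (ψ : S →ₗ[R] R) {a : S} {K : ℕ} {r : R}
    (ha : (p : (L g) × (L h)).1 * algebraMap R (L g) g ^ K = algebraMap S (L g) a) (hr : g ^ K * r = ψ a) :
    value HR p ψ = r :=
  HR.cancel (k := K) (by rw [smul_eq_mul, smul_eq_mul, value_spec HR p ψ ha, hr])

/-- The sections as the double dual. -/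
noncomputable def theta (HR : RegPair R g h) : secAlg S g h →ₗ[R] ((S →ₗ[R] R) →ₗ[R] R) where
  toFun p :=
    { toFun := value HR p
      map_add' := fun ψ ψ' => by
        obtain ⟨a, b, K, h1, -⟩ := p.2
        exact value_eq HR p _ h1 (by rw [mul_add, value_spec HR p ψ h1, value_spec HR p ψ' h1, LinearMap.add_apply])
      map_smul' := fun c ψ => by
        obtain ⟨a, b, K, h1, -⟩ := p.2
        exact value_eq HR p _ h1 (by
          rw [RingHom.id_apply, smul_eq_mul, mul_left_comm, value_spec HR p ψ h1, LinearMap.smul_apply, smul_eq_mul]) }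
  map_add' p q := LinearMap.ext fun ψ => by
    obtain ⟨a, b, K, h1, -⟩ := p.2
    obtain ⟨a', b', K', h1', -⟩ := q.2
    have h2 : ((p + q : secAlg S g h) : (L g) × (L h)).1 * algebraMap R (L g) g ^ (K + K') =
        algebraMap S (L g) (g ^ K' • a + g ^ K • a') := by
      rw [map_add, algebraMap_smul', algebraMap_smul', ← h1, ← h1', Subalgebra.coe_add, Prod.fst_add, map_pow, map_pow]
      ring
    show value HR (p + q) ψ = value HR p ψ + value HR q ψ
    refine value_eq HR _ _ h2 ?_
    rw [map_add, map_smul, map_smul, smul_eq_mul, smul_eq_mul, ← value_spec HR p ψ h1, ← value_spec HR q ψ h1']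
    ring
  map_smul' c p := LinearMap.ext fun ψ => by
    obtain ⟨a, b, K, h1, -⟩ := p.2
    have h2 : ((c • p : secAlg S g h) : (L g) × (L h)).1 * algebraMap R (L g) g ^ K = algebraMap S (L g) (c • a) := by
      rw [algebraMap_smul', ← h1, SetLike.val_smul, Prod.smul_fst, Algebra.smul_def, mul_assoc]
    show value HR (c • p) ψ = c • value HR p ψ
    refine value_eq HR _ _ h2 ?_
    rw [map_smul, smul_eq_mul, smul_eq_mul, ← value_spec HR p ψ h1]
    ring

theorem theta_spec (HR : RegPair R g h) (p : secAlg S g h) (ψ : S →ₗ[R] R) {a : S} {K : ℕ}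
    (ha : (p : (L g) × (L h)).1 * algebraMap R (L g) g ^ K = algebraMap S (L g) a) :
    g ^ K * theta HR p ψ = ψ a :=
  value_spec HR p ψ ha

theorem theta_toSec (HR : RegPair R g h) (a : S) : theta HR (toSec S g h a) = Module.Dual.eval R S a := by
  refine LinearMap.ext fun ψ => ?_
  simpa using theta_spec HR (toSec S g h a) ψ (isRep_toSec a).1

theorem injective_theta (HR : RegPair R g h) (Hg : DualBasisAt S g) (Hh : DualBasisAt S h) :
    Function.Injective (theta (S := S) HR) := by
  rw [injective_iff_map_eq_zero]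
  intro p hp
  obtain ⟨a, b, K, h1, h2, h3⟩ := p.2
  have ha : ∀ ψ : S →ₗ[R] R, ψ a = 0 := fun ψ => by rw [← theta_spec HR p ψ h1, hp]; simp
  have hb : ∀ ψ : S →ₗ[R] R, ψ b = 0 := fun ψ => HR.cancel (k := K) (by
    rw [← map_smul, ← h3, map_smul, ha, smul_zero, smul_zero])
  obtain ⟨j, hj⟩ := Hg.smul_eq_zero ha
  obtain ⟨j', hj'⟩ := Hh.smul_eq_zero hb
  refine Subtype.ext (Prod.ext ?_ ?_)
  · refine ((isUnit_pow g j).mul (isUnit_pow g K)).mul_right_cancel ?_
    rw [← mul_assoc, mul_comm _ (algebraMap R (L g) g ^ j), mul_assoc, h1, ← map_pow, ← algebraMap_smul', hj]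
    simp
  · refine ((isUnit_pow h j').mul (isUnit_pow h K)).mul_right_cancel ?_
    rw [← mul_assoc, mul_comm _ (algebraMap R (L h) h ^ j'), mul_assoc, h2, ← map_pow, ← algebraMap_smul', hj']
    simp

theorem surjective_theta (HR : RegPair R g h) (Hg : DualBasisAt S g) (Hh : DualBasisAt S h) :
    Function.Surjective (theta (S := S) HR) := by
  intro φ
  obtain ⟨K, n, x, ψ, hx⟩ := Hg
  obtain ⟨K', n', x', ψ', hx'⟩ := Hh
  let a := ∑ i, φ (ψ i) • x i
  let b := ∑ i, φ (ψ' i) • x' i
  have ha : ∀ χ : S →ₗ[R] R, χ a = g ^ K * φ χ := fun χ => (DFunLike.congr_fun (DualBasisAt.smul_bidual hx φ) χ).symm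
  have hb : ∀ χ : S →ₗ[R] R, χ b = h ^ K' * φ χ := fun χ => (DFunLike.congr_fun (DualBasisAt.smul_bidual hx' φ) χ).symm
  have hd : g ^ K • (h ^ K' • a - g ^ K • b) = 0 := by
    rw [hx]
    refine Finset.sum_eq_zero fun i _ => ?_
    rw [map_sub, map_smul, map_smul, ha, hb, smul_eq_mul, smul_eq_mul, mul_left_comm, sub_self, zero_smul]
  rw [smul_sub, sub_eq_zero, smul_smul, smul_smul, ← pow_add] at hd
  let M := 2 * K + K'
  have h1 : g ^ M • (h ^ (M - K') • b) = h ^ M • (g ^ (M - K) • a) := by
    have e1 : h ^ M = h ^ (M - K') * h ^ K' := by rw [← pow_add]; congr 1; omega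
    have e2 : g ^ (M - K) = g ^ (M - (K + K)) * g ^ K := by rw [← pow_add]; congr 1; omega
    have e3 : g ^ M = g ^ (M - (K + K)) * g ^ (K + K) := by rw [← pow_add]; congr 1; omega
    rw [e1, e2, e3]
    simp only [smul_smul]
    rw [show g ^ (M - (K + K)) * g ^ (K + K) * h ^ (M - K') =
        (g ^ (M - (K + K)) * h ^ (M - K')) * g ^ (K + K) by ring, mul_smul, ← hd, smul_smul]
    congr 1; ring
  let s : L g := algebraMap S (L g) a * ↑(isUnit_pow (S := S) g K).unit⁻¹
  let t : L h := algebraMap S (L h) b * ↑(isUnit_pow (S := S) h K').unit⁻¹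
  have hs : s * algebraMap R (L g) g ^ M = algebraMap S (L g) (g ^ (M - K) • a) := by
    rw [algebraMap_smul', map_pow, mul_comm (algebraMap R (L g) g ^ (M - K)),
      show M = K + (M - K) by omega, pow_add, show K + (M - K) - K = M - K by omega]
    linear_combination (algebraMap S (L g) a * algebraMap R (L g) g ^ (M - K)) *
      (isUnit_pow (S := S) g K).val_inv_mul
  have ht : t * algebraMap R (L h) h ^ M = algebraMap S (L h) (h ^ (M - K') • b) := by
    rw [algebraMap_smul', map_pow, mul_comm (algebraMap R (L h) h ^ (M - K')),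
      show M = K' + (M - K') by omega, pow_add, show K' + (M - K') - K' = M - K' by omega]
    linear_combination (algebraMap S (L h) b * algebraMap R (L h) h ^ (M - K')) *
      (isUnit_pow (S := S) h K').val_inv_mul
  refine ⟨⟨(s, t), g ^ (M - K) • a, h ^ (M - K') • b, M, hs, ht, h1.symm⟩, LinearMap.ext fun χ => ?_⟩
  refine value_eq HR _ χ hs ?_
  rw [map_smul, ha, smul_eq_mul, ← mul_assoc, ← pow_add, show M - K + K = M by omega]

/-- Inverting `c` at which `S` has dual bases does not see the difference between `S` and its sections. -/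
theorem toSec_almost_iso (HR : RegPair R g h) (Hg : DualBasisAt S g) (Hh : DualBasisAt S h) {c : R} (Hc : DualBasisAt S c) :
    ∃ K : ℕ, (∀ a, toSec S g h a = 0 → c ^ K • a = 0) ∧ ∀ p, c ^ K • p ∈ (toSec S g h).range := by
  obtain ⟨K, n, x, ψ, hx⟩ := Hc
  refine ⟨K, fun a ha => ?_, fun p => ⟨∑ i, theta HR p (ψ i) • x i, injective_theta HR Hg Hh ?_⟩⟩
  · rw [hx]
    refine Finset.sum_eq_zero fun i _ => ?_
    have h0 : theta HR (toSec S g h a) (ψ i) = 0 := by rw [ha]; simp
    rw [theta_toSec, Module.Dual.eval_apply] at h0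
    rw [h0, zero_smul]
  · show theta HR (toSec S g h _) = theta HR (c ^ K • p)
    rw [theta_toSec, map_smul, DualBasisAt.smul_bidual hx]

theorem finite_secAlg [IsNoetherianRing R] [Module.Finite R S] (HR : RegPair R g h) (Hg : DualBasisAt S g)
    (Hh : DualBasisAt S h) : Module.Finite R (secAlg S g h) := by
  haveI := finite_dual (A := R) (M := S)
  haveI := finite_dual (A := R) (M := S →ₗ[R] R)
  exact Module.Finite.of_injective (theta HR) (injective_theta HR Hg Hh)

theorem regPair_secAlg (HR : RegPair R g h) (Hg : DualBasisAt S g) (Hh : DualBasisAt S h) :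
    RegPair (secAlg S g h) g h :=
  RegPair.of_linearEquiv (LinearEquiv.ofBijective (theta HR) ⟨injective_theta HR Hg Hh, surjective_theta HR Hg Hh⟩)
    (HR.dual _)

end Groth.Purity
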