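import Mathlib
import Groth.Agent.Purity.Sections

/-! Nilpotent reductions and gluing on the overlap. -/

set_option autoImplicit false

universe u

namespace Groth.Purity

theorem exists_away_reduction {A S S₀ : Type u} [CommRing A] [CommRing S] [CommRing S₀] [Algebra A S] [Algebra A S₀]
    (q : S →ₐ[A] S₀) (hq : Function.Surjective q) (hnil : IsNilpotent (RingHom.ker q.toRingHom)) (c : S)
    (T T₀ : Type u) [CommRing T] [CommRing T₀] [Algebra S T] [Algebra S₀ T₀] [Algebra A T] [Algebra A T₀]
    [IsScalarTower A S T] [IsScalarTower A S₀ T₀] [IsLocalization.Away c T] [IsLocalization.Away (q c) T₀] :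
    ∃ m : T →ₐ[A] T₀, Function.Surjective m ∧ IsNilpotent (RingHom.ker (m : T →+* T₀)) ∧
      ∀ a, m (algebraMap S T a) = algebraMap S₀ T₀ (q a) := by
  let m := IsLocalization.Away.mapₐ T T₀ q c
  have hm : ∀ a, m (algebraMap S T a) = algebraMap S₀ T₀ (q a) := fun a => by simp [m, IsLocalization.Away.map, IsLocalization.map_eq]
  refine ⟨m, IsLocalization.Away.mapₐ_surjective_of_surjective c hq, ?_, hm⟩
  have hle : RingHom.ker (m : T →+* T₀) ≤ (RingHom.ker q.toRingHom).map (algebraMap S T) := by
    intro x hx
    obtain ⟨⟨a, ⟨_, j, rfl⟩⟩, h⟩ := IsLocalization.surj (Submonoid.powers c) x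
    have h1 : algebraMap S₀ T₀ (q a) = 0 := by
      rw [← hm, ← h, map_mul, show m x = 0 from hx, zero_mul]
    obtain ⟨⟨_, i, rfl⟩, hi⟩ := (IsLocalization.map_eq_zero_iff (Submonoid.powers (q c)) T₀ _).mp h1
    have h2 : c ^ i * a ∈ RingHom.ker q.toRingHom := by
      show q (c ^ i * a) = 0
      rw [map_mul, map_pow]; exact hi
    have hu : IsUnit (algebraMap S T (c ^ (i + j))) := by
      rw [map_pow]; exact (IsLocalization.Away.algebraMap_isUnit c).pow _
    rw [← Ideal.unit_mul_mem_iff_mem _ hu, pow_add, map_mul, mul_assoc, mul_comm (algebraMap S T (c ^ j)), h, ← map_mul]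
    exact Ideal.mem_map_of_mem _ h2
  obtain ⟨N, hN⟩ := hnil
  refine ⟨N, le_bot_iff.mp ((Ideal.pow_right_mono hle N).trans ?_)⟩
  rw [← Ideal.map_pow, hN, Submodule.zero_eq_bot, Ideal.map_bot]

variable {R : Type u} [CommRing R] {S : Type u} [CommRing S] [Algebra R S] (g h : R)

local notation "L" g => Localization.Away (algebraMap R S g)

variable (S) in
/-- Restriction to the overlap. -/
noncomputable def toOverlapL : (L g) →ₐ[R] Localization.Away (algebraMap R S g * algebraMap R S h) :=
  IsLocalization.liftAlgHom (M := Submonoid.powers (algebraMap R S g))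
    (f := IsScalarTower.toAlgHom R S (Localization.Away (algebraMap R S g * algebraMap R S h))) (by
      rintro ⟨_, j, rfl⟩
      show IsUnit (algebraMap S _ (algebraMap R S g ^ j))
      rw [map_pow]
      refine IsUnit.pow j (isUnit_of_mul_isUnit_left
        (y := algebraMap S (Localization.Away (algebraMap R S g * algebraMap R S h)) (algebraMap R S h)) ?_)
      exact (congr_arg IsUnit (map_mul (algebraMap S (Localization.Away (algebraMap R S g * algebraMap R S h))) _ _)).mp
        (IsLocalization.Away.algebraMap_isUnit _))

variable (S) in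
/-- Restriction to the overlap. -/
noncomputable def toOverlapR : (L h) →ₐ[R] Localization.Away (algebraMap R S g * algebraMap R S h) :=
  IsLocalization.liftAlgHom (M := Submonoid.powers (algebraMap R S h))
    (f := IsScalarTower.toAlgHom R S (Localization.Away (algebraMap R S g * algebraMap R S h))) (by
      rintro ⟨_, j, rfl⟩
      show IsUnit (algebraMap S _ (algebraMap R S h ^ j))
      rw [map_pow]
      refine IsUnit.pow j (isUnit_of_mul_isUnit_right
        (x := algebraMap S (Localization.Away (algebraMap R S g * algebraMap R S h)) (algebraMap R S g)) ?_)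
      exact (congr_arg IsUnit (map_mul (algebraMap S (Localization.Away (algebraMap R S g * algebraMap R S h))) _ _)).mp
        (IsLocalization.Away.algebraMap_isUnit _))

theorem toOverlapL_eq (a : S) : toOverlapL S g h (algebraMap S (L g) a) = algebraMap S _ a :=
  IsLocalization.lift_eq _ _

theorem toOverlapR_eq (a : S) : toOverlapR S g h (algebraMap S (L h) a) = algebraMap S _ a :=
  IsLocalization.lift_eq _ _

theorem mem_secAlg_iff (p : (L g) × (L h)) :
    p ∈ secAlg S g h ↔ toOverlapL S g h p.1 = toOverlapR S g h p.2 := by
  constructor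
  · rintro ⟨a, b, K, h1, h2, h3⟩
    have e1 := congr_arg (toOverlapL S g h) h1
    have e2 := congr_arg (toOverlapR S g h) h2
    rw [map_mul, map_pow, AlgHom.commutes, toOverlapL_eq] at e1
    rw [map_mul, map_pow, AlgHom.commutes, toOverlapR_eq] at e2
    let U := algebraMap R (Localization.Away (algebraMap R S g * algebraMap R S h))
    have hu : IsUnit (U g ^ K * U h ^ K) := by
      rw [← mul_pow]
      have hgh : U g * U h = algebraMap S (Localization.Away (algebraMap R S g * algebraMap R S h))
          (algebraMap R S g * algebraMap R S h) := by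
        simp only [U, map_mul, ← IsScalarTower.algebraMap_apply]
      rw [hgh]
      exact (IsLocalization.Away.algebraMap_isUnit (algebraMap R S g * algebraMap R S h)).pow K
    have e3 := congr_arg (algebraMap S (Localization.Away (algebraMap R S g * algebraMap R S h))) h3
    simp only [Algebra.smul_def, map_mul, map_pow, ← IsScalarTower.algebraMap_apply] at e3
    refine hu.mul_right_cancel ?_
    linear_combination U h ^ K * e1 - U g ^ K * e2 + e3
  · intro hp
    obtain ⟨a, K, h1⟩ := exists_eq_frac g p.1
    obtain ⟨b, K', h2⟩ := exists_eq_frac h p.2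
    have e1 := congr_arg (toOverlapL S g h) h1
    have e2 := congr_arg (toOverlapR S g h) h2
    rw [map_mul, map_pow, AlgHom.commutes, toOverlapL_eq] at e1
    rw [map_mul, map_pow, AlgHom.commutes, toOverlapR_eq] at e2
    let W := Localization.Away (algebraMap R S g * algebraMap R S h)
    have e3 : algebraMap S W (algebraMap R S h ^ K' * a) = algebraMap S W (algebraMap R S g ^ K * b) := by
      simp only [map_mul, map_pow, ← IsScalarTower.algebraMap_apply]
      rw [← e1, ← e2, hp]; ring
    obtain ⟨⟨_, j, rfl⟩, hj⟩ := (IsLocalization.eq_iff_exists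
      (Submonoid.powers (algebraMap R S g * algebraMap R S h)) W).mp e3
    refine ⟨g ^ (K' + j) • a, h ^ (K + j) • b, K + K' + j, ?_, ?_, ?_⟩
    · rw [algebraMap_smul', ← h1, map_pow, show K + K' + j = K + (K' + j) by ring, pow_add]; ring
    · rw [algebraMap_smul', ← h2, map_pow, show K + K' + j = K' + (K + j) by ring, pow_add]; ring
    · simp only [Algebra.smul_def, map_pow]
      simp only at hj
      rw [show K + K' + j = K' + (K + j) by ring, pow_add (algebraMap R S h) K' (K + j),
        show K' + (K + j) = (K' + j) + K by ring, pow_add (algebraMap R S g) (K' + j) K,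
        pow_add (algebraMap R S h) K j, pow_add (algebraMap R S g) K' j]
      rw [mul_pow] at hj
      linear_combination (algebraMap R S h ^ K * algebraMap R S g ^ K') * hj

end Groth.Purity
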