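import Mathlib
import Groth.Agent.Purity.RegPair
import Groth.Agent.Misc1.NoetherDiff

/-! Algebra lemmas for purity. -/

set_option autoImplicit false

universe u

open TensorProduct

namespace Groth.Purity

variable {A : Type u} [CommRing A] {B : Type u} [CommRing B] [Algebra A B]

theorem dualBasisAt_of_flat [IsNoetherianRing A] [Module.Finite A B] (g : A)
    [Module.Flat A (Localization.Away (algebraMap A B g))] : DualBasisAt B g := by
  classical
  haveI : Module.FinitePresentation A B := Module.finitePresentation_of_finite A B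
  let L := Localization.Away (algebraMap A B g)
  let ι : B →ₗ[A] L := (IsScalarTower.toAlgHom A B L).toLinearMap
  obtain ⟨k, h1, h2, hh⟩ := Module.Flat.exists_factorization_of_finitePresentation ι
  have hy : ∀ j : Fin k, ∃ (y : B) (N : ℕ),
      h2 (Finsupp.single j 1) * algebraMap B L (algebraMap A B g ^ N) = algebraMap B L y := by
    intro j
    obtain ⟨⟨y, ⟨_, N, rfl⟩⟩, h⟩ := IsLocalization.surj (Submonoid.powers (algebraMap A B g)) (h2 (Finsupp.single j 1))
    exact ⟨y, N, h⟩
  choose y N hy using hy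
  let N0 := Finset.univ.sup N
  let y' : Fin k → B := fun j => g ^ (N0 - N j) • y j
  have hy' : ∀ j, algebraMap B L (y' j) = g ^ N0 • h2 (Finsupp.single j 1) := by
    intro j
    have hle : N j ≤ N0 := Finset.le_sup (Finset.mem_univ j)
    show algebraMap B L (g ^ (N0 - N j) • y j) = _
    rw [Algebra.smul_def, Algebra.smul_def, IsScalarTower.algebraMap_apply A B L, map_mul (algebraMap B L), ← hy j,
      show g ^ N0 = g ^ (N0 - N j) * g ^ N j by rw [← pow_add, Nat.sub_add_cancel hle], map_mul (algebraMap A B),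
      map_mul (algebraMap B L), map_pow (algebraMap A B) g (N j)]
    ring
  let ψ : Fin k → (B →ₗ[A] A) := fun j => (Finsupp.lapply j).comp h1
  let D : B →ₗ[A] B := (g ^ N0) • LinearMap.id - ∑ j, (ψ j).smulRight (y' j)
  have hD : ∀ m, algebraMap B L (D m) = 0 := by
    intro m
    have h3 : ι m = ∑ j, h1 m j • h2 (Finsupp.single j 1) := by
      rw [hh, LinearMap.comp_apply]
      conv_lhs => rw [← Finsupp.univ_sum_single (h1 m)]
      rw [map_sum]
      refine Finset.sum_congr rfl fun j _ => ?_
      rw [← map_smul, Finsupp.smul_single, smul_eq_mul, mul_one]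
    show ι (D m) = 0
    simp only [D, LinearMap.sub_apply, LinearMap.smul_apply, LinearMap.id_apply, LinearMap.sum_apply,
      LinearMap.smulRight_apply, map_sub, map_smul, map_sum]
    rw [h3, Finset.smul_sum, sub_eq_zero]
    refine Finset.sum_congr rfl fun j _ => ?_
    show g ^ N0 • h1 m j • h2 (Finsupp.single j 1) = ψ j m • algebraMap B L (y' j)
    rw [hy', smul_comm]; rfl
  obtain ⟨s, hs⟩ := Module.Finite.fg_top (R := A) (M := B)
  have hkill : ∀ b : B, ∃ j, g ^ j • D b = 0 := fun b => by
    obtain ⟨⟨_, j, rfl⟩, hj⟩ := (IsLocalization.map_eq_zero_iff (Submonoid.powers (algebraMap A B g)) L _).mp (hD b)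
    exact ⟨j, by simpa [Algebra.smul_def, map_pow] using hj⟩
  choose J hJ using hkill
  let J0 := s.sup J
  have hz : (g ^ J0) • D = 0 := LinearMap.ext_on hs (fun b hb => by
    show g ^ J0 • D b = 0
    show g ^ s.sup J • D b = 0
    rw [← Nat.sub_add_cancel (Finset.le_sup (f := J) hb), pow_add, mul_smul, hJ, smul_zero])
  refine ⟨J0 + N0, k, fun j => g ^ J0 • y' j, ψ, fun m => ?_⟩
  have := DFunLike.congr_fun hz m
  simp only [D, LinearMap.smul_apply, LinearMap.sub_apply, LinearMap.id_apply, LinearMap.sum_apply,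
    LinearMap.smulRight_apply, LinearMap.zero_apply, smul_sub, sub_eq_zero, Finset.smul_sum, smul_smul] at this
  rw [pow_add, this]
  exact Finset.sum_congr rfl fun j _ => by simp only [y', smul_smul]; congr 1; ring

theorem mk_smul (I : Ideal A) (r : A) (b : B) :
    Ideal.Quotient.mk (I.map (algebraMap A B)) (r • b) =
      Ideal.Quotient.mk I r • Ideal.Quotient.mk (I.map (algebraMap A B)) b := by
  rw [Algebra.smul_def, Algebra.smul_def, map_mul]
  rfl

/-- Reduction of linear forms. -/
noncomputable def redDual (I : Ideal A) (χ : B →ₗ[A] A) : (B ⧸ I.map (algebraMap A B)) →ₗ[A ⧸ I] A ⧸ I where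
  toFun := ((Submodule.restrictScalars A (I.map (algebraMap A B))).liftQ
      ((Ideal.Quotient.mkₐ A I).toLinearMap.comp χ) fun b hb => by
    rw [LinearMap.mem_ker, LinearMap.comp_apply]
    rw [Submodule.restrictScalars_mem, Ideal.map] at hb
    suffices ∀ c : B, χ (c * b) ∈ I by
      show Ideal.Quotient.mk I (χ b) = 0
      rw [Ideal.Quotient.eq_zero_iff_mem]
      simpa using this 1
    induction hb using Submodule.span_induction with
    | mem x hx =>
      obtain ⟨i, hi, rfl⟩ := hx
      intro c
      rw [mul_comm, ← Algebra.smul_def, map_smul, smul_eq_mul]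
      exact I.mul_mem_right _ hi
    | zero => simp
    | add x y _ _ hx hy => intro c; rw [mul_add, map_add]; exact add_mem (hx c) (hy c)
    | smul t x _ hx => intro c; rw [smul_eq_mul, ← mul_assoc]; exact hx _).toFun
  map_add' x y := LinearMap.map_add _ x y
  map_smul' r x := by
    obtain ⟨r, rfl⟩ := Ideal.Quotient.mk_surjective r
    obtain ⟨b, rfl⟩ := Ideal.Quotient.mk_surjective x
    rw [RingHom.id_apply, ← mk_smul]
    show Ideal.Quotient.mk I (χ (r • b)) = Ideal.Quotient.mk I r • Ideal.Quotient.mk I (χ b)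
    rw [map_smul, smul_eq_mul, smul_eq_mul, map_mul]

theorem redDual_mk (I : Ideal A) (χ : B →ₗ[A] A) (b : B) :
    redDual I χ (Ideal.Quotient.mk _ b) = Ideal.Quotient.mk I (χ b) := rfl

theorem redDual_add (I : Ideal A) (χ χ' : B →ₗ[A] A) : redDual I (χ + χ') = redDual I χ + redDual I χ' :=
  LinearMap.ext fun x => by
    obtain ⟨b, rfl⟩ := Ideal.Quotient.mk_surjective x
    simp [redDual_mk]

theorem redDual_smul (I : Ideal A) (r : A) (χ : B →ₗ[A] A) : redDual I (r • χ) = Ideal.Quotient.mk I r • redDual I χ :=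
  LinearMap.ext fun x => by
    obtain ⟨b, rfl⟩ := Ideal.Quotient.mk_surjective x
    simp [redDual_mk]

theorem DualBasisAt.quotient {g : A} (H : DualBasisAt B g) (I : Ideal A) :
    DualBasisAt (B ⧸ I.map (algebraMap A B)) (Ideal.Quotient.mk I g) := by
  obtain ⟨K, n, x, ψ, h⟩ := H
  refine ⟨K, n, fun i => Ideal.Quotient.mk _ (x i), fun i => redDual I (ψ i), fun m => ?_⟩
  obtain ⟨b, rfl⟩ := Ideal.Quotient.mk_surjective m
  rw [← map_pow, ← mk_smul, h, map_sum]
  simp [redDual_mk, mk_smul]

theorem etale_away_quotient (I : Ideal A) (g : A) [Algebra.Etale A (Localization.Away (algebraMap A B g))] :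
    Algebra.Etale (A ⧸ I)
      (Localization.Away (algebraMap (A ⧸ I) (B ⧸ I.map (algebraMap A B)) (Ideal.Quotient.mk I g))) := by
  let S := B ⧸ I.map (algebraMap A B)
  let L := Localization.Away (algebraMap A B g)
  let M := Localization.Away (algebraMap (A ⧸ I) S (Ideal.Quotient.mk I g))
  let toM : B →ₐ[A] M := (IsScalarTower.toAlgHom A S M).comp (Ideal.Quotient.mkₐ A _)
  let φ : L →ₐ[A] M := IsLocalization.liftAlgHom (M := Submonoid.powers (algebraMap A B g)) (f := toM) (by
    rintro ⟨_, j, rfl⟩
    show IsUnit (toM (algebraMap A B g ^ j))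
    rw [map_pow]
    exact ((IsLocalization.Away.algebraMap_isUnit (algebraMap (A ⧸ I) S (Ideal.Quotient.mk I g))).pow j))
  let F : (A ⧸ I) ⊗[A] L →ₐ[A ⧸ I] M := Algebra.TensorProduct.lift (Algebra.ofId _ _) φ (fun _ _ => .all _ _)
  let inc : B →ₐ[A] (A ⧸ I) ⊗[A] L := Algebra.TensorProduct.includeRight.comp (IsScalarTower.toAlgHom A B L)
  have hI : I.map (algebraMap A B) ≤ RingHom.ker inc.toRingHom := by
    rw [Ideal.map_le_iff_le_comap]
    intro x hx
    show inc (algebraMap A B x) = 0
    rw [inc.commutes, IsScalarTower.algebraMap_apply A (A ⧸ I) ((A ⧸ I) ⊗[A] L), Ideal.Quotient.algebraMap_eq,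
      Ideal.Quotient.eq_zero_iff_mem.mpr hx, map_zero]
  let sb : S →ₐ[A ⧸ I] (A ⧸ I) ⊗[A] L :=
    { Ideal.Quotient.lift _ inc.toRingHom (fun a ha => hI ha) with
      commutes' := fun r => by
        obtain ⟨r, rfl⟩ := Ideal.Quotient.mk_surjective r
        show inc (algebraMap A B r) = _
        rw [inc.commutes]; rfl }
  let G : M →ₐ[A ⧸ I] (A ⧸ I) ⊗[A] L := IsLocalization.liftAlgHom
    (M := Submonoid.powers (algebraMap (A ⧸ I) S (Ideal.Quotient.mk I g))) (f := sb) (by
    rintro ⟨_, j, rfl⟩
    show IsUnit (sb (algebraMap (A ⧸ I) S (Ideal.Quotient.mk I g) ^ j))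
    rw [map_pow]
    exact (((IsLocalization.Away.algebraMap_isUnit (S := L) (algebraMap A B g)).map
      (Algebra.TensorProduct.includeRight (R := A) (A := A ⧸ I))).pow j))
  have hG : ∀ b : B, G (toM b) = inc b := fun b => IsLocalization.lift_eq _ _
  have hφ : ∀ b : B, φ (algebraMap B L b) = toM b := fun b => IsLocalization.lift_eq _ _
  refine Algebra.Etale.of_equiv (AlgEquiv.ofAlgHom F G ?_ ?_)
  · refine IsLocalization.algHom_ext (Submonoid.powers (algebraMap (A ⧸ I) S (Ideal.Quotient.mk I g))) ?_
    refine AlgHom.ext fun x => ?_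
    obtain ⟨b, rfl⟩ := Ideal.Quotient.mk_surjective x
    show F (G (toM b)) = toM b
    rw [hG]
    show F (1 ⊗ₜ algebraMap B L b) = toM b
    rw [Algebra.TensorProduct.lift_tmul, map_one, one_mul, hφ]
  · refine Algebra.TensorProduct.ext (Subsingleton.elim _ _) ?_
    refine IsLocalization.algHom_ext (Submonoid.powers (algebraMap A B g)) ?_
    refine AlgHom.ext fun b => ?_
    show G (F (1 ⊗ₜ algebraMap B L b)) = (1 : A ⧸ I) ⊗ₜ algebraMap B L b
    rw [Algebra.TensorProduct.lift_tmul, map_one, one_mul, hφ, hG]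
    rfl

theorem etale_away_of_almost_iso {S E : Type u} [CommRing S] [CommRing E] [Algebra A S] [Algebra A E] (f : S →ₐ[A] E) (c : A)
    (hker : ∃ K : ℕ, (∀ a, f a = 0 → c ^ K • a = 0) ∧ ∀ p, c ^ K • p ∈ f.range)
    [Algebra.Etale A (Localization.Away (algebraMap A S c))] :
    Algebra.Etale A (Localization.Away (algebraMap A E c)) := by
  obtain ⟨K, hk, hr⟩ := hker
  have : IsLocalization.Away (f (algebraMap A S c)) (Localization.Away (algebraMap A E c)) := by
    rw [f.commutes]; infer_instance
  let m := IsLocalization.Away.mapₐ (Localization.Away (algebraMap A S c)) (Localization.Away (algebraMap A E c)) f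
    (algebraMap A S c)
  refine Algebra.Etale.of_equiv (AlgEquiv.ofBijective m ⟨?_, ?_⟩)
  · refine (IsLocalization.Away.map_injective_iff (Q := Localization.Away (algebraMap A E c)) f.toRingHom (algebraMap A S c)).mpr ?_
    exact fun a ha => ⟨K, by simpa [Algebra.smul_def, map_pow] using hk a ha⟩
  · refine (IsLocalization.Away.map_surjective_iff (Localization.Away (algebraMap A S c)) (Localization.Away (algebraMap A E c)) f.toRingHom (algebraMap A S c)).mpr ?_
    intro p
    obtain ⟨b, hb⟩ := hr p
    refine ⟨b, K, ?_⟩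
    show f b = f (algebraMap A S c) ^ K * p
    rw [f.commutes, ← map_pow, ← Algebra.smul_def]
    exact hb

/-- A basis reduces to a basis. -/
theorem exists_basis_quotient {ι : Type*} [Fintype ι] (b : Module.Basis ι A B) (I : Ideal A) :
    ∃ b' : Module.Basis ι (A ⧸ I) (B ⧸ I.map (algebraMap A B)), ∀ i, b' i = Ideal.Quotient.mk _ (b i) := by
  classical
  have hli : LinearIndependent (A ⧸ I) (fun i => Ideal.Quotient.mk (I.map (algebraMap A B)) (b i)) := by
    rw [Fintype.linearIndependent_iff]
    intro c hc i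
    have h1 := congr_arg (redDual I (b.coord i)) hc
    rw [map_sum, map_zero] at h1
    simpa [redDual_mk, Finsupp.single_apply, Finset.sum_ite_eq'] using h1
  have hsp : ⊤ ≤ Submodule.span (A ⧸ I) (Set.range fun i => Ideal.Quotient.mk (I.map (algebraMap A B)) (b i)) := by
    intro x _
    obtain ⟨y, rfl⟩ := Ideal.Quotient.mk_surjective x
    rw [← b.sum_repr y, map_sum]
    exact Submodule.sum_mem _ fun i _ => by
      rw [mk_smul]; exact Submodule.smul_mem _ _ (Submodule.subset_span (Set.mem_range_self i))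
  exact ⟨Module.Basis.mk hli hsp, fun i => Module.Basis.mk_apply hli hsp i⟩

theorem discr_quotient {ι : Type*} [Fintype ι] [DecidableEq ι] (b : Module.Basis ι A B) (I : Ideal A)
    (b' : Module.Basis ι (A ⧸ I) (B ⧸ I.map (algebraMap A B))) (hb' : ∀ i, b' i = Ideal.Quotient.mk _ (b i)) :
    Algebra.discr (A ⧸ I) b' = Ideal.Quotient.mk I (Algebra.discr A b) := by
  have hrepr : ∀ (x : B) (i : ι), b'.repr (Ideal.Quotient.mk _ x) i = Ideal.Quotient.mk I (b.repr x i) := by
    intro x i
    conv_lhs => rw [← b.sum_repr x]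
    rw [map_sum, map_sum, Finset.sum_congr rfl fun j _ => by rw [mk_smul, ← hb', map_smul, b'.repr_self]]
    simp [Finsupp.single_apply, Finset.sum_ite_eq']
  have htr : ∀ x : B, Algebra.trace (A ⧸ I) (B ⧸ I.map (algebraMap A B)) (Ideal.Quotient.mk _ x) =
      Ideal.Quotient.mk I (Algebra.trace A B x) := by
    intro x
    rw [Algebra.trace_eq_matrix_trace b', Algebra.trace_eq_matrix_trace b, Matrix.trace, Matrix.trace, map_sum]
    refine Finset.sum_congr rfl fun i _ => ?_
    rw [Matrix.diag_apply, Matrix.diag_apply, Algebra.leftMulMatrix_eq_repr_mul, Algebra.leftMulMatrix_eq_repr_mul, hb',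
      ← map_mul, hrepr]
  rw [Algebra.discr_def, Algebra.discr_def, RingHom.map_det]
  congr 1
  ext i j
  simp only [RingHom.mapMatrix_apply, Matrix.map_apply, Algebra.traceMatrix_apply, Algebra.traceForm_apply, hb',
    ← map_mul, htr]

theorem isUnit_localization_discr {ι : Type*} [Fintype ι] [DecidableEq ι] (b : Module.Basis ι A B) (g : A)
    [Algebra.Etale A (Localization.Away (algebraMap A B g))] :
    IsUnit (algebraMap A (Localization.Away g) (Algebra.discr A b)) := by
  let Ag := Localization.Away g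
  let L := Localization.Away (algebraMap A B g)
  let φ : Ag →ₐ[A] L := IsLocalization.liftAlgHom (M := Submonoid.powers g) (f := Algebra.ofId A L) (by
    rintro ⟨_, j, rfl⟩
    show IsUnit (algebraMap A L (g ^ j))
    rw [map_pow, IsScalarTower.algebraMap_apply A B L]
    exact (IsLocalization.Away.algebraMap_isUnit (algebraMap A B g)).pow j)
  letI : Algebra Ag L := φ.toRingHom.toAlgebra
  haveI : IsScalarTower A Ag L := IsScalarTower.of_algebraMap_eq fun r => (φ.commutes r).symm
  haveI : IsLocalization (Algebra.algebraMapSubmonoid B (Submonoid.powers g)) L := inferInstance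
  let bg := b.localizationLocalization Ag (Submonoid.powers g) L
  haveI : Module.Free Ag L := Module.Free.of_basis bg
  haveI : Module.Finite Ag L := Module.Finite.of_basis bg
  haveI : Algebra.FormallyEtale Ag L := by
    haveI : IsLocalization ((Submonoid.powers g).map (algebraMap A B)) L := inferInstance
    exact Algebra.FormallyEtale.localization_base (Submonoid.powers g)
  haveI : Algebra.Etale Ag L :=
    ⟨inferInstance, Algebra.FinitePresentation.of_restrict_scalars_finitePresentation A Ag L⟩
  have h := (Groth.Misc1.ND.etale_iff_isUnit_discr bg).mp ‹_›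
  rwa [Algebra.discr_localizationLocalization] at h

end Groth.Purity
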