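import Mathlib
import Groth.Agent.Purity.RegPair
import Groth.Agent.Purity.EtaleAux
import Groth.Agent.Ega4Algebra1.RegularLocal

/-! Parameters of regular local rings; the free case of purity. -/

set_option autoImplicit false

universe u

open IsLocalRing

namespace Groth.Purity

variable {A : Type u} [CommRing A]

theorem regPair_pow_quotient {f g h : A} (hf : ∀ a, f * a = 0 → a = 0)
    (h1 : RegPair (A ⧸ Ideal.span {f}) (Ideal.Quotient.mk (Ideal.span {f}) g) (Ideal.Quotient.mk (Ideal.span {f}) h)) :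
    ∀ n : ℕ, RegPair (A ⧸ Ideal.span {f ^ (n + 1)}) (Ideal.Quotient.mk (Ideal.span {f ^ (n + 1)}) g)
      (Ideal.Quotient.mk (Ideal.span {f ^ (n + 1)}) h) := by
  have hr : ∀ a, f ∣ g * a → f ∣ a := by
    intro a ha
    rw [← Ideal.mem_span_singleton, ← Ideal.Quotient.eq_zero_iff_mem] at ha ⊢
    exact h1.reg _ (by rw [smul_eq_mul, ← map_mul]; exact ha)
  have hm : ∀ a b, f ∣ h * a - g * b → ∃ c, f ∣ a - g * c := by
    intro a b hab
    rw [← Ideal.mem_span_singleton, ← Ideal.Quotient.eq] at hab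
    obtain ⟨c, hc⟩ := h1.mem (Ideal.Quotient.mk _ a) (Ideal.Quotient.mk _ b) (by
      rw [smul_eq_mul, smul_eq_mul, ← map_mul, ← map_mul]; exact hab)
    obtain ⟨c, rfl⟩ := Ideal.Quotient.mk_surjective c
    rw [smul_eq_mul, ← map_mul, Ideal.Quotient.eq, Ideal.mem_span_singleton] at hc
    exact ⟨c, hc⟩
  have hr' : ∀ (n : ℕ) a, f ^ (n + 1) ∣ g * a → f ^ (n + 1) ∣ a := by
    intro n
    induction n with
    | zero => simpa using hr
    | succ n ih =>
      intro a ha
      obtain ⟨a', rfl⟩ := hr a ((dvd_pow_self f (Nat.succ_ne_zero _)).trans ha)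
      obtain ⟨q, hq⟩ := ha
      have : g * a' = f ^ (n + 1) * q := sub_eq_zero.mp (hf _ (by linear_combination hq))
      rw [pow_succ']
      exact mul_dvd_mul_left f (ih a' ⟨q, this⟩)
  have hm' : ∀ (n : ℕ) a b, f ^ (n + 1) ∣ h * a - g * b → ∃ c, f ^ (n + 1) ∣ a - g * c := by
    intro n
    induction n with
    | zero => simpa using hm
    | succ n ih =>
      intro a b hab
      obtain ⟨q, hq⟩ := hab
      obtain ⟨a1, a2, ha⟩ := hm a b ⟨f ^ (n + 1) * q, by rw [hq]; ring⟩
      obtain ⟨w, hw⟩ := hr (h * a1 - b) ⟨f ^ (n + 1) * q - h * a2, by linear_combination hq - h * ha⟩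
      have h2 : h * a2 + g * w = f ^ (n + 1) * q := sub_eq_zero.mp (hf _ (by linear_combination hq - h * ha - g * hw))
      obtain ⟨a3, t, ha3⟩ := ih a2 (-w) ⟨q, by linear_combination h2⟩
      exact ⟨a1 + f * a3, t, by linear_combination ha + f * ha3⟩
  intro n
  refine ⟨fun m hm0 => ?_, fun a b hab => ?_⟩
  · obtain ⟨m, rfl⟩ := Ideal.Quotient.mk_surjective m
    rw [smul_eq_mul, ← map_mul, Ideal.Quotient.eq_zero_iff_mem, Ideal.mem_span_singleton] at hm0
    rw [Ideal.Quotient.eq_zero_iff_mem, Ideal.mem_span_singleton]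
    exact hr' n m hm0
  · obtain ⟨a, rfl⟩ := Ideal.Quotient.mk_surjective a
    obtain ⟨b, rfl⟩ := Ideal.Quotient.mk_surjective b
    rw [smul_eq_mul, smul_eq_mul, ← map_mul, ← map_mul, Ideal.Quotient.eq, Ideal.mem_span_singleton] at hab
    obtain ⟨c, hc⟩ := hm' n a b hab
    exact ⟨Ideal.Quotient.mk _ c, by rw [smul_eq_mul, ← map_mul, Ideal.Quotient.eq, Ideal.mem_span_singleton]; exact hc⟩

variable [IsRegularLocalRing A]

theorem exists_parameter {d : ℕ} (hd : ringKrullDim A = ((d + 1 : ℕ) : WithBot ℕ∞)) :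
    ∃ f ∈ maximalIdeal A, f ≠ 0 ∧ IsRegularLocalRing (A ⧸ Ideal.span {f}) ∧
      ringKrullDim (A ⧸ Ideal.span {f}) = d := by
  have := Groth.Ega4Algebra1.isDomain_of_isRegularLocalRing A
  have hbot : maximalIdeal A ≠ ⊥ := fun h => by
    rw [← isField_iff_maximalIdeal_eq] at h
    rw [ringKrullDim_eq_zero_of_isField h] at hd
    norm_cast at hd
  obtain ⟨f, hf, hf2⟩ := SetLike.not_le_iff_exists.mp (Groth.Ega4Algebra1.maximalIdeal_not_le_sq hbot)
  obtain ⟨h1, h2⟩ := Groth.Ega4Algebra1.isRegularLocalRing_quotient_span_singleton hf hf2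
  refine ⟨f, hf, fun h0 => hf2 (h0 ▸ zero_mem _), h1, ?_⟩
  obtain ⟨a, ha⟩ := WithBot.ne_bot_iff_exists.mp (ringKrullDim_ne_bot (R := A ⧸ Ideal.span {f}))
  rw [← ha, hd] at h2
  rw [← ha]
  rcases eq_or_ne a ⊤ with rfl | hne
  · rw [← WithBot.coe_one, ← WithBot.coe_add, top_add] at h2
    exact absurd h2 (by exact_mod_cast ENat.top_ne_coe (d + 1))
  · obtain ⟨e, rfl⟩ := ENat.ne_top_iff_exists.mp hne
    norm_cast at h2 ⊢
    omega

omit [IsRegularLocalRing A] in
theorem mem_maximalIdeal_of_mk [IsLocalRing A] {I : Ideal A} [IsLocalRing (A ⧸ I)] {c : A}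
    (hc : Ideal.Quotient.mk I c ∈ maximalIdeal (A ⧸ I)) : c ∈ maximalIdeal A := fun hu => hc (hu.map _)

omit [IsRegularLocalRing A] in
theorem mk_mem_maximalIdeal [IsLocalRing A] {I : Ideal A} [IsLocalRing (A ⧸ I)] (hI : I ≤ maximalIdeal A) {c : A}
    (hc : c ∈ maximalIdeal A) : Ideal.Quotient.mk I c ∈ maximalIdeal (A ⧸ I) := by
  rintro ⟨u, hu⟩
  obtain ⟨v, hv⟩ := Ideal.Quotient.mk_surjective ((u⁻¹ : (A ⧸ I)ˣ) : A ⧸ I)
  have h1 : Ideal.Quotient.mk I (c * v) = Ideal.Quotient.mk I 1 := by rw [map_mul, hv, ← hu, Units.mul_inv, map_one]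
  have h2 := (maximalIdeal A).sub_mem (Ideal.mul_mem_right v _ hc) (hI (Ideal.Quotient.eq.mp h1))
  rw [sub_sub_cancel] at h2
  exact (maximalIdeal.isMaximal A).ne_top ((Ideal.eq_top_iff_one _).mpr h2)

/-- A regular pair exists in a regular local ring of dimension at least two. -/
theorem exists_regPair {d : ℕ} (hd : ringKrullDim A = ((d + 2 : ℕ) : WithBot ℕ∞)) :
    ∃ g ∈ maximalIdeal A, g ≠ 0 ∧ ∃ h ∈ maximalIdeal A, RegPair A g h ∧ IsRegularLocalRing (A ⧸ Ideal.span {g}) ∧
      (d = 0 → maximalIdeal A = Ideal.span {g, h}) := by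
  have := Groth.Ega4Algebra1.isDomain_of_isRegularLocalRing A
  obtain ⟨g, hg, hg0, hreg, hd'⟩ := exists_parameter (d := d + 1) hd
  obtain ⟨hb, hbm, hb0, hregJ, hdim⟩ := exists_parameter (A := A ⧸ Ideal.span {g}) (d := d) hd'
  have := Groth.Ega4Algebra1.isDomain_of_isRegularLocalRing (A ⧸ Ideal.span {g})
  obtain ⟨h, rfl⟩ := Ideal.Quotient.mk_surjective hb
  refine ⟨g, hg, hg0, h, mem_maximalIdeal_of_mk hbm,
    ⟨fun a ha => (mul_eq_zero.mp ha).resolve_left hg0, fun a b hab => ?_⟩, hreg, fun hd0 => ?_⟩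
  · have h1 : Ideal.Quotient.mk (Ideal.span {g}) (h * a) = 0 := by
      rw [smul_eq_mul, smul_eq_mul] at hab
      rw [hab, Ideal.Quotient.eq_zero_iff_mem]
      exact Ideal.mem_span_singleton'.mpr ⟨b, mul_comm b g⟩
    rw [map_mul, mul_eq_zero] at h1
    obtain ⟨c, hc⟩ := Ideal.mem_span_singleton'.mp (Ideal.Quotient.eq_zero_iff_mem.mp (h1.resolve_left hb0))
    exact ⟨c, by rw [smul_eq_mul, mul_comm, hc]⟩
  · refine le_antisymm ?_ (Ideal.span_le.mpr ?_)
    · intro c hc
      -- the double quotient is a field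
      have hle : Ideal.span {g} ≤ maximalIdeal A := (Ideal.span_singleton_le_iff_mem _).mpr hg
      subst hd0
      let J := Ideal.span {Ideal.Quotient.mk (Ideal.span {g}) h}
      have hJ : IsRegularLocalRing ((A ⧸ Ideal.span {g}) ⧸ J) := hregJ
      have hfield : maximalIdeal ((A ⧸ Ideal.span {g}) ⧸ J) = ⊥ := by
        apply (Submodule.spanFinrank_eq_zero_iff_eq_bot (IsNoetherian.noetherian _)).mp
        have h1 := IsRegularLocalRing.spanFinrank_maximalIdeal (R := (A ⧸ Ideal.span {g}) ⧸ J)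
        rw [hdim] at h1
        exact_mod_cast h1
      have h2 : Ideal.Quotient.mk J (Ideal.Quotient.mk (Ideal.span {g}) c) = 0 := by
        rw [← Ideal.mem_bot, ← hfield]
        exact mk_mem_maximalIdeal ((Ideal.span_singleton_le_iff_mem _).mpr hbm) (mk_mem_maximalIdeal hle hc)
      obtain ⟨q, hq⟩ := Ideal.mem_span_singleton'.mp (Ideal.Quotient.eq_zero_iff_mem.mp h2)
      obtain ⟨q, rfl⟩ := Ideal.Quotient.mk_surjective q
      rw [← map_mul, Ideal.Quotient.eq, Ideal.mem_span_singleton'] at hq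
      obtain ⟨t, ht⟩ := hq
      exact Ideal.mem_span_pair.mpr ⟨-t, q, by linear_combination -ht⟩
    · rintro x (rfl | rfl)
      · exact hg
      · exact mem_maximalIdeal_of_mk hbm

variable {B : Type u} [CommRing B] [Algebra A B]

/-- Purity for a free algebra. -/
theorem etale_of_basis {ι : Type*} [Fintype ι] (b : Module.Basis ι A B) (h2 : (2 : WithBot ℕ∞) ≤ ringKrullDim A)
    (het : ∀ c ∈ maximalIdeal A, Algebra.Etale A (Localization.Away (algebraMap A B c))) : Algebra.Etale A B := by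
  classical
  have := Groth.Ega4Algebra1.isDomain_of_isRegularLocalRing A
  haveI : Module.Free A B := Module.Free.of_basis b
  haveI : Module.Finite A B := Module.Finite.of_basis b
  rw [Groth.Misc1.ND.etale_iff_isUnit_discr b]
  set D := Algebra.discr A b with hD
  by_contra hu
  have hdvd : ∀ c ∈ maximalIdeal A, ∃ N : ℕ, D ∣ c ^ N := by
    intro c hc
    haveI := het c hc
    obtain ⟨w, hw⟩ := (isUnit_localization_discr b c).exists_left_inv
    rw [← hD] at hw
    obtain ⟨⟨r, ⟨_, j, rfl⟩⟩, hr⟩ := IsLocalization.surj (Submonoid.powers c) w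
    have h3 : algebraMap A (Localization.Away c) (r * D) = algebraMap A (Localization.Away c) (c ^ j) := by
      rw [map_mul, ← hr, mul_right_comm, hw, one_mul]
    obtain ⟨⟨_, i, rfl⟩, hi⟩ := (IsLocalization.eq_iff_exists (Submonoid.powers c) (Localization.Away c)).mp h3
    exact ⟨i + j, c ^ i * r, by rw [pow_add]; linear_combination -hi⟩
  obtain ⟨P, hP⟩ := Ideal.nonempty_minimalPrimes (I := Ideal.span {D})
    (by rw [Ne, Ideal.span_singleton_eq_top]; exact hu)
  haveI := hP.1.1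
  have hh : P.height ≤ 1 := Ideal.height_le_one_of_isPrincipal_of_mem_minimalPrimes _ P hP
  have hmP : maximalIdeal A ≤ P := by
    intro c hc
    obtain ⟨N, hN⟩ := hdvd c hc
    exact Ideal.IsPrime.mem_of_pow_mem inferInstance N
      ((Ideal.mem_span_singleton.mpr hN : c ^ N ∈ Ideal.span {D}) |> hP.1.2)
  have hPm : P = maximalIdeal A := le_antisymm (le_maximalIdeal (Ideal.IsPrime.ne_top inferInstance)) hmP
  rw [hPm] at hh
  have h4 : ringKrullDim A ≤ 1 := by
    rw [← maximalIdeal_height_eq_ringKrullDim]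
    exact_mod_cast hh
  exact absurd (h2.trans h4) (by decide)

end Groth.Purity
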