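import Mathlib
import Groth.Agent.Purity.Setup
import Groth.Agent.Purity.Sections
import Groth.Agent.Purity.Overlap
import Groth.Agent.S9436

/-!
# Zariski–Nagata purity over a regular local ring

A finite algebra over a regular local ring of dimension `≥ 2`, with a regular pair in the maximal ideal,
which is étale on the punctured spectrum, is étale. Induction on the dimension: modulo a regular parameter
the sections over the punctured spectrum form an étale algebra, whose unique liftings to the thickenings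
give, by the Artin–Rees/Krull intersection argument on linear forms, surjectivity of the restriction.
-/

set_option autoImplicit false

universe u

open IsLocalRing TensorProduct

noncomputable section

namespace Groth.Purity

variable {A : Type u} [CommRing A] {B : Type u} [CommRing B] [Algebra A B]

local notation "Iq" n "," f => Ideal.span ({f ^ (n + 1)} : Set A)

theorem eq_of_redDual {I : Ideal A} {g h : A} (HB : DualBasisAt B g)
    (HR : RegPair (A ⧸ I) (Ideal.Quotient.mk I g) (Ideal.Quotient.mk I h))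
    (φ φ' : ((B ⧸ I.map (algebraMap A B)) →ₗ[A ⧸ I] A ⧸ I) →ₗ[A ⧸ I] A ⧸ I)
    (hχ : ∀ χ : B →ₗ[A] A, φ (redDual I χ) = φ' (redDual I χ)) : φ = φ' := by
  obtain ⟨K, n, x, ψ, hx⟩ := HB
  refine LinearMap.ext fun w => HR.cancel (k := K) ?_
  have hq : ∀ m : B ⧸ I.map (algebraMap A B), Ideal.Quotient.mk I g ^ K • m =
      ∑ i, redDual I (ψ i) m • Ideal.Quotient.mk (I.map (algebraMap A B)) (x i) := by
    intro m
    obtain ⟨b, rfl⟩ := Ideal.Quotient.mk_surjective m
    rw [← map_pow, ← mk_smul, hx, map_sum]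
    simp [redDual_mk, mk_smul]
  rw [← map_smul, ← map_smul, DualBasisAt.smul_dual hq w, map_sum, map_sum]
  exact Finset.sum_congr rfl fun i _ => by rw [map_smul, map_smul, hχ]

theorem out_spec {I : Ideal A} {r : A} {y : A ⧸ I} (h : Ideal.Quotient.mk I r = y) {f : A} (hI : I = Ideal.span {f})
    {r' : A} (h' : Ideal.Quotient.mk I r' = y) : f ∣ r - r' := by
  rw [← Ideal.mem_span_singleton, ← hI, ← Ideal.Quotient.eq, h, h']

set_option maxHeartbeats 1000000 in
theorem exists_preimage [IsNoetherianRing A] [IsLocalRing A] [Module.Finite A B] {f g h : A}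
    (hfm : f ∈ maximalIdeal A) (hf : ∀ a : A, f * a = 0 → a = 0)
    (HR : ∀ n : ℕ, RegPair (A ⧸ Ideal.span {f ^ (n + 1)}) (Ideal.Quotient.mk (Ideal.span {f ^ (n + 1)}) g)
      (Ideal.Quotient.mk (Ideal.span {f ^ (n + 1)}) h))
    (HR₀ : RegPair (A ⧸ Ideal.span {f}) (Ideal.Quotient.mk (Ideal.span {f}) g) (Ideal.Quotient.mk (Ideal.span {f}) h))
    (HBg : DualBasisAt B g) (HBh : DualBasisAt B h)
    (hev : Function.Surjective (Module.Dual.eval A B))
    [Algebra.Etale (A ⧸ Ideal.span {f}) (secAlg (B ⧸ (Ideal.span {f}).map (algebraMap A B))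
      (Ideal.Quotient.mk (Ideal.span {f}) g) (Ideal.Quotient.mk (Ideal.span {f}) h))]
    (e : secAlg (B ⧸ (Ideal.span {f}).map (algebraMap A B))
      (Ideal.Quotient.mk (Ideal.span {f}) g) (Ideal.Quotient.mk (Ideal.span {f}) h)) :
    ∃ b : B, toSec (B ⧸ (Ideal.span {f}).map (algebraMap A B))
      (Ideal.Quotient.mk (Ideal.span {f}) g) (Ideal.Quotient.mk (Ideal.span {f}) h)
      (Ideal.Quotient.mk _ b) = e := by
  classical
  let I0 := Ideal.span ({f} : Set A)
  let S0 := B ⧸ I0.map (algebraMap A B)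
  let g0 := Ideal.Quotient.mk I0 g
  let h0 := Ideal.Quotient.mk I0 h
  let E := secAlg S0 g0 h0
  obtain ⟨S', _, _, het', ⟨ε⟩⟩ := Groth.Agent.S9436.result A I0 E
  obtain ⟨z, hz⟩ := ε.surjective e
  obtain ⟨x, rfl⟩ : ∃ x : S', (1 : A ⧸ I0) ⊗ₜ[A] x = z := by
    clear hz
    induction z using TensorProduct.induction_on with
    | zero => exact ⟨0, tmul_zero _ _⟩
    | tmul r y =>
      obtain ⟨r, rfl⟩ := Ideal.Quotient.mk_surjective r
      refine ⟨r • y, ?_⟩
      rw [tmul_smul, smul_tmul', Algebra.smul_def, mul_one]; rfl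
    | add z z' ihz ihz' =>
      obtain ⟨y, hy⟩ := ihz
      obtain ⟨y', hy'⟩ := ihz'
      exact ⟨y + y', by rw [tmul_add, hy, hy']⟩
  let πg : S' →ₐ[A] Localization.Away (algebraMap (A ⧸ I0) S0 g0) :=
    ((((AlgHom.fst (A ⧸ I0) _ _).comp E.val).comp ε.toAlgHom).restrictScalars A).comp
      Algebra.TensorProduct.includeRight
  let πh : S' →ₐ[A] Localization.Away (algebraMap (A ⧸ I0) S0 h0) :=
    ((((AlgHom.snd (A ⧸ I0) _ _).comp E.val).comp ε.toAlgHom).restrictScalars A).comp
      Algebra.TensorProduct.includeRight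
  have hπ : ∀ y : S', toOverlapL S0 g0 h0 (πg y) = toOverlapR S0 g0 h0 (πh y) := fun y =>
    (mem_secAlg_iff g0 h0 _).mp (ε ((1 : A ⧸ I0) ⊗ₜ[A] y)).2
  -- the lifts to the thickenings
  have hlift : ∀ n : ℕ, ∃ φ : (B →ₗ[A] A) → A,
      (∀ χ χ', f ^ (n + 1) ∣ φ (χ + χ') - φ χ - φ χ') ∧ (∀ r χ, f ^ (n + 1) ∣ φ (r • χ) - r * φ χ) ∧
      ∀ χ, f ∣ φ χ - Function.surjInv Ideal.Quotient.mk_surjective (theta HR₀ e (redDual I0 χ)) := by
    intro n
    let In := Ideal.span ({f ^ (n + 1)} : Set A)
    let Sn := B ⧸ In.map (algebraMap A B)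
    let gn := Ideal.Quotient.mk In g
    let hn := Ideal.Quotient.mk In h
    have hle : In.map (algebraMap A B) ≤ I0.map (algebraMap A B) :=
      Ideal.map_mono (Ideal.span_singleton_le_span_singleton.mpr (dvd_pow_self f (Nat.succ_ne_zero n)))
    let q : Sn →ₐ[A] S0 := Ideal.Quotient.factorₐ A hle
    have hqs : Function.Surjective q := fun y => by
      obtain ⟨b, rfl⟩ := Ideal.Quotient.mk_surjective y
      exact ⟨Ideal.Quotient.mk _ b, rfl⟩
    have hqn : IsNilpotent (RingHom.ker q.toRingHom) := by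
      refine ⟨n + 1, ?_⟩
      have h1 : RingHom.ker q.toRingHom ≤ (I0.map (algebraMap A B)).map (Ideal.Quotient.mk (In.map (algebraMap A B))) := by
        intro y hy
        obtain ⟨b, rfl⟩ := Ideal.Quotient.mk_surjective y
        exact Ideal.mem_map_of_mem _ (Ideal.Quotient.eq_zero_iff_mem.mp hy)
      refine le_bot_iff.mp ((Ideal.pow_right_mono h1 (n + 1)).trans ?_)
      rw [← Ideal.map_pow, ← Ideal.map_pow, Ideal.span_singleton_pow, Ideal.map_le_iff_le_comap,
        ← RingHom.ker_eq_comap_bot, Ideal.mk_ker]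
    haveI hlg : IsLocalization.Away (q (algebraMap (A ⧸ In) Sn gn)) (Localization.Away (algebraMap (A ⧸ I0) S0 g0)) := by
      rw [show q (algebraMap (A ⧸ In) Sn gn) = algebraMap (A ⧸ I0) S0 g0 from rfl]; infer_instance
    haveI hlh : IsLocalization.Away (q (algebraMap (A ⧸ In) Sn hn)) (Localization.Away (algebraMap (A ⧸ I0) S0 h0)) := by
      rw [show q (algebraMap (A ⧸ In) Sn hn) = algebraMap (A ⧸ I0) S0 h0 from rfl]; infer_instance
    haveI hlw : IsLocalization.Away (q (algebraMap (A ⧸ In) Sn gn * algebraMap (A ⧸ In) Sn hn))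
        (Localization.Away (algebraMap (A ⧸ I0) S0 g0 * algebraMap (A ⧸ I0) S0 h0)) := by
      rw [show q (algebraMap (A ⧸ In) Sn gn * algebraMap (A ⧸ In) Sn hn) =
        algebraMap (A ⧸ I0) S0 g0 * algebraMap (A ⧸ I0) S0 h0 from rfl]; infer_instance
    obtain ⟨mg, mgs, mgn, mge⟩ := exists_away_reduction q hqs hqn (algebraMap (A ⧸ In) Sn gn)
      (Localization.Away (algebraMap (A ⧸ In) Sn gn)) (Localization.Away (algebraMap (A ⧸ I0) S0 g0))
    obtain ⟨mh, mhs, mhn, mhe⟩ := exists_away_reduction q hqs hqn (algebraMap (A ⧸ In) Sn hn)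
      (Localization.Away (algebraMap (A ⧸ In) Sn hn)) (Localization.Away (algebraMap (A ⧸ I0) S0 h0))
    obtain ⟨mw, mws, mwn, mwe⟩ := exists_away_reduction q hqs hqn
      (algebraMap (A ⧸ In) Sn gn * algebraMap (A ⧸ In) Sn hn)
      (Localization.Away (algebraMap (A ⧸ In) Sn gn * algebraMap (A ⧸ In) Sn hn))
      (Localization.Away (algebraMap (A ⧸ I0) S0 g0 * algebraMap (A ⧸ I0) S0 h0))
    let ug := Algebra.FormallySmooth.liftOfSurjective πg mg mgs mgn
    let uh := Algebra.FormallySmooth.liftOfSurjective πh mh mhs mhn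
    let oL := (toOverlapL Sn gn hn).restrictScalars A
    let oR := (toOverlapR Sn gn hn).restrictScalars A
    have hcL : mw.comp oL = ((toOverlapL S0 g0 h0).restrictScalars A).comp mg := by
      refine IsLocalization.algHom_ext (Submonoid.powers (algebraMap (A ⧸ In) Sn gn)) ?_
      refine AlgHom.ext fun a => ?_
      show mw (toOverlapL Sn gn hn (algebraMap Sn _ a)) = toOverlapL S0 g0 h0 (mg (algebraMap Sn _ a))
      rw [toOverlapL_eq, mwe, mge, toOverlapL_eq]
    have hcR : mw.comp oR = ((toOverlapR S0 g0 h0).restrictScalars A).comp mh := by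
      refine IsLocalization.algHom_ext (Submonoid.powers (algebraMap (A ⧸ In) Sn hn)) ?_
      refine AlgHom.ext fun a => ?_
      show mw (toOverlapR Sn gn hn (algebraMap Sn _ a)) = toOverlapR S0 g0 h0 (mh (algebraMap Sn _ a))
      rw [toOverlapR_eq, mwe, mhe, toOverlapR_eq]
    have hagree : oL.comp ug = oR.comp uh := by
      refine Algebra.FormallyUnramified.lift_unique' mw mwn _ _ (AlgHom.ext fun y => ?_)
      show mw (oL (ug y)) = mw (oR (uh y))
      have e1 : mw (oL (ug y)) = toOverlapL S0 g0 h0 (mg (ug y)) := DFunLike.congr_fun hcL (ug y)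
      have e2 : mw (oR (uh y)) = toOverlapR S0 g0 h0 (mh (uh y)) := DFunLike.congr_fun hcR (uh y)
      rw [e1, e2, Algebra.FormallySmooth.liftOfSurjective_apply, Algebra.FormallySmooth.liftOfSurjective_apply]
      exact hπ y
    let p : secAlg Sn gn hn := ⟨(ug x, uh x), (mem_secAlg_iff gn hn _).mpr (DFunLike.congr_fun hagree x)⟩
    let φ : (B →ₗ[A] A) → A := fun χ => Function.surjInv Ideal.Quotient.mk_surjective (theta (HR n) p (redDual In χ))
    have hφ : ∀ χ, Ideal.Quotient.mk In (φ χ) = theta (HR n) p (redDual In χ) := fun χ =>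
      Function.surjInv_eq Ideal.Quotient.mk_surjective _
    refine ⟨φ, fun χ χ' => ?_, fun r χ => ?_, fun χ => ?_⟩
    · rw [sub_sub]
      refine out_spec (I := In) (hφ (χ + χ')) rfl ?_
      rw [map_add, hφ, hφ, redDual_add, map_add]
    · refine out_spec (I := In) (hφ (r • χ)) rfl ?_
      rw [map_mul, hφ, redDual_smul, map_smul, smul_eq_mul]
    · refine out_spec (I := I0) rfl rfl ((Function.surjInv_eq Ideal.Quotient.mk_surjective _).trans ?_)
      obtain ⟨a, K, ha⟩ := exists_eq_frac gn (ug x)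
      obtain ⟨b, rfl⟩ := Ideal.Quotient.mk_surjective a
      have h1 := theta_spec (HR n) p (redDual In χ) ha
      rw [← hφ, redDual_mk, ← map_pow, ← map_mul, Ideal.Quotient.eq, Ideal.mem_span_singleton] at h1
      have h2 := (dvd_pow_self f (Nat.succ_ne_zero n)).trans h1
      rw [← Ideal.mem_span_singleton, ← Ideal.Quotient.eq, map_mul, map_pow] at h2
      refine value_eq HR₀ e (redDual I0 χ) (a := Ideal.Quotient.mk _ b) (K := K) ?_ (by rw [redDual_mk]; exact h2)
      have ha' := congr_arg mg ha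
      rw [map_mul, map_pow, mge] at ha'
      have e3 : mg (algebraMap (A ⧸ In) (Localization.Away (algebraMap (A ⧸ In) Sn gn)) gn) =
          algebraMap (A ⧸ I0) (Localization.Away (algebraMap (A ⧸ I0) S0 g0)) g0 := by
        exact (congr_arg mg (IsScalarTower.algebraMap_apply (A ⧸ In) Sn
            (Localization.Away (algebraMap (A ⧸ In) Sn gn)) gn)).trans
          ((mge _).trans (IsScalarTower.algebraMap_apply (A ⧸ I0) S0
            (Localization.Away (algebraMap (A ⧸ I0) S0 g0)) g0).symm)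
      rw [e3, Algebra.FormallySmooth.liftOfSurjective_apply] at ha'
      rw [← hz]
      exact ha'
  haveI : Module.Finite A (B →ₗ[A] A) := finite_dual
  obtain ⟨φ, hφ⟩ := exists_lift_dual hfm hf _ hlift
  obtain ⟨b, hb⟩ := hev φ
  refine ⟨b, injective_theta HR₀ (DualBasisAt.quotient HBg I0) (DualBasisAt.quotient HBh I0) ?_⟩
  refine eq_of_redDual HBg HR₀ _ _ fun χ => ?_
  rw [theta_toSec, Module.Dual.eval_apply, redDual_mk]
  have h1 := hφ χ
  rw [← hb, Module.Dual.eval_apply, ← Ideal.mem_span_singleton, ← Ideal.Quotient.eq] at h1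
  rw [h1]
  exact Function.surjInv_eq Ideal.Quotient.mk_surjective _

/-- Freeness lifts from the quotient by a regular element. -/
theorem exists_basis_of_free_quotient [IsNoetherianRing A] [IsLocalRing A] [Module.Finite A B] {f : A}
    (hfm : f ∈ maximalIdeal A) (hf : ∀ a : A, f * a = 0 → a = 0) (hregf : ∀ m : B, f • m = 0 → m = 0)
    [Module.Free (A ⧸ Ideal.span {f}) (B ⧸ (Ideal.span {f}).map (algebraMap A B))] :
    ∃ (ι : Type u) (_ : Fintype ι) (_b0 : Module.Basis ι (A ⧸ Ideal.span {f}) (B ⧸ (Ideal.span {f}).map (algebraMap A B)))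
      (b : Module.Basis ι A B), ∀ i, _b0 i = Ideal.Quotient.mk _ (b i) := by
  classical
  let I0 := Ideal.span ({f} : Set A)
  let S0 := B ⧸ I0.map (algebraMap A B)
  haveI : IsLocalRing (A ⧸ I0) :=
    Groth.Ega4Algebra1.isLocalRing_quotient_of_le _ ((Ideal.span_singleton_le_iff_mem _).mpr hfm)
  haveI : Module.Finite (A ⧸ I0) S0 := Module.Finite.of_restrictScalars_finite A _ _
  let b0 := Module.Free.chooseBasis (A ⧸ I0) S0
  choose e he using fun i => Ideal.Quotient.mk_surjective (b0 i)
  have hmul : ∀ m : B, Ideal.Quotient.mk (I0.map (algebraMap A B)) m = 0 → ∃ m', m = f • m' := by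
    intro m hm
    rw [Ideal.Quotient.eq_zero_iff_mem, Ideal.map_span, Set.image_singleton, Ideal.mem_span_singleton] at hm
    obtain ⟨m', rfl⟩ := hm
    exact ⟨m', (Algebra.smul_def _ _).symm⟩
  obtain ⟨b, hb⟩ := free_of_quotient hfm hf hregf e (fun m => by
    choose c hc using fun i => Ideal.Quotient.mk_surjective (b0.repr (Ideal.Quotient.mk _ m) i)
    obtain ⟨m', hm'⟩ := hmul (m - ∑ i, c i • e i) (by
      rw [map_sub, map_sum, sub_eq_zero]
      conv_lhs => rw [← b0.sum_repr (Ideal.Quotient.mk _ m)]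
      exact Finset.sum_congr rfl fun i _ => by rw [mk_smul, hc, he])
    exact ⟨c, m', by rw [← hm']; abel⟩) (fun c hc i => by
    obtain ⟨m', hm'⟩ := hc
    have h1 := congr_arg (fun y => b0.repr (Ideal.Quotient.mk (I0.map (algebraMap A B)) y) i) hm'
    simp only [map_sum, mk_smul, he, map_smul, Module.Basis.repr_self, Finsupp.coe_finset_sum, Finset.sum_apply,
      Finsupp.coe_smul, Pi.smul_apply, Finsupp.single_apply, smul_eq_mul, mul_ite, mul_one, mul_zero,
      Finset.sum_ite_eq', Finset.mem_univ, if_true] at h1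
    rw [Ideal.Quotient.eq_zero_iff_mem.mpr (Ideal.mem_span_singleton_self f), zero_mul,
      Ideal.Quotient.eq_zero_iff_mem, Ideal.mem_span_singleton] at h1
    exact h1)
  exact ⟨_, inferInstance, b0, b, fun i => by rw [hb, he]⟩

/-- **Purity** for finite algebras with a regular pair over a regular local ring. -/
theorem etale_of_etale_punctured : ∀ (d : ℕ) (A : Type u) [CommRing A] [IsRegularLocalRing A],
    ringKrullDim A = ((d + 2 : ℕ) : WithBot ℕ∞) →
    ∀ (B : Type u) [CommRing B] [Algebra A B] [Module.Finite A B] (g₁ h₁ : A),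
      g₁ ∈ maximalIdeal A → h₁ ∈ maximalIdeal A → g₁ ≠ 0 → RegPair B g₁ h₁ →
      (∀ c ∈ maximalIdeal A, Algebra.Etale A (Localization.Away (algebraMap A B c))) → Algebra.Etale A B := by
  intro d
  induction d with
  | zero =>
    intro A _ _ hdim B _ _ _ g₁ h₁ hg₁ hh₁ hg₁0 HB het
    have := Groth.Ega4Algebra1.isDomain_of_isRegularLocalRing A
    have hdb : ∀ c ∈ maximalIdeal A, DualBasisAt B c := fun c hc => by
      haveI := het c hc; exact dualBasisAt_of_flat c
    have hev := DualBasisAt.bijective_eval HB (fun a ha => (mul_eq_zero.mp ha).resolve_left hg₁0)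
      (hdb g₁ hg₁) (hdb h₁ hh₁)
    obtain ⟨f, hfm, hf0, h, hhm, HA, hreg, hspan⟩ := exists_regPair (A := A) (d := 0) hdim
    have hm := hspan rfl
    have HBf : RegPair B f h := RegPair.of_linearEquiv (LinearEquiv.ofBijective _ hev) (HA.dual _)
    let I0 := Ideal.span ({f} : Set A)
    let S0 := B ⧸ I0.map (algebraMap A B)
    haveI : IsRegularLocalRing (A ⧸ I0) := hreg
    haveI := Groth.Ega4Algebra1.isDomain_of_isRegularLocalRing (A ⧸ I0)
    haveI : Module.Finite (A ⧸ I0) S0 := Module.Finite.of_restrictScalars_finite A _ _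
    have hI0 : I0 ≤ maximalIdeal A := (Ideal.span_singleton_le_iff_mem _).mpr hfm
    have hmax : maximalIdeal (A ⧸ I0) = Ideal.span {Ideal.Quotient.mk I0 h} := by
      refine le_antisymm (fun c hc => ?_) ((Ideal.span_singleton_le_iff_mem _).mpr (mk_mem_maximalIdeal hI0 hhm))
      obtain ⟨c, rfl⟩ := Ideal.Quotient.mk_surjective c
      have hcm : c ∈ Ideal.span {f, h} := hm ▸ mem_maximalIdeal_of_mk hc
      obtain ⟨x, y, rfl⟩ := Ideal.mem_span_pair.mp hcm
      rw [map_add, map_mul, map_mul, Ideal.Quotient.eq_zero_iff_mem.mpr (Ideal.mem_span_singleton_self f),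
        mul_zero, zero_add]
      exact Ideal.mem_span_singleton'.mpr ⟨_, rfl⟩
    haveI : IsPrincipalIdealRing (A ⧸ I0) :=
      ((tfae_of_isNoetherianRing_of_isLocalRing_of_isDomain (A ⧸ I0)).out 4 0
        (a := (maximalIdeal (A ⧸ I0)).IsPrincipal) (b := IsPrincipalIdealRing (A ⧸ I0))).mp ⟨⟨_, hmax⟩⟩
    have hfmem : ∀ b : B, Ideal.Quotient.mk (I0.map (algebraMap A B)) b = 0 ↔ ∃ c, b = f • c := fun b => by
      rw [Ideal.Quotient.eq_zero_iff_mem, Ideal.map_span, Set.image_singleton, Ideal.mem_span_singleton]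
      exact exists_congr fun c => by rw [Algebra.smul_def]
    have hh0 : ∀ y : S0, Ideal.Quotient.mk I0 h • y = 0 → y = 0 := by
      intro y hy
      obtain ⟨b, rfl⟩ := Ideal.Quotient.mk_surjective y
      rw [← mk_smul, hfmem] at hy
      obtain ⟨c, hc⟩ := hy
      exact (hfmem b).mpr (HBf.mem b c hc)
    haveI : Module.IsTorsionFree (A ⧸ I0) S0 := by
      refine ⟨fun r hr => ?_⟩
      have hr0 : r ≠ 0 := hr.ne_zero
      have hh0' : Ideal.Quotient.mk I0 h ≠ 0 ∨ IsUnit r := by
        by_cases hu : IsUnit r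
        · exact Or.inr hu
        · refine Or.inl fun h0 => hr0 ?_
          have : r ∈ maximalIdeal (A ⧸ I0) := hu
          rwa [hmax, h0, Ideal.span_singleton_eq_bot.mpr rfl, Ideal.mem_bot] at this
      intro y y' hyy
      rw [← sub_eq_zero] at hyy ⊢
      rw [← smul_sub] at hyy
      generalize y - y' = z at hyy ⊢
      by_cases hu : IsUnit r
      · exact hu.smul_eq_zero.mp hyy
      · have hne := hh0'.resolve_right hu
        obtain ⟨j, u, hu'⟩ : ∃ (j : ℕ) (u : (A ⧸ I0)ˣ), r = u * Ideal.Quotient.mk I0 h ^ j := by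
          obtain ⟨j, hj⟩ := ((tfae_of_isNoetherianRing_of_isLocalRing_of_isDomain (A ⧸ I0)).out 0 6
              (a := IsPrincipalIdealRing (A ⧸ I0))
              (b := ∀ I : Ideal (A ⧸ I0), I ≠ ⊥ → ∃ n : ℕ, I = maximalIdeal (A ⧸ I0) ^ n)).mp ‹_›
            (Ideal.span {r}) (by simpa using hr0)
          rw [hmax, Ideal.span_singleton_pow, Ideal.span_singleton_eq_span_singleton] at hj
          obtain ⟨u, hu'⟩ := hj.symm
          exact ⟨j, u, by rw [← hu', mul_comm]⟩
        rw [hu', mul_smul, u.isUnit.smul_eq_zero] at hyy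
        clear hu' hu hr hr0 hne hh0'
        induction j with
        | zero => simpa using hyy
        | succ j ih => exact ih (hh0 _ (by rw [smul_smul, ← pow_succ']; exact hyy))
    haveI : Module.Free (A ⧸ I0) S0 := Module.free_of_finite_type_torsion_free'
    obtain ⟨ι, _, b0, b, -⟩ := exists_basis_of_free_quotient hfm
      (fun a ha => (mul_eq_zero.mp ha).resolve_left hf0) HBf.reg
    exact etale_of_basis b (by rw [hdim]; exact le_rfl) het
  | succ d ih =>
    intro A _ _ hdim B _ _ _ g₁ h₁ hg₁ hh₁ hg₁0 HB het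
    have := Groth.Ega4Algebra1.isDomain_of_isRegularLocalRing A
    have hdb : ∀ c ∈ maximalIdeal A, DualBasisAt B c := fun c hc => by
      haveI := het c hc; exact dualBasisAt_of_flat c
    have hev := DualBasisAt.bijective_eval HB (fun a ha => (mul_eq_zero.mp ha).resolve_left hg₁0)
      (hdb g₁ hg₁) (hdb h₁ hh₁)
    obtain ⟨f, hfm, hf0, hreg, hdim'⟩ := exists_parameter (A := A) (d := d + 2) hdim
    obtain ⟨gb, hgb, hgb0, hb, hhb, HR₀, -, -⟩ := exists_regPair (A := A ⧸ Ideal.span {f}) (d := d) hdim'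
    obtain ⟨g, rfl⟩ := Ideal.Quotient.mk_surjective gb
    obtain ⟨h, rfl⟩ := Ideal.Quotient.mk_surjective hb
    have hgm := mem_maximalIdeal_of_mk hgb
    have hhm := mem_maximalIdeal_of_mk hhb
    have hf : ∀ a : A, f * a = 0 → a = 0 := fun a ha => (mul_eq_zero.mp ha).resolve_left hf0
    let I0 := Ideal.span ({f} : Set A)
    let S0 := B ⧸ I0.map (algebraMap A B)
    have hI0 : I0 ≤ maximalIdeal A := (Ideal.span_singleton_le_iff_mem _).mpr hfm
    have Hg := DualBasisAt.quotient (hdb g hgm) I0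
    have Hh := DualBasisAt.quotient (hdb h hhm) I0
    let E := secAlg S0 (Ideal.Quotient.mk I0 g) (Ideal.Quotient.mk I0 h)
    haveI : Module.Finite (A ⧸ I0) S0 := Module.Finite.of_restrictScalars_finite A _ _
    haveI : Module.Finite (A ⧸ I0) E := finite_secAlg HR₀ Hg Hh
    haveI hE : Algebra.Etale (A ⧸ I0) E := by
      refine ih (A ⧸ I0) hdim' E _ _ hgb hhb hgb0 (regPair_secAlg HR₀ Hg Hh) fun c hc => ?_
      obtain ⟨c, rfl⟩ := Ideal.Quotient.mk_surjective c
      have hcm := mem_maximalIdeal_of_mk hc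
      haveI := het c hcm
      haveI := etale_away_quotient (B := B) I0 c
      exact etale_away_of_almost_iso (toSec S0 _ _) _ (toSec_almost_iso HR₀ Hg Hh (DualBasisAt.quotient (hdb c hcm) I0))
    have hregf : ∀ m : B, f • m = 0 → m = 0 := fun m hm => hev.1 (by
      rw [map_zero]
      refine LinearMap.ext fun χ => ?_
      have := congr_arg χ hm
      rw [map_smul, map_zero, smul_eq_mul] at this
      exact hf _ this)
    -- restriction modulo `f` is bijective
    have hbij : Function.Bijective (toSec S0 (Ideal.Quotient.mk I0 g) (Ideal.Quotient.mk I0 h)) := by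
      refine ⟨(injective_iff_map_eq_zero _).mpr fun y hy => ?_, fun e => ?_⟩
      · obtain ⟨b, rfl⟩ := Ideal.Quotient.mk_surjective y
        have h1 : ∀ χ : B →ₗ[A] A, ∃ c, χ b = f * c := fun χ => by
          have h2 : theta HR₀ (toSec S0 _ _ (Ideal.Quotient.mk _ b)) (redDual I0 χ) = 0 := by rw [hy]; simp
          rw [theta_toSec, Module.Dual.eval_apply, redDual_mk, Ideal.Quotient.eq_zero_iff_mem,
            Ideal.mem_span_singleton] at h2
          exact h2
        choose c hc using h1
        obtain ⟨b', hb'⟩ := hev.2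
          { toFun := c
            map_add' := fun χ χ' => sub_eq_zero.mp (hf _ (by rw [mul_sub, mul_add, ← hc, ← hc, ← hc]; simp))
            map_smul' := fun r χ => sub_eq_zero.mp (hf _ (by
              rw [mul_sub, RingHom.id_apply, smul_eq_mul, mul_left_comm, ← hc, ← hc]; simp)) }
        have hbb : b = f • b' := hev.1 (LinearMap.ext fun χ => by
          rw [map_smul, LinearMap.smul_apply, hb', Module.Dual.eval_apply, hc, smul_eq_mul]; rfl)
        rw [hbb, Ideal.Quotient.eq_zero_iff_mem, Algebra.smul_def]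
        exact Ideal.mul_mem_right _ _ (Ideal.mem_map_of_mem _ (Ideal.mem_span_singleton_self f))
      · obtain ⟨b, hb⟩ := exists_preimage hfm hf (regPair_pow_quotient hf HR₀) HR₀ (hdb g hgm) (hdb h hhm) hev.2 e
        exact ⟨_, hb⟩
    haveI hS0 : Algebra.Etale (A ⧸ I0) S0 := Algebra.Etale.of_equiv (AlgEquiv.ofBijective _ hbij).symm
    haveI : Module.Free (A ⧸ I0) S0 := Module.free_of_flat_of_isLocalRing
    obtain ⟨ι, _, b0, b, hb⟩ := exists_basis_of_free_quotient hfm hf hregf
    classical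
    haveI : Module.Free A B := Module.Free.of_basis b
    rw [Groth.Misc1.ND.etale_iff_isUnit_discr b]
    have h2 := (Groth.Misc1.ND.etale_iff_isUnit_discr b0).mp hS0
    rw [discr_quotient b I0 b0 hb] at h2
    by_contra hnu
    exact (mk_mem_maximalIdeal hI0 hnu) h2

end Groth.Purity
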