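import Mathlib
import Groth.Agent.Purity.Core
import Groth.Agent.PicAux.RegularUFD

/-! Purity for normal domains finite over a regular local ring. -/

set_option autoImplicit false

universe u

open IsLocalRing Polynomial

namespace Groth.Purity

variable {A : Type u} [CommRing A]

theorem notMem_of_height_le_one [IsDomain A] {g h : A} (H : RegPair A g h) (hg : g ≠ 0) (P : Ideal A) [P.IsPrime]
    (hP : P.height ≤ 1) (hgP : g ∈ P) : h ∉ P := by
  intro hhP
  have hmin : P ∈ (Ideal.span {g}).minimalPrimes := by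
    refine ⟨⟨inferInstance, (Ideal.span_singleton_le_iff_mem _).mpr hgP⟩, fun Q hQ hQP => ?_⟩
    haveI := hQ.1
    by_contra hne
    have hlt : Q < P := lt_of_le_not_ge hQP hne
    have hfin : Q.height ≠ ⊤ := ne_top_of_le_ne_top (ENat.coe_ne_top 1) ((Ideal.height_mono hQP).trans hP)
    haveI : Q.FiniteHeight := ⟨Or.inr hfin⟩
    have h1 : Q.height < P.height := Ideal.height_strict_mono_of_isPrime hlt
    have h0 : Q.height = 0 := ENat.lt_one_iff_eq_zero.mp (h1.trans_le hP)
    rw [Ideal.height_eq_zero_iff] at h0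
    have : Q = ⊥ := le_bot_iff.mp (h0.2 ⟨Ideal.isPrime_bot, le_rfl⟩ bot_le)
    exact hg (Ideal.mem_bot.mp (this ▸ hQ.2 (Ideal.mem_span_singleton_self g)))
  let L := Localization.AtPrime P
  have h2 : algebraMap A L h ∈ ((Ideal.span {g}).map (algebraMap A L)).radical := by
    rw [Ideal.radical_eq_sInf, Submodule.mem_sInf]
    rintro Q ⟨hQ, hQp⟩
    have hle : Ideal.comap (algebraMap A L) Q ≤ P := by
      intro x hx
      by_contra hxP
      exact hQp.ne_top (Ideal.eq_top_of_isUnit_mem Q hx (IsLocalization.map_units L (⟨x, hxP⟩ : P.primeCompl)))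
    exact hmin.2 ⟨inferInstance, Ideal.map_le_iff_le_comap.mp hQ⟩ hle hhP
  obtain ⟨N, hN⟩ := h2
  rw [← map_pow, IsLocalization.algebraMap_mem_map_algebraMap_iff P.primeCompl] at hN
  obtain ⟨s, hs, hsN⟩ := hN
  obtain ⟨b, hb⟩ := Ideal.mem_span_singleton'.mp hsN
  obtain ⟨c, rfl⟩ := H.pow_right N s b (by rw [smul_eq_mul, smul_eq_mul, mul_comm, ← hb, mul_comm])
  exact hs (P.mul_mem_right _ hgP)

theorem dvd_of_normal {B : Type u} [CommRing B] [IsDomain B] [IsNoetherianRing B] [IsIntegrallyClosed B]
    {g h a b : B} (hg : g ≠ 0) (hab : h * a = g * b)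
    (hP : ∀ P : Ideal B, P.IsPrime → P.height ≤ 1 → g ∈ P → h ∉ P) : g ∣ a := by
  classical
  by_contra hna
  let col : B → Ideal B := fun a' => (Ideal.span {g}).colon {a'}
  have hcol : ∀ a' c, c ∈ col a' ↔ g ∣ c * a' := fun a' c => by
    simp only [col, Submodule.mem_colon_singleton, smul_eq_mul, Ideal.mem_span_singleton]
  let T : Set (Ideal B) := {I | ∃ a', ¬ g ∣ a' ∧ I = col a' ∧ g ∈ I ∧ h ∈ I}
  have hne : T.Nonempty := ⟨col a, a, hna, rfl, (hcol a g).mpr (dvd_mul_right g a), (hcol a h).mpr ⟨b, hab⟩⟩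
  obtain ⟨P, ⟨a', ha', rfl, hgP, hhP⟩, hmax⟩ := set_has_maximal_iff_noetherian.mpr
    (inferInstance : IsNoetherian B B) T hne
  have hprime : (col a').IsPrime := by
    refine ⟨fun htop => ha' ?_, fun {x y} hxy => ?_⟩
    · simpa using (hcol a' 1).mp (htop ▸ trivial)
    · by_contra! hh
      have hle : col a' ≤ col (y * a') := fun c hc => by
        rw [hcol] at hc ⊢
        rw [mul_left_comm]; exact hc.mul_left y
      have hx : x ∈ col (y * a') := by
        rw [hcol, ← mul_assoc]; exact (hcol a' _).mp hxy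
      have hmem : col (y * a') ∈ T := ⟨y * a', fun hd => hh.2 ((hcol a' y).mpr hd), rfl, hle hgP, hle hhP⟩
      exact hmax _ hmem (lt_of_le_of_ne hle fun he => hh.1 (he ▸ hx))
  have hq : ∀ c : col a', ∃ q, (c : B) * a' = g * q := fun c => (hcol a' c).mp c.2
  choose q hq using hq
  by_cases hall : ∀ c, q c ∈ col a'
  · -- `a'/g` is integral
    let φ : col a' →ₗ[B] col a' :=
      { toFun := fun c => ⟨q c, hall c⟩
        map_add' := fun c c' => Subtype.ext (mul_left_cancel₀ hg (by
          show g * q (c + c') = g * (q c + q c')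
          rw [mul_add, ← hq, ← hq, ← hq, Submodule.coe_add, add_mul]))
        map_smul' := fun r c => Subtype.ext (mul_left_cancel₀ hg (by
          show g * q (r • c) = g * (r * q c)
          rw [mul_left_comm g, ← hq, ← hq, Submodule.coe_smul, smul_eq_mul, mul_assoc])) }
    obtain ⟨p, hpm, hp⟩ := LinearMap.exists_monic_and_aeval_eq_zero B φ
    let K := FractionRing B
    have hgK : algebraMap B K g ≠ 0 := fun h0 => hg (IsFractionRing.injective B K (h0.trans (map_zero _).symm))
    let y : K := algebraMap B K a' / algebraMap B K g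
    have hy : ∀ c : col a', algebraMap B K (φ c : B) = y * algebraMap B K (c : B) := fun c => by
      show algebraMap B K (q c) = _
      have := congr_arg (algebraMap B K) (hq c)
      rw [map_mul, map_mul] at this
      rw [div_mul_eq_mul_div, eq_div_iff hgK]
      linear_combination -this
    let c0 : col a' := ⟨g, hgP⟩
    have hev : ∀ r : Polynomial B, algebraMap B K ((Polynomial.aeval φ r c0 : col a') : B) =
        Polynomial.aeval y r * algebraMap B K g := by
      intro r
      induction r using Polynomial.induction_on with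
      | C r =>
        rw [Polynomial.aeval_C, Polynomial.aeval_C, Module.algebraMap_end_apply, Submodule.coe_smul, smul_eq_mul,
          map_mul]
      | add r r' hr hr' =>
        rw [map_add, map_add, LinearMap.add_apply, Submodule.coe_add, map_add, hr, hr', add_mul]
      | monomial m r hr =>
        rw [show C r * X ^ (m + 1) = X * (C r * X ^ m) by ring, map_mul (Polynomial.aeval φ) Polynomial.X,
          map_mul (Polynomial.aeval y) Polynomial.X, Polynomial.aeval_X, Polynomial.aeval_X, Module.End.mul_apply, hy, hr, mul_assoc]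
    have hroot : Polynomial.aeval y p = 0 := by
      have := hev p
      rw [hp, LinearMap.zero_apply, Submodule.coe_zero, map_zero] at this
      exact (mul_eq_zero.mp this.symm).resolve_right hgK
    obtain ⟨w, hw⟩ := IsIntegrallyClosed.isIntegral_iff.mp (⟨p, hpm, hroot⟩ : IsIntegral B y)
    apply ha'
    refine ⟨w, IsFractionRing.injective B K ?_⟩
    rw [map_mul, hw]
    rw [mul_comm]
    exact (div_mul_cancel₀ _ hgK).symm
  · push Not at hall
    obtain ⟨c, hc⟩ := hall
    haveI := hprime
    refine hP _ hprime (Ideal.height_le_one_of_isPrincipal_of_mem_minimalPrimes (Ideal.span {(c : B)}) _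
      ⟨⟨hprime, (Ideal.span_singleton_le_iff_mem _).mpr c.2⟩, ?_⟩) hgP hhP
    rintro Q ⟨hQ, hcQ⟩ hQP x hx
    have h1 : x * q c = (c : B) * q ⟨x, hx⟩ := mul_left_cancel₀ hg (by
      rw [mul_left_comm, ← hq, mul_left_comm g, ← hq]; ring)
    have h2 : x * q c ∈ Q := h1 ▸ Q.mul_mem_right _ (hcQ (Ideal.mem_span_singleton_self _))
    exact (hQ.mem_or_mem h2).resolve_right fun hqQ => hc (hQP hqQ)

/-- A normal domain, finite over a regular local ring of dimension `≥ 2`, has a regular pair. -/
theorem exists_regPair_of_normal [IsRegularLocalRing A] {d : ℕ} (hd : ringKrullDim A = ((d + 2 : ℕ) : WithBot ℕ∞))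
    {B : Type u} [CommRing B] [IsDomain B] [IsIntegrallyClosed B] [Algebra A B] [Module.Finite A B]
    (hinj : Function.Injective (algebraMap A B)) :
    ∃ g ∈ maximalIdeal A, g ≠ 0 ∧ ∃ h ∈ maximalIdeal A, RegPair B g h := by
  have := Groth.Ega4Algebra1.isDomain_of_isRegularLocalRing A
  haveI := Groth.PicAux.ufd_of_isRegularLocalRing A
  haveI : FaithfulSMul A B := (faithfulSMul_iff_algebraMap_injective A B).mpr hinj
  haveI : Algebra.IsIntegral A B := Algebra.IsIntegral.of_finite A B
  haveI : IsNoetherianRing B := IsNoetherianRing.of_finite A B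
  haveI : IsIntegrallyClosed A := inferInstance
  obtain ⟨g, hg, hg0, h, hh, H, -, -⟩ := exists_regPair (A := A) hd
  have hg0' : algebraMap A B g ≠ 0 := fun h0 => hg0 (hinj (h0.trans (map_zero _).symm))
  refine ⟨g, hg, hg0, h, hh, fun m hm => ?_, fun a b hab => ?_⟩
  · rw [Algebra.smul_def, mul_eq_zero] at hm
    exact hm.resolve_left hg0'
  · rw [Algebra.smul_def, Algebra.smul_def] at hab
    obtain ⟨c, hc⟩ := dvd_of_normal hg0' hab (fun P hP hP1 hgP => by
      haveI : P.LiesOver (P.under A) := ⟨rfl⟩
      have := Ideal.height_eq_height_add_of_liesOver_of_hasGoingDown (P.under A) P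
      exact fun hhP => notMem_of_height_le_one H hg0 (P.under A) ((le_self_add.trans this.ge).trans hP1) hgP hhP)
    exact ⟨c, by rw [Algebra.smul_def, hc]⟩

theorem etale_of_normal [IsRegularLocalRing A] (h2 : (2 : WithBot ℕ∞) ≤ ringKrullDim A)
    (B : Type u) [CommRing B] [IsDomain B] [IsIntegrallyClosed B] [Algebra A B] [Module.Finite A B]
    (hinj : Function.Injective (algebraMap A B))
    (het : ∀ c ∈ maximalIdeal A, Algebra.Etale A (Localization.Away (algebraMap A B c))) : Algebra.Etale A B := by
  obtain ⟨a, ha⟩ := WithBot.ne_bot_iff_exists.mp (ringKrullDim_ne_bot (R := A))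
  obtain ⟨e, he⟩ := ENat.ne_top_iff_exists.mp (fun h : a = ⊤ => ringKrullDim_ne_top (R := A) (by rw [← ha, h]; rfl))
  have hdim : ringKrullDim A = ((e : ℕ) : WithBot ℕ∞) := by rw [← ha, ← he]; rfl
  rw [hdim] at h2
  obtain ⟨d, rfl⟩ : ∃ d, e = d + 2 := ⟨e - 2, by have : 2 ≤ e := (by exact_mod_cast h2); omega⟩
  obtain ⟨g, hg, hg0, h, hh, H⟩ := exists_regPair_of_normal hdim hinj
  exact etale_of_etale_punctured d A hdim B g h hg hh hg0 H het

theorem etale_away_of_isEtaleAt [IsLocalRing A] [IsNoetherianRing A] {B : Type u} [CommRing B] [Algebra A B] [Module.Finite A B]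
    (h : ∀ (q : Ideal B) (_ : q.IsPrime), q.comap (algebraMap A B) ≠ maximalIdeal A → Algebra.IsEtaleAt A q)
    (c : A) (hc : c ∈ maximalIdeal A) : Algebra.Etale A (Localization.Away (algebraMap A B c)) := by
  haveI : Algebra.FiniteType A B := inferInstance
  haveI : Algebra.FinitePresentation A B := Algebra.FinitePresentation.of_finiteType.mp inferInstance
  exact Algebra.basicOpen_subset_etaleLocus_iff_etale.mp fun q hq =>
    h q.asIdeal q.isPrime fun he => hq (show c ∈ q.asIdeal.comap (algebraMap A B) from he ▸ hc)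

end Groth.Purity
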