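import Mathlib
import Groth.Agent.Purity.Normal

/-! Purity of the branch locus: unramified in codimension one implies étale. -/

set_option autoImplicit false

universe u

open IsLocalRing

namespace Groth.Purity

variable {A : Type u} [CommRing A] {B : Type u} [CommRing B] [Algebra A B]

theorem height_under_eq [IsDomain B] [IsIntegrallyClosed A] [Module.Finite A B] [IsNoetherianRing A] [IsNoetherianRing B]
    (hinj : Function.Injective (algebraMap A B)) (P : Ideal B) [P.IsPrime] : (P.under A).height = P.height := by
  haveI : FaithfulSMul A B := (faithfulSMul_iff_algebraMap_injective A B).mpr hinj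
  haveI : Algebra.IsIntegral A B := Algebra.IsIntegral.of_finite A B
  haveI : P.LiesOver (P.under A) := ⟨rfl⟩
  rw [Ideal.height_eq_height_add_of_liesOver_of_hasGoingDown (P.under A) P]
  suffices ((P.map (Ideal.Quotient.mk ((P.under A).map (algebraMap A B))))).height = 0 by rw [this, add_zero]
  set J := (P.under A).map (algebraMap A B) with hJ
  have hJP : J ≤ P := Ideal.map_comap_le
  haveI hP' : (P.map (Ideal.Quotient.mk J)).IsPrime :=
    Ideal.map_isPrime_of_surjective Ideal.Quotient.mk_surjective (by rwa [Ideal.mk_ker])
  rw [Ideal.height_eq_zero_iff]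
  refine ⟨⟨hP', bot_le⟩, fun Q hQ hQP => ?_⟩
  haveI := hQ.1
  have hQ' : Q.comap (Ideal.Quotient.mk J) ≤ P := by
    refine le_trans (Ideal.comap_mono hQP) ?_
    rw [Ideal.comap_map_of_surjective _ Ideal.Quotient.mk_surjective, sup_le_iff]
    exact ⟨le_rfl, le_trans (le_of_eq (RingHom.ker_eq_comap_bot _).symm) (by rwa [Ideal.mk_ker])⟩
  have hJQ : J ≤ Q.comap (Ideal.Quotient.mk J) := fun x hx => by
    rw [Ideal.mem_comap, Ideal.Quotient.eq_zero_iff_mem.mpr hx]; exact Q.zero_mem
  rcases lt_or_eq_of_le hQ' with hlt | heq
  · have h1 := Ideal.IsIntegral.comap_lt_comap (R := A) hlt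
    exact absurd (Ideal.map_le_iff_le_comap.mp hJQ) (not_le_of_gt h1)
  · rw [← heq, Ideal.map_comap_of_surjective _ Ideal.Quotient.mk_surjective]

theorem exists_height_one_le [IsDomain A] [IsNoetherianRing A] [IsLocalRing A]
    (h1 : (1 : WithBot ℕ∞) ≤ ringKrullDim A) : ∃ p : Ideal A, p.IsPrime ∧ p.height = 1 := by
  have hbot : maximalIdeal A ≠ ⊥ := fun h => by
    rw [← isField_iff_maximalIdeal_eq] at h
    rw [ringKrullDim_eq_zero_of_isField h] at h1
    exact absurd h1 (by decide)
  obtain ⟨x, hx, hx0⟩ := Submodule.exists_mem_ne_zero_of_ne_bot hbot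
  obtain ⟨p, hp⟩ := Ideal.nonempty_minimalPrimes (I := Ideal.span {x})
    (by rw [Ne, Ideal.span_singleton_eq_top]; exact hx)
  haveI := hp.1.1
  refine ⟨p, inferInstance, le_antisymm (Ideal.height_le_one_of_isPrincipal_of_mem_minimalPrimes _ p hp) ?_⟩
  rw [ENat.one_le_iff_ne_zero]
  intro h0
  rw [Ideal.height_eq_zero_iff] at h0
  have : p = ⊥ := le_bot_iff.mp (h0.2 ⟨Ideal.isPrime_bot, le_rfl⟩ bot_le)
  exact hx0 (Ideal.mem_bot.mp (this ▸ hp.1.2 (Ideal.mem_span_singleton_self x)))

theorem isEtaleAt_of_le {P Q : Ideal B} [P.IsPrime] [Q.IsPrime] [Algebra.FinitePresentation A B]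
    (hPQ : P ≤ Q) [Algebra.IsEtaleAt A Q] : Algebra.IsEtaleAt A P := by
  have hsp : (⟨P, inferInstance⟩ : PrimeSpectrum B) ⤳ ⟨Q, inferInstance⟩ :=
    (PrimeSpectrum.le_iff_specializes _ _).mp hPQ
  exact hsp.mem_open Algebra.isOpen_etaleLocus (show (⟨Q, inferInstance⟩ : PrimeSpectrum B) ∈ Algebra.etaleLocus A B from ‹_›)

theorem isUnramifiedAt_of_le {P Q : Ideal B} [P.IsPrime] [Q.IsPrime] [Algebra.EssFiniteType A B]
    (hPQ : P ≤ Q) [Algebra.IsUnramifiedAt A Q] : Algebra.IsUnramifiedAt A P := by
  have hsp : (⟨P, inferInstance⟩ : PrimeSpectrum B) ⤳ ⟨Q, inferInstance⟩ :=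
    (PrimeSpectrum.le_iff_specializes _ _).mp hPQ
  exact hsp.mem_open Algebra.isOpen_unramifiedLocus (show (⟨Q, inferInstance⟩ : PrimeSpectrum B) ∈ Algebra.unramifiedLocus A B from ‹_›)

/-- A normal domain finite over a regular local ring, unramified in codimension one, is étale. -/
theorem etale_of_codim_one : ∀ (e : ℕ) (A : Type u) [CommRing A] [IsRegularLocalRing A],
    ringKrullDim A = (e : WithBot ℕ∞) → 1 ≤ e →
    ∀ (B : Type u) [CommRing B] [IsDomain B] [IsIntegrallyClosed B] [Algebra A B] [Module.Finite A B],
      Function.Injective (algebraMap A B) →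
      (∀ (q : Ideal B) (_ : q.IsPrime), q.height = 1 → Algebra.IsUnramifiedAt A q) → Algebra.Etale A B := by
  intro e
  induction e using Nat.strong_induction_on with
  | _ e ih =>
  intro A _ _ hdim he B _ _ _ _ _ hinj hunr
  have := Groth.Ega4Algebra1.isDomain_of_isRegularLocalRing A
  haveI := Groth.PicAux.ufd_of_isRegularLocalRing A
  haveI : IsNoetherianRing B := IsNoetherianRing.of_finite A B
  haveI : Algebra.FinitePresentation A B := Algebra.FinitePresentation.of_finiteType.mp inferInstance
  haveI : FaithfulSMul A B := (faithfulSMul_iff_algebraMap_injective A B).mpr hinj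
  haveI : Algebra.IsIntegral A B := Algebra.IsIntegral.of_finite A B
  have hm : ((maximalIdeal A).height : WithBot ℕ∞) = (e : WithBot ℕ∞) := by
    rw [maximalIdeal_height_eq_ringKrullDim, hdim]
  have hm' : (maximalIdeal A).height = (e : ℕ∞) := WithBot.coe_injective hm
  rcases Nat.lt_or_ge e 2 with he2 | he2
  · -- dimension one
    obtain rfl : e = 1 := by omega
    haveI : IsPrincipalIdealRing A :=
      ((tfae_of_isNoetherianRing_of_isLocalRing_of_isDomain A).out 4 0
        (a := (maximalIdeal A).IsPrincipal) (b := IsPrincipalIdealRing A)).mp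
        (by
          have h1 := IsRegularLocalRing.spanFinrank_maximalIdeal (R := A)
          rw [hdim] at h1
          have h2 : (maximalIdeal A).spanFinrank = 1 := by exact_mod_cast h1
          obtain ⟨s, hs, hspan⟩ : ∃ s : Finset A, s.card ≤ 1 ∧ Ideal.span (s : Set A) = maximalIdeal A := by
            have hfg : (maximalIdeal A).FG := IsNoetherian.noetherian _
            refine ⟨(Submodule.FG.finite_generators hfg).toFinset, ?_, ?_⟩
            · rw [← Set.ncard_eq_toFinset_card _ (Submodule.FG.finite_generators hfg)]
              exact (Submodule.FG.generators_ncard hfg).le.trans h2.le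
            · rw [Set.Finite.coe_toFinset]; exact Submodule.span_generators _
          rcases Finset.card_le_one_iff_subset_singleton.mp hs with ⟨x, hx⟩
          rcases Finset.subset_singleton_iff.mp hx with rfl | rfl
          · exact ⟨0, by simpa using hspan.symm⟩
          · exact ⟨x, by simpa using hspan.symm⟩)
    haveI : Module.IsTorsionFree A B :=
      Module.isTorsionFree_iff_algebraMap_injective.mpr hinj
    haveI : Module.Free A B := Module.free_of_finite_type_torsion_free'
    haveI : Algebra.FormallyUnramified A B := Algebra.unramifiedLocus_eq_univ_iff.mp <| by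
      rw [Set.eq_univ_iff_forall]
      intro q
      by_cases hq : q.asIdeal.height = 1
      · exact hunr _ q.isPrime hq
      · obtain ⟨Q, hQmax, hQ⟩ := Ideal.exists_le_maximal q.asIdeal q.isPrime.ne_top
        haveI : (Q.under A).IsMaximal := Ideal.IsMaximal.under A Q
        have hQ1 : Q.height = 1 := by
          rw [← height_under_eq hinj Q, eq_maximalIdeal ‹(Q.under A).IsMaximal›, hm', Nat.cast_one]
        haveI := hunr Q hQmax.isPrime hQ1
        exact isUnramifiedAt_of_le (P := q.asIdeal) hQ
    exact .of_formallyUnramified_of_flat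
  · refine etale_of_normal (by rw [hdim]; exact_mod_cast he2) B hinj (etale_away_of_isEtaleAt fun q hq hqm => ?_)
    haveI := hq
    -- etaleness at primes not over the closed point, by induction
    have key : ∀ (q : Ideal B) [q.IsPrime], q.comap (algebraMap A B) ≠ maximalIdeal A →
        q.comap (algebraMap A B) ≠ ⊥ → Algebra.IsEtaleAt A q := by
      intro q _ hne hbot
      set p := q.comap (algebraMap A B) with hp
      let Ap := Localization.AtPrime p
      haveI : IsRegularLocalRing Ap := Groth.Ega4Algebra1.isRegularLocalRing_localization_atPrime A p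
      have hlt : p.height < (maximalIdeal A).height := by
        haveI : p.FiniteHeight := ⟨Or.inr (ne_top_of_le_ne_top (by rw [hm']; exact ENat.coe_ne_top e)
          (Ideal.height_mono (le_maximalIdeal (Ideal.IsPrime.ne_top inferInstance))))⟩
        exact Ideal.height_strict_mono_of_isPrime
          (lt_of_le_of_ne (le_maximalIdeal (Ideal.IsPrime.ne_top inferInstance)) hne)
      obtain ⟨j, hj⟩ := ENat.ne_top_iff_exists.mp (ne_top_of_lt hlt)
      rw [hm', ← hj, ENat.coe_lt_coe] at hlt
      have hj1 : 1 ≤ j := by
        rcases Nat.eq_zero_or_pos j with rfl | h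
        · rw [Nat.cast_zero, eq_comm, Ideal.height_eq_zero_iff] at hj
          exact absurd (le_bot_iff.mp (hj.2 ⟨Ideal.isPrime_bot, le_rfl⟩ bot_le)) hbot
        · exact h
      have hdimp : ringKrullDim Ap = (j : WithBot ℕ∞) := by
        rw [IsLocalization.AtPrime.ringKrullDim_eq_height p Ap, ← hj]; rfl
      let M := Algebra.algebraMapSubmonoid B p.primeCompl
      let Bp := Localization M
      haveI : IsLocalization (Submonoid.map (algebraMap A B) p.primeCompl) Bp := (inferInstance : IsLocalization M Bp)
      have hM : M ≤ nonZeroDivisors B := by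
        rintro _ ⟨x, hx, rfl⟩
        exact mem_nonZeroDivisors_of_ne_zero fun h0 => hx ((hinj (h0.trans (map_zero _).symm)).symm ▸ p.zero_mem)
      haveI : IsDomain Bp := IsLocalization.isDomain_localization hM
      haveI : IsIntegrallyClosed Bp := isIntegrallyClosed_of_isLocalization Bp M hM
      haveI : Module.Finite Ap Bp := Module.Finite.of_isLocalization A B p.primeCompl
      have hinjp : Function.Injective (algebraMap Ap Bp) :=
        IsLocalization.map_injective_of_injective p.primeCompl Ap Bp hinj
      haveI : Algebra.Etale Ap Bp := ih j hlt Ap hdimp hj1 Bp hinjp fun Q hQ hQ1 => by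
        haveI := hQ
        have h1 : (Q.under B).height = 1 := (IsLocalization.height_under M Q).trans hQ1
        haveI : Algebra.FormallyUnramified A (Localization.AtPrime (Q.under B)) := hunr _ inferInstance h1
        haveI : IsLocalization.AtPrime (Localization.AtPrime Q) (Q.under B) :=
          IsLocalization.isLocalization_atPrime_localization_atPrime (M := M) Q
        let e := IsLocalization.algEquiv (Q.under B).primeCompl (Localization.AtPrime (Q.under B)) (Localization.AtPrime Q)
        haveI : Algebra.FormallyUnramified A (Localization.AtPrime Q) :=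
          Algebra.FormallyUnramified.of_equiv (e.restrictScalars A)
        exact Algebra.FormallyUnramified.of_restrictScalars A Ap _
      haveI : Algebra.FormallyEtale A Ap := Algebra.FormallyEtale.of_isLocalization p.primeCompl
      haveI : Algebra.FormallyEtale A Bp := Algebra.FormallyEtale.comp A Ap Bp
      have hdisj : Disjoint (M : Set B) q := by
        rw [Set.disjoint_left]
        rintro _ ⟨x, hx, rfl⟩ hxq
        exact hx hxq
      haveI hQ : (q.map (algebraMap B Bp)).IsPrime :=
        IsLocalization.isPrime_of_isPrime_disjoint M Bp q inferInstance hdisj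
      have hcomap : (q.map (algebraMap B Bp)).under B = q :=
        IsLocalization.comap_map_of_isPrime_disjoint M Bp inferInstance hdisj
      haveI : IsLocalization.AtPrime (Localization.AtPrime (q.map (algebraMap B Bp))) q := by
        have h := IsLocalization.isLocalization_atPrime_localization_atPrime (M := M) (q.map (algebraMap B Bp))
        refine Eq.mp (congr_arg (fun S : Submonoid B =>
          IsLocalization S (Localization.AtPrime (q.map (algebraMap B Bp)))) ?_) h
        ext x
        exact not_congr (SetLike.ext_iff.mp hcomap x)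
      let e := IsLocalization.algEquiv q.primeCompl (Localization.AtPrime (q.map (algebraMap B Bp))) (Localization.AtPrime q)
      exact Algebra.FormallyEtale.of_equiv (e.restrictScalars A)
    by_cases hbot : q.comap (algebraMap A B) = ⊥
    · have hq0 : q = ⊥ := Ideal.eq_bot_of_comap_eq_bot hbot
      obtain ⟨p', hp', hp'1⟩ := exists_height_one_le (A := A) (by rw [hdim]; exact_mod_cast he)
      haveI := hp'
      obtain ⟨Q, _, hQ, hQc⟩ := Ideal.exists_ideal_over_prime_of_isIntegral p' (⊥ : Ideal B) (fun x hx => by
        rw [Ideal.mem_comap, Ideal.mem_bot, map_eq_zero_iff _ hinj] at hx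
        rw [hx]; exact p'.zero_mem)
      haveI := hQ
      haveI := key Q (by
        rw [hQc]; intro h0; rw [h0, hm'] at hp'1
        exact absurd hp'1 (by exact_mod_cast (show e ≠ 1 by omega))) (by
        rw [hQc]; intro h0; rw [h0, Ideal.height_bot] at hp'1; exact zero_ne_one hp'1)
      exact isEtaleAt_of_le (P := q) (Q := Q) (hq0 ▸ bot_le)
    · exact key q hqm hbot

end Groth.Purity
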