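import Mathlib
import Groth.Prelude.Def_Pi1

/-!
# The invariants of the inertia group are étale over the invariants

For `c` fixed by the inertia group `I` of `q` with `σ c ≢ c` modulo `q` for `σ ∉ I`, the polynomial
`F = ∏ (T - σ c)` over cosets of `I` has invariant coefficients and, by Lagrange interpolation,
`R^I[1/F'(c)]` is the standard étale algebra of `F`.
-/

set_option autoImplicit false

universe u v

open Polynomial Pointwise

namespace Groth.Purity

/-- The inclusion of the invariants of a group in the invariants of a subgroup, as an algebra. -/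
@[reducible] def inclAlg (G : Type v) (R : Type u) [Group G] [CommRing R] [MulSemiringAction G R] (H : Subgroup G) :
    Algebra (FixedPoints.subring R G) (FixedPoints.subring R H) :=
  (Subring.inclusion (show FixedPoints.subring R G ≤ FixedPoints.subring R H from
    fun _ hx h => hx (h : G))).toAlgebra

attribute [local instance] inclAlg

variable {G : Type v} {R : Type u} [Group G] [Finite G] [CommRing R] [MulSemiringAction G R]

theorem prod_mem' {ι : Type*} {S : Type*} [CommRing S] (I : Ideal S) {s : Finset ι} {f : ι → S} {i : ι} (hi : i ∈ s)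
    (h : f i ∈ I) : ∏ j ∈ s, f j ∈ I :=
  I.mem_of_dvd (Finset.dvd_prod_of_mem f hi) h

theorem exists_separating_residue (q : Ideal R) [q.IsPrime] :
    ∃ b : R, ∀ σ : G, σ • q = q → σ ∉ q.inertia G → σ • b - b ∉ q := by
  classical
  let D := MulAction.stabilizer G q
  let S := R ⧸ q
  let L := FractionRing S
  have hDq : ∀ (σ : D) (x : R), x ∈ q → σ.1 • x ∈ q := fun σ x hx => by
    have := Ideal.smul_mem_pointwise_smul σ.1 x q hx
    rwa [MulAction.mem_stabilizer_iff.mp σ.2] at this
  let eS : D → S ≃+* S := fun σ => Ideal.quotientEquiv q q (MulSemiringAction.toRingEquiv G R σ.1) (by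
    conv_lhs => rw [← MulAction.mem_stabilizer_iff.mp σ.2]
    rfl)
  let ρ : D →* RingAut L :=
    { toFun := fun σ => IsFractionRing.ringEquivOfRingEquiv (eS σ)
      map_one' := RingEquiv.ext fun x => by
        refine DFunLike.congr_fun (IsLocalization.ringHom_ext (nonZeroDivisors S)
          (j := (IsFractionRing.ringEquivOfRingEquiv (eS 1)).toRingHom) (k := RingHom.id L) (RingHom.ext fun y => ?_)) x
        obtain ⟨y, rfl⟩ := Ideal.Quotient.mk_surjective y
        simp [eS]; rfl
      map_mul' := fun σ τ => RingEquiv.ext fun x => by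
        refine DFunLike.congr_fun (IsLocalization.ringHom_ext (nonZeroDivisors S)
          (j := (IsFractionRing.ringEquivOfRingEquiv (eS (σ * τ))).toRingHom)
          (k := ((IsFractionRing.ringEquivOfRingEquiv (eS σ)).toRingHom.comp
            (IsFractionRing.ringEquivOfRingEquiv (eS τ)).toRingHom : L →+* L)) (RingHom.ext fun y => ?_)) x
        obtain ⟨y, rfl⟩ := Ideal.Quotient.mk_surjective y
        simp [eS, mul_smul]; rfl }
  haveI : Finite ρ.range := Finite.of_surjective ρ.rangeRestrict ρ.rangeRestrict_surjective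
  let F := FixedPoints.subfield ρ.range L
  obtain ⟨θ, hθ⟩ := Field.exists_primitive_element F L
  obtain ⟨x, y, hy, hxy⟩ := IsFractionRing.div_surjective S θ
  obtain ⟨x, rfl⟩ := Ideal.Quotient.mk_surjective x
  obtain ⟨y, rfl⟩ := Ideal.Quotient.mk_surjective y
  haveI : Fintype D := Fintype.ofFinite D
  -- make the denominator invariant
  let nY := ∏ d : D, d.1 • y
  refine ⟨x * ∏ d ∈ Finset.univ.erase (1 : D), d.1 • y, fun σ hσ hI hmem => ?_⟩
  let σ' : D := ⟨σ, hσ⟩
  have hfix : σ • nY = nY := by
    rw [Finset.smul_prod']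
    refine Fintype.prod_equiv (Equiv.mulLeft σ') _ _ fun d => ?_
    rw [← mul_smul]; rfl
  let m : R →+* L := (algebraMap S L).comp (Ideal.Quotient.mk q)
  have hρ : ∀ z : R, ρ σ' (m z) = m (σ • z) := fun z => by
    simp [ρ, m, eS, σ']; rfl
  have hn : m nY ≠ 0 := by
    rw [map_prod, Finset.prod_ne_zero_iff]
    intro d _ h0
    have h1 : d.1 • y ∈ q := Ideal.Quotient.eq_zero_iff_mem.mp
      (IsFractionRing.injective S L (h0.trans (map_zero _).symm))
    have h2 := hDq d⁻¹ _ h1
    rw [Subgroup.coe_inv, inv_smul_smul] at h2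
    exact nonZeroDivisors.ne_zero hy (Ideal.Quotient.eq_zero_iff_mem.mpr h2)
  have hu : m (x * ∏ d ∈ Finset.univ.erase (1 : D), d.1 • y) = θ * m nY := by
    have hny : nY = y * ∏ d ∈ Finset.univ.erase (1 : D), d.1 • y := by
      rw [show nY = ∏ d : D, d.1 • y from rfl, ← Finset.mul_prod_erase _ _ (Finset.mem_univ (1 : D)), OneMemClass.coe_one, one_smul]
    have hy0 : m y ≠ 0 := fun h => nonZeroDivisors.ne_zero hy
      (IsFractionRing.injective S L (h.trans (map_zero _).symm))
    rw [hny, map_mul, map_mul, ← hxy]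
    show m x * _ = m x / m y * (m y * _)
    rw [← mul_assoc, div_mul_cancel₀ _ hy0]
  have hθfix : ρ σ' θ = θ := by
    have h1 : m (σ • (x * ∏ d ∈ Finset.univ.erase (1 : D), d.1 • y)) = m (x * ∏ d ∈ Finset.univ.erase (1 : D), d.1 • y) :=
      congr_arg (algebraMap S L) (Ideal.Quotient.eq.mpr hmem)
    rw [← hρ, hu, map_mul, hρ nY, hfix] at h1
    exact mul_right_cancel₀ hn h1
  -- the fixed field of `σ'` contains a generator, so `σ'` acts trivially
  let f : L →ₐ[F] L := { (ρ σ').toRingHom with commutes' := fun r => r.2 ⟨ρ σ', σ', rfl⟩ }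
  have hfid : ∀ z, f z = z := fun z => by
    have hz : z ∈ IntermediateField.adjoin F {θ} := hθ ▸ IntermediateField.mem_top
    induction hz using IntermediateField.adjoin_induction with
    | mem w hw => rw [Set.mem_singleton_iff] at hw; subst hw; exact hθfix
    | algebraMap r => exact f.commutes r
    | add a b _ _ ha hb => rw [map_add, ha, hb]
    | inv a _ ha => rw [map_inv₀, ha]
    | mul a b _ _ ha hb => rw [map_mul, ha, hb]
  exact hI fun z => Ideal.Quotient.eq.mp
    (IsFractionRing.injective S L ((hρ z).symm.trans (hfid _)))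

set_option maxHeartbeats 200000 in
/-- An element fixed by inertia separating the cosets of inertia at `q`. -/
theorem exists_separating (q : Ideal R) [q.IsPrime] :
    ∃ c : FixedPoints.subring R (q.inertia G), ∀ σ : G, σ ∉ q.inertia G → σ • (c : R) - c ∉ q := by
  classical
  haveI := Fintype.ofFinite G
  obtain ⟨b, hbq, hb⟩ : ∃ b : R, b ∉ q ∧ ∀ σ : G, σ • q = q → σ ∉ q.inertia G → σ • b - b ∉ q := by
    obtain ⟨b, hb⟩ := exists_separating_residue (G := G) q
    by_cases hbq : b ∈ q
    · refine ⟨b + 1, fun h => ‹q.IsPrime›.ne_top ((Ideal.eq_top_iff_one _).mpr (by simpa using q.sub_mem h hbq)),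
        fun σ h1 h2 h3 => hb σ h1 h2 ?_⟩
      rwa [smul_add, smul_one, add_sub_add_right_eq_sub] at h3
    · exact ⟨b, hbq, hb⟩
  -- `q` contains no other conjugate of itself
  have hinc : ∀ σ : G, σ • q ≠ q → ¬ σ • q ≤ q := by
    intro σ hσ hle
    have hk : ∀ k : ℕ, σ ^ (k + 1) • q ≤ σ • q := by
      intro k
      induction k with
      | zero => rw [zero_add, pow_one]
      | succ k ih =>
        rw [pow_succ', mul_smul]
        exact Ideal.pointwise_smul_le_pointwise_smul_iff.mpr (ih.trans hle)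
    have hord : 0 < orderOf σ := orderOf_pos σ
    obtain ⟨k, hk'⟩ : ∃ k, orderOf σ = k + 1 := ⟨orderOf σ - 1, by omega⟩
    have := hk k
    rw [← hk', pow_orderOf_eq_one, one_smul] at this
    exact hσ (le_antisymm hle this)
  have he : ∀ σ : {σ : G // σ • q ≠ q}, ∃ a ∈ σ.1 • q, a ∉ q := fun σ => SetLike.not_le_iff_exists.mp (hinc σ σ.2)
  choose e he hq using he
  let E := ∏ σ, e σ
  have hEq : E ∉ q := fun h => by
    obtain ⟨σ, -, hσ⟩ := Ideal.IsPrime.prod_mem_iff.mp h
    exact hq σ hσ
  let D := MulAction.stabilizer G q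
  let E' := ∏ d : D, d.1 • E
  have hE'q : E' ∉ q := fun h => by
    obtain ⟨d, -, hd⟩ := Ideal.IsPrime.prod_mem_iff.mp h
    have := (Ideal.mem_pointwise_smul_iff_inv_smul_mem (a := d.1)).mp ((MulAction.mem_stabilizer_iff.mp d.2).symm ▸ hd)
    exact hEq (by rwa [inv_smul_smul] at this)
  have hE'fix : ∀ σ : G, σ • q = q → σ • E' = E' := fun σ hσ => by
    rw [Finset.smul_prod']
    refine Fintype.prod_equiv (Equiv.mulLeft (⟨σ, hσ⟩ : D)) _ _ fun d => ?_
    rw [← mul_smul]; rfl
  have hE'oth : ∀ σ : G, σ • q ≠ q → σ⁻¹ • q ≠ q → σ • E' ∈ q := by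
    intro σ _ hσ'
    rw [show q = σ • (σ⁻¹ • q) by rw [smul_inv_smul]]
    refine Ideal.smul_mem_pointwise_smul σ _ _ ?_
    show ∏ d : D, d.1 • E ∈ _
    refine prod_mem' (f := fun d : D => d.1 • E) _ (Finset.mem_univ (1 : D)) ?_
    show ((1 : D) : G) • E ∈ _
    rw [OneMemClass.coe_one, one_smul]
    have h1 : e (⟨σ⁻¹, hσ'⟩ : {τ : G // τ • q ≠ q}) ∈ σ⁻¹ • q := he ⟨σ⁻¹, hσ'⟩
    exact Ideal.mem_of_dvd (σ⁻¹ • q) (Finset.dvd_prod_of_mem e (Finset.mem_univ (⟨σ⁻¹, hσ'⟩ : {τ : G // τ • q ≠ q}))) h1
  let a := b * E'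
  let J := q.inertia G
  let N := Fintype.card J
  have hJD : ∀ h : G, h ∈ J → h • q = q := by
    intro h hh
    refine le_antisymm (fun z hz => ?_) (fun z hz => ?_)
    · obtain ⟨w, hw, rfl⟩ := Ideal.mem_pointwise_smul_iff_inv_smul_mem.mp hz |> fun hh' => (⟨h⁻¹ • z, hh', smul_inv_smul h z⟩ : ∃ w, w ∈ q ∧ h • w = z)
      have := hh w
      simpa using q.add_mem this hw
    · rw [Ideal.mem_pointwise_smul_iff_inv_smul_mem]
      have := (J.inv_mem hh) z
      simpa using q.add_mem this hz
  -- the elementary symmetric functions of the orbit of `a`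
  obtain ⟨k, hk0, hkN, hkinj⟩ : ∃ k, 0 < k ∧ k ≤ N ∧
      ∀ x y : R ⧸ q, (N.choose k : R ⧸ q) * x ^ k = (N.choose k : R ⧸ q) * y ^ k → x = y := by
    have hNpos : 0 < N := Fintype.card_pos
    obtain ⟨p, hchar⟩ := CharP.exists (R ⧸ q)
    rcases CharP.char_is_prime_or_zero (R ⧸ q) p with hp | rfl
    · haveI := Fact.mk hp
      obtain ⟨v, w, hw, hNw⟩ := Nat.exists_eq_pow_mul_and_not_dvd hNpos.ne' p hp.ne_one
      refine ⟨p ^ v, pow_pos hp.pos _, Nat.le_of_dvd hNpos ⟨w, hNw⟩, fun x y hxy => ?_⟩
      have hne : (N.choose (p ^ v) : R ⧸ q) ≠ 0 := by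
        have h1 : ((1 : (R ⧸ q)[X]) + X) ^ N = (1 + X ^ p ^ v) ^ w := by
          rw [hNw, pow_mul, add_pow_char_pow, one_pow]
        have h2 := congr_arg (fun P : (R ⧸ q)[X] => (expand (R ⧸ q) (p ^ v) ((1 + X) ^ w)).coeff (p ^ v) = 0 → P.coeff (p ^ v) = 0) h1
        have h3 : (((1 : (R ⧸ q)[X]) + X ^ p ^ v) ^ w).coeff (p ^ v) = (w : R ⧸ q) := by
          rw [show ((1 : (R ⧸ q)[X]) + X ^ p ^ v) ^ w = expand (R ⧸ q) (p ^ v) ((1 + X) ^ w) by
            simp [expand_X], coeff_expand (pow_pos hp.pos _), if_pos dvd_rfl,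
            Nat.div_self (pow_pos hp.pos _), coeff_one_add_X_pow, Nat.choose_one_right]
        rw [← coeff_one_add_X_pow, h1, h3]
        exact fun h0 => hw ((CharP.cast_eq_zero_iff _ p _).mp h0)
      exact iterateFrobenius_inj (R ⧸ q) p v (mul_left_cancel₀ hne hxy)
    · haveI := CharP.charP_to_charZero (R ⧸ q)
      refine ⟨1, one_pos, hNpos, fun x y hxy => ?_⟩
      rw [pow_one, pow_one] at hxy
      exact mul_left_cancel₀ (by rw [Nat.choose_one_right]; exact_mod_cast hNpos.ne') hxy
  let S := (Finset.univ : Finset J).powersetCard k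
  let c : R := ∑ s ∈ S, ∏ h ∈ s, h.1 • a
  have hc : c ∈ FixedPoints.subring R J := by
    intro g
    show g.1 • c = c
    rw [Finset.smul_sum]
    refine Finset.sum_nbij' (fun s => s.image (g * ·)) (fun s => s.image (g⁻¹ * ·)) ?_ ?_ ?_ ?_ ?_
    · intro s hs
      rw [Finset.mem_powersetCard] at hs ⊢
      exact ⟨Finset.subset_univ _, (Finset.card_image_of_injective _ (mul_right_injective g)).trans hs.2⟩
    · intro s hs
      rw [Finset.mem_powersetCard] at hs ⊢
      exact ⟨Finset.subset_univ _, (Finset.card_image_of_injective _ (mul_right_injective g⁻¹)).trans hs.2⟩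
    · intro s _
      rw [Finset.image_image]
      convert Finset.image_id (s := s)
      funext x; simp
    · intro s _
      rw [Finset.image_image]
      convert Finset.image_id (s := s)
      funext x; simp
    · intro s _
      rw [Finset.smul_prod', Finset.prod_image fun x _ y _ hxy => mul_right_injective g hxy]
      exact Finset.prod_congr rfl fun h _ => (mul_smul g.1 h.1 a).symm
  have hcmod : Ideal.Quotient.mk q c = (N.choose k : R ⧸ q) * Ideal.Quotient.mk q a ^ k := by
    have h1 : ∀ h : J, Ideal.Quotient.mk q (h.1 • a) = Ideal.Quotient.mk q a := fun h => Ideal.Quotient.eq.mpr (h.2 a)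
    rw [map_sum, Finset.sum_congr rfl fun s hs => by
      rw [map_prod, Finset.prod_congr rfl fun h _ => h1 h, Finset.prod_const, (Finset.mem_powersetCard.mp hs).2],
      Finset.sum_const, Finset.card_powersetCard, nsmul_eq_mul]
    rfl
  refine ⟨⟨c, hc⟩, fun σ hσ hmem => ?_⟩
  by_cases hσq : σ • q = q
  · have hE : Ideal.Quotient.mk q E' ≠ 0 := fun h => hE'q (Ideal.Quotient.eq_zero_iff_mem.mp h)
    have h1 : Ideal.Quotient.mk q (σ • c) = (N.choose k : R ⧸ q) * Ideal.Quotient.mk q (σ • a) ^ k := by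
      have hσc : σ • c - σ • ((N.choose k : R) * a ^ k) ∈ q := by
        rw [← smul_sub]
        have h' : c - (N.choose k : R) * a ^ k ∈ q := by
          rw [← Ideal.Quotient.eq, hcmod]; simp [a]
        have := Ideal.smul_mem_pointwise_smul σ _ q h'
        rwa [hσq] at this
      rw [Ideal.Quotient.eq.mpr hσc, smul_mul', smul_pow', map_mul, map_pow]
      congr 1
      rw [show σ • (N.choose k : R) = (N.choose k : R) from map_natCast (MulSemiringAction.toRingHom G R σ) _, map_natCast]
    have h2 : Ideal.Quotient.mk q (σ • a) = Ideal.Quotient.mk q a :=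
      hkinj _ _ (by rw [← h1, ← hcmod]; exact Ideal.Quotient.eq.mpr hmem)
    rw [smul_mul', hE'fix σ hσq, map_mul, map_mul] at h2
    exact hb σ hσq hσ (Ideal.Quotient.eq.mp (mul_right_cancel₀ hE h2))
  · have hall : ∀ h : J, σ • (h.1 • a) ∈ q := fun h => by
      rw [← mul_smul, smul_mul']
      refine q.mul_mem_left _ (hE'oth _ ?_ ?_)
      · rw [mul_smul, hJD _ h.2]; exact hσq
      · rw [mul_inv_rev, mul_smul]
        intro h0
        apply hσq
        have := congr_arg (fun I => σ • h.1 • I) h0
        simp only [smul_inv_smul] at this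
        rw [hJD _ h.2] at this
        exact this.symm
    have hσc : σ • c ∈ q := by
      rw [Finset.smul_sum]
      refine q.sum_mem fun s hs => ?_
      rw [Finset.smul_prod']
      obtain ⟨h, hh⟩ := Finset.card_pos.mp ((Finset.mem_powersetCard.mp hs).2 ▸ hk0)
      exact prod_mem' (f := fun h : J => σ • (h.1 • a)) _ hh (hall h)
    have hcq : c ∈ q := by simpa using q.sub_mem hσc hmem
    have h0 : (N.choose k : R ⧸ q) * Ideal.Quotient.mk q a ^ k = (N.choose k : R ⧸ q) * (0 : R ⧸ q) ^ k := by
      rw [← hcmod, Ideal.Quotient.eq_zero_iff_mem.mpr hcq, zero_pow hk0.ne', mul_zero]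
    have ha0 := hkinj _ _ h0
    rw [map_mul, mul_eq_zero] at ha0
    rcases ha0 with hb0 | hE0
    · exact hbq (Ideal.Quotient.eq_zero_iff_mem.mp hb0)
    · exact hE'q (Ideal.Quotient.eq_zero_iff_mem.mp hE0)

/-- The invariants of inertia are étale over the invariants at the prime below `q`. -/
theorem exists_etale_away (q : Ideal R) [q.IsPrime] :
    ∃ g : FixedPoints.subring R (q.inertia G),
      g ∉ q.comap (FixedPoints.subring R (q.inertia G)).subtype ∧
      Algebra.Etale (FixedPoints.subring R G) (Localization.Away g) := by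
  classical
  obtain ⟨c, hc⟩ := exists_separating (G := G) q
  let J := q.inertia G
  let R₀ := FixedPoints.subring R G
  let C := FixedPoints.subring R J
  haveI : Fintype (G ⧸ J) := Fintype.ofFinite _
  let val : (x : C) → G ⧸ J → R := fun x => Quotient.lift (fun σ => σ • (x : R)) fun a b hab => by
    have hm : a⁻¹ * b ∈ J := QuotientGroup.leftRel_apply.mp hab
    show a • (x : R) = b • (x : R)
    conv_rhs => rw [← mul_inv_cancel_left a b, mul_smul]
    rw [show (a⁻¹ * b) • (x : R) = x from x.2 ⟨_, hm⟩]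
  have hval : ∀ (x : C) (τ : G) (i : G ⧸ J), τ • val x i = val x (τ • i) := by
    intro x τ i
    induction i using QuotientGroup.induction_on with
    | _ σ => exact (mul_smul τ σ (x : R)).symm
  let v : G ⧸ J → R := val c
  let o : G ⧸ J := ((1 : G) : G ⧸ J)
  have hv1 : ∀ x : C, val x o = x := fun x => one_smul G (x : R)
  have hinv : ∀ σ : G, σ ∉ J → σ • (c : R) - c ∉ q := hc
  let FR : R[X] := ∏ i : G ⧸ J, (X - Polynomial.C (v i))
  let H : G ⧸ J → R[X] := fun i => ∏ j ∈ Finset.univ.erase i, (X - Polynomial.C (v j))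
  have hder : derivative FR = ∑ i, H i := by
    simp [FR, H, derivative_prod_finset]
  have hFH : ∀ i, FR = (X - Polynomial.C (v i)) * H i := fun i =>
    (Finset.mul_prod_erase _ _ (Finset.mem_univ i)).symm
  let act : G → R →+* R := fun τ => MulSemiringAction.toRingHom G R τ
  have hactv : ∀ (τ : G) i, act τ (v i) = v (τ • i) := fun τ i => hval c τ i
  have hH : ∀ (τ : G) i, (H i).map (act τ) = H (τ • i) := by
    intro τ i
    simp only [H, Polynomial.map_prod, Polynomial.map_sub, map_X, map_C, hactv]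
    refine Finset.prod_bij' (fun j _ => τ • j) (fun j _ => τ⁻¹ • j) ?_ ?_ ?_ ?_ ?_
    · intro j hj; simpa using hj
    · intro j hj
      simp only [Finset.mem_erase, Finset.mem_univ, and_true] at hj ⊢
      exact fun h => hj (by rw [← h, smul_inv_smul])
    · intro j _; simp
    · intro j _; simp
    · intro j _; rfl
  have hFR : ∀ τ : G, FR.map (act τ) = FR := by
    intro τ
    simp only [FR, Polynomial.map_prod, Polynomial.map_sub, map_X, map_C, hactv]
    exact Fintype.prod_equiv (MulAction.toPerm τ) _ _ fun i => rfl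
  have hlifts : ∀ P : R[X], (∀ τ : G, P.map (act τ) = P) → P ∈ Polynomial.lifts (algebraMap R₀ R) := by
    intro P hP
    rw [Polynomial.lifts_iff_coeff_lifts]
    intro k
    exact ⟨⟨P.coeff k, fun τ => by
      have := congr_arg (fun Q => Q.coeff k) (hP τ)
      rwa [coeff_map] at this⟩, rfl⟩
  have hFRm : FR.Monic := monic_prod_of_monic _ _ fun i _ => monic_X_sub_C _
  obtain ⟨F, hF, -, hFm⟩ := Polynomial.lifts_and_natDegree_eq_and_monic (hlifts FR hFR) hFRm
  have halg : ∀ (x : C), algebraMap C R x = (x : R) := fun x => rfl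
  haveI : IsScalarTower R₀ C R := IsScalarTower.of_algebraMap_eq fun r => rfl
  have hev : ∀ (P : R₀[X]) (x : C), ((Polynomial.aeval x P : C) : R) = (P.map (algebraMap R₀ R)).eval (x : R) := by
    intro P x
    rw [← halg, ← Polynomial.aeval_algebraMap_apply, halg, Polynomial.eval_map, Polynomial.aeval_def]
  have hFc : Polynomial.aeval c F = 0 := Subtype.ext (by
    rw [hev, hF, ZeroMemClass.coe_zero, eval_prod]
    exact Finset.prod_eq_zero (Finset.mem_univ o) (by simp [v, hv1]))
  let g : C := Polynomial.aeval c (derivative F)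
  have hHeval : ∀ i j, i ≠ j → (H i).eval (v j) = 0 := by
    intro i j hij
    rw [eval_prod]
    exact Finset.prod_eq_zero (i := j) (Finset.mem_erase.mpr ⟨hij.symm, Finset.mem_univ j⟩) (by simp)
  have hg : (g : R) = (H o).eval (c : R) := by
    rw [hev, ← derivative_map, hF, hder, eval_finset_sum, Finset.sum_eq_single o]
    · intro i _ hi
      have := hHeval i o hi
      rwa [show v o = (c : R) from hv1 c] at this
    · simp
  refine ⟨g, fun hgq => ?_, ?_⟩
  · rw [Ideal.mem_comap] at hgq
    change (g : R) ∈ q at hgq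
    rw [hg, eval_prod, Ideal.IsPrime.prod_mem_iff] at hgq
    obtain ⟨i, hi, hiq⟩ := hgq
    induction i using QuotientGroup.induction_on with
    | _ σ =>
      refine hinv σ (fun hσ => (Finset.mem_erase.mp hi).1 ?_) ?_
      · exact QuotientGroup.eq.mpr (by simpa using J.inv_mem hσ)
      · rw [eval_sub, eval_X, eval_C] at hiq
        have := q.neg_mem hiq
        rwa [neg_sub] at this
  -- the standard étale algebra
  let P : StandardEtalePair R₀ := ⟨F, hFm, derivative F, 1, 0, 1, by simp⟩
  let φ : AdjoinRoot F →ₐ[R₀] C := AdjoinRoot.liftAlgHom F (Algebra.ofId R₀ C) c hFc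
  have hφ : ∀ Q, φ (AdjoinRoot.mk F Q) = Polynomial.aeval c Q := fun Q => AdjoinRoot.lift_mk (show F.eval₂ (Algebra.ofId R₀ C).toRingHom c = 0 from hFc) Q
  haveI : IsLocalization.Away (φ (AdjoinRoot.mk F (derivative F))) (Localization.Away g) := by
    rw [hφ]; infer_instance
  let m := IsLocalization.Away.mapₐ (Localization.Away (AdjoinRoot.mk F (derivative F))) (Localization.Away g) φ
    (AdjoinRoot.mk F (derivative F))
  haveI : Algebra.Etale R₀ (Localization.Away (AdjoinRoot.mk P.f P.g)) := Algebra.Etale.of_equiv P.equivAwayAdjoinRoot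
  haveI : Algebra.Etale R₀ (Localization.Away (AdjoinRoot.mk F (derivative F))) :=
    inferInstanceAs (Algebra.Etale R₀ (Localization.Away (AdjoinRoot.mk P.f P.g)))
  refine Algebra.Etale.of_equiv (AlgEquiv.ofBijective m ⟨?_, ?_⟩)
  · refine (IsLocalization.Away.map_injective_iff (Q := Localization.Away g) φ.toRingHom
      (AdjoinRoot.mk F (derivative F))).mpr ?_
    intro a ha
    obtain ⟨Q, rfl⟩ := AdjoinRoot.mk_surjective a
    replace ha : Polynomial.aeval c Q = 0 := (hφ Q).symm.trans ha
    refine ⟨1, ?_⟩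
    rw [pow_one, ← map_mul, AdjoinRoot.mk_eq_zero, ← Polynomial.map_dvd_map (algebraMap R₀ R) Subtype.val_injective hFm,
      hF, Polynomial.map_mul, ← derivative_map, hF, hder, Finset.sum_mul]
    refine Finset.dvd_sum fun i _ => ?_
    rw [hFH i, mul_comm (X - Polynomial.C (v i))]
    refine mul_dvd_mul_left _ (dvd_iff_isRoot.mpr ?_)
    induction i using QuotientGroup.induction_on with
    | _ σ =>
      show (Q.map (algebraMap R₀ R)).eval (σ • (c : R)) = 0
      have h0 : (Q.map (algebraMap R₀ R)).eval (c : R) = 0 := by rw [← hev, ha]; rfl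
      have hQ : (Q.map (algebraMap R₀ R)).map (act σ) = Q.map (algebraMap R₀ R) := by
        ext k
        rw [coeff_map, coeff_map]
        exact (Q.coeff k).2 σ
      rw [← hQ]
      show ((Q.map (algebraMap R₀ R)).map (act σ)).eval (act σ (c : R)) = 0
      rw [eval_map_apply, h0, map_zero]
  · refine (IsLocalization.Away.map_surjective_iff (Localization.Away (AdjoinRoot.mk F (derivative F)))
      (Localization.Away g) φ.toRingHom (AdjoinRoot.mk F (derivative F))).mpr ?_
    intro x
    have hG : ∀ τ : G, (∑ i, Polynomial.C (val x i) * H i).map (act τ) = ∑ i, Polynomial.C (val x i) * H i := by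
      intro τ
      rw [Polynomial.map_sum]
      refine Fintype.sum_equiv (MulAction.toPerm τ) _ _ fun i => ?_
      rw [Polynomial.map_mul, map_C, hH, MulAction.toPerm_apply]
      exact congrArg₂ (· * ·) (congr_arg Polynomial.C (hval x τ i)) rfl
    obtain ⟨Q, hQ⟩ := (Polynomial.mem_lifts _).mp (hlifts _ hG)
    refine ⟨AdjoinRoot.mk F Q, 1, ?_⟩
    show φ (AdjoinRoot.mk F Q) = φ (AdjoinRoot.mk F (derivative F)) ^ 1 * x
    rw [hφ, hφ, pow_one]
    refine Subtype.ext ?_
    rw [hev, hQ, eval_finset_sum, Finset.sum_eq_single o]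
    · rw [eval_mul, eval_C, hv1, ← hg, mul_comm]; rfl
    · intro i _ hi
      have := hHeval i o hi
      rw [show v o = (c : R) from hv1 c] at this
      rw [eval_mul, this, mul_zero]
    · simp

end Groth.Purity
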