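import Mathlib
import Groth.Agent.Purity.Codim1
import Groth.Agent.Purity.Inertia

/-! Inertia subgroups of height-one primes generate the group of a cover of a regular local ring. -/

set_option autoImplicit false

universe u v

open IsLocalRing Pointwise TensorProduct

namespace Groth.Purity

theorem formallyUnramified_descends {R S T : Type u} [CommRing R] [CommRing S] [CommRing T] [Algebra R S] [Algebra S T]
    [Algebra R T] [IsScalarTower R S T] [IsLocalRing S] [IsLocalRing T] [IsLocalHom (algebraMap S T)]
    [Algebra.FormallyEtale S T] [Module.Flat S T] [Algebra.FormallyUnramified R T] : Algebra.FormallyUnramified R S := by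
  haveI : Module.FaithfullyFlat S T := Module.FaithfullyFlat.of_flat_of_isLocalHom
  have h : Subsingleton (T ⊗[S] Ω[S⁄R]) :=
    (KaehlerDifferential.tensorKaehlerEquivOfFormallyEtale R S T).toEquiv.subsingleton
  exact ⟨(Module.FaithfullyFlat.subsingleton_tensorProduct_iff_right S T).mp h⟩

theorem isEtaleAt_of_away {R S : Type u} [CommRing R] [CommRing S] [Algebra R S] {g : S} {q : Ideal S} [q.IsPrime]
    (hg : g ∉ q) [Algebra.Etale R (Localization.Away g)] : Algebra.IsEtaleAt R q :=
  Algebra.basicOpen_subset_etaleLocus_iff.mpr inferInstance (show (⟨q, inferInstance⟩ : PrimeSpectrum S) ∈ PrimeSpectrum.basicOpen g from hg)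

/-- A trace argument: a proper subgroup has more invariants. -/
theorem exists_fixed_not_fixed {A : Type u} [CommRing A] [IsDomain A] {H : Type v} [Group H] [Finite H]
    [MulSemiringAction H A] [FaithfulSMul H A] (N : Subgroup H) {h : H} (hh : h ∉ N) :
    ∃ t : A, (∀ n ∈ N, n • t = t) ∧ h • t ≠ t := by
  classical
  haveI := Fintype.ofFinite H
  by_contra hcon
  push Not at hcon
  let χ : H → (A →* A) := fun g => (MulSemiringAction.toRingHom H A g : A →* A)
  have hli : LinearIndependent A (fun g => (χ g : A → A)) :=
    (linearIndependent_monoidHom A A).comp χ fun g g' hgg =>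
      FaithfulSMul.eq_of_smul_eq_smul (α := A) fun a => DFunLike.congr_fun hgg a
  rw [Fintype.linearIndependent_iff] at hli
  let w : H → A := fun g => (if h⁻¹ * g ∈ N then 1 else 0) - (if g ∈ N then 1 else 0)
  have hsum : ∀ a : A, h • (∑ n : N, n.1 • a) = ∑ n : N, n.1 • a := fun a => hcon _ fun m hm => by
    rw [Finset.smul_sum]
    exact Fintype.sum_equiv (Equiv.mulLeft (⟨m, hm⟩ : N)) _ _ fun n => (mul_smul m n.1 a).symm
  have hz : ∑ g, w g • (χ g : A → A) = 0 := by
    funext a
    rw [Finset.sum_apply]
    simp only [w, Pi.smul_apply, smul_eq_mul, sub_mul, ite_mul, one_mul, zero_mul, Finset.sum_sub_distrib, Pi.zero_apply]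
    rw [← Finset.sum_filter, ← Finset.sum_filter, sub_eq_zero]
    have e1 : ∑ g ∈ Finset.univ.filter (fun g => g ∈ N), (χ g a : A) = ∑ n : N, n.1 • a := by
      rw [Finset.sum_subtype (Finset.univ.filter (fun g => g ∈ N)) (p := fun g => g ∈ N) (fun g => by simp)]
      exact Finset.sum_congr rfl fun n _ => rfl
    have e2 : ∑ g ∈ Finset.univ.filter (fun g => h⁻¹ * g ∈ N), (χ g a : A) = h • ∑ n : N, n.1 • a := by
      rw [Finset.smul_sum]
      refine Finset.sum_bij' (fun g hg => (⟨h⁻¹ * g, (Finset.mem_filter.mp hg).2⟩ : N)) (fun n _ => h * n.1) ?_ ?_ ?_ ?_ ?_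
      · intro g _; exact Finset.mem_univ _
      · intro n _; simp
      · intro g _; simp
      · intro n _; simp
      · intro g _
        show g • a = h • (h⁻¹ * g) • a
        rw [← mul_smul, mul_inv_cancel_left]
    rw [e1, e2, hsum]
  have h1 := hli w hz h
  simp [w, hh, N.one_mem] at h1

/-- Height-one inertia subgroups generate. -/
theorem iSup_inertia_eq_top (A : Type u) [CommRing A] [IsDomain A] [IsIntegrallyClosed A] [IsLocalRing A]
    (H : Type v) [Group H] [Finite H] [MulSemiringAction H A] [FaithfulSMul H A]
    [IsRegularLocalRing (FixedPoints.subring A H)] [Module.Finite (FixedPoints.subring A H) A]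
    (hres : ∀ a : A, ∃ r : FixedPoints.subring A H, a - (r : A) ∈ maximalIdeal A) :
    (⨆ P : {P : Ideal A // P.IsPrime ∧ P.height = 1}, P.1.inertia H) = ⊤ := by
  classical
  set N := ⨆ P : {P : Ideal A // P.IsPrime ∧ P.height = 1}, P.1.inertia H with hN
  let R₀ := FixedPoints.subring A H
  let C := FixedPoints.subring A N
  letI : Algebra R₀ C := inclAlg H A N
  haveI : IsScalarTower R₀ C A := IsScalarTower.of_algebraMap_eq fun r => rfl
  haveI : IsNoetherianRing R₀ := inferInstance
  haveI hCfin : Module.Finite R₀ C :=
    Module.Finite.of_injective (IsScalarTower.toAlgHom R₀ C A).toLinearMap Subtype.val_injective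
  haveI : Algebra.IsIntegral R₀ A := Algebra.IsIntegral.of_finite _ _
  haveI : Algebra.IsIntegral C A := Algebra.IsIntegral.tower_top (R := R₀)
  haveI : FaithfulSMul C A := (faithfulSMul_iff_algebraMap_injective C A).mpr Subtype.val_injective
  haveI : Module.Finite C A := Module.Finite.of_restrictScalars_finite R₀ C A
  have hinjC : Function.Injective (algebraMap R₀ C) := fun x y hxy => Subtype.ext (congr_arg (fun z : C => (z : A)) hxy)
  haveI hnormC : IsIntegrallyClosed C := by
    refine (isIntegrallyClosed_iff (FractionRing C)).mpr fun {x} hx => ?_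
    obtain ⟨a, b, hb, rfl⟩ := IsFractionRing.div_surjective C x
    let ι : FractionRing C →+* FractionRing A := IsFractionRing.lift (g := (algebraMap A (FractionRing A)).comp C.subtype)
      ((IsFractionRing.injective A (FractionRing A)).comp Subtype.val_injective)
    have hι : ∀ z : C, ι (algebraMap C (FractionRing C) z) = algebraMap A (FractionRing A) z := fun z =>
      IsFractionRing.lift_algebraMap _ z
    have hint : IsIntegral A (ι (algebraMap C _ a / algebraMap C _ b)) := by
      obtain ⟨p, hpm, hp⟩ := hx
      refine ⟨p.map C.subtype, hpm.map _, ?_⟩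
      have := congr_arg ι hp
      rw [Polynomial.hom_eval₂, map_zero] at this
      rw [Polynomial.eval₂_map]
      rw [show ((algebraMap A (FractionRing A)).comp C.subtype) = ι.comp (algebraMap C (FractionRing C)) from RingHom.ext fun z => (hι z).symm]
      exact this
    obtain ⟨w, hw⟩ := IsIntegrallyClosed.isIntegral_iff.mp hint
    have hb0 : (b : A) ≠ 0 := fun h0 => nonZeroDivisors.ne_zero hb (Subtype.ext h0)
    have hwb : w * b = a := IsFractionRing.injective A (FractionRing A) (by
      rw [map_mul, hw, map_div₀, hι, hι, div_mul_cancel₀]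
      exact fun h0 => hb0 (IsFractionRing.injective A (FractionRing A) (h0.trans (map_zero _).symm)))
    refine ⟨⟨w, fun n => mul_right_cancel₀ hb0 ?_⟩, ?_⟩
    · show n • w * (b : A) = w * b
      conv_lhs => rw [← show n • (b : A) = b from b.2 n]
      rw [← smul_mul', hwb]
      exact a.2 n
    · rw [eq_div_iff (fun h0 => nonZeroDivisors.ne_zero hb (IsFractionRing.injective C (FractionRing C) (h0.trans (map_zero _).symm))),
        ← map_mul]
      exact congr_arg _ (Subtype.ext hwb)
  haveI hlocC : IsLocalRing C := by
    refine IsLocalRing.of_nonunits_add fun a b ha hb hab => ?_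
    have hlift : ∀ z : C, IsUnit (z : A) → IsUnit z := fun z hz => isUnit_of_map_unit (algebraMap C A) z hz
    have : IsUnit ((a : A) + b) := hab.map C.subtype
    rcases IsLocalRing.isUnit_or_isUnit_of_isUnit_add this with h | h
    · exact ha (hlift a h)
    · exact hb (hlift b h)
  have hinjA : Function.Injective (algebraMap C A) := Subtype.val_injective
  haveI : IsNoetherianRing C := IsNoetherianRing.of_finite R₀ C
  haveI : IsNoetherianRing A := IsNoetherianRing.of_finite R₀ A
  -- unramified in codimension one
  have hunr : ∀ (Q : Ideal C) (_ : Q.IsPrime), Q.height = 1 → Algebra.IsUnramifiedAt R₀ Q := by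
    intro Q hQ hQ1
    obtain ⟨P, -, hP, hPQ⟩ := Ideal.exists_ideal_over_prime_of_isIntegral Q (⊥ : Ideal A) (fun x hx => by
      rw [Ideal.mem_comap, Ideal.mem_bot] at hx
      rw [show x = 0 from Subtype.ext hx]; exact Q.zero_mem)
    haveI := hP
    have hP1 : P.height = 1 := by
      rw [← height_under_eq hinjA P, Ideal.under_def, hPQ, hQ1]
    have hIN : P.inertia H ≤ N := le_iSup (fun P : {P : Ideal A // P.IsPrime ∧ P.height = 1} => P.1.inertia H) ⟨P, hP, hP1⟩
    let J := P.inertia H
    let T := FixedPoints.subring A J
    letI : Algebra R₀ T := inclAlg H A J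
    let inc : C →+* T :=
      { toFun := fun z => ⟨(z : A), fun m => z.2 ⟨m.1, hIN m.2⟩⟩
        map_one' := rfl, map_mul' := fun _ _ => rfl, map_zero' := rfl, map_add' := fun _ _ => rfl }
    letI : Algebra C T := inc.toAlgebra
    haveI : IsScalarTower R₀ C T := IsScalarTower.of_algebraMap_eq fun r => rfl
    let QT := P.comap T.subtype
    haveI : QT.IsPrime := Ideal.comap_isPrime _ _
    have hQT : QT.comap (algebraMap C T) = Q := by
      rw [← hPQ]; rfl
    haveI h1 : Algebra.IsEtaleAt R₀ QT := by
      obtain ⟨g, hg, het⟩ := exists_etale_away (G := H) (R := A) P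
      exact isEtaleAt_of_away hg
    -- the same with `N` in place of `H`
    let J' := P.inertia N
    let T' := FixedPoints.subring A J'
    letI : Algebra C T' := inclAlg N A J'
    obtain ⟨g', hg', het'⟩ := exists_etale_away (G := N) (R := A) P
    let e : T' ≃ₐ[C] T :=
      { toFun := fun z => ⟨(z : A), fun m => z.2 ⟨⟨m.1, hIN m.2⟩, m.2⟩⟩
        invFun := fun z => ⟨(z : A), fun m => z.2 ⟨m.1.1, m.2⟩⟩
        left_inv := fun z => rfl
        right_inv := fun z => rfl
        map_mul' := fun _ _ => rfl
        map_add' := fun _ _ => rfl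
        commutes' := fun r => rfl }
    haveI : IsLocalization.Away (e.toAlgHom g') (Localization.Away (e g')) := inferInstanceAs (IsLocalization.Away (e g') _)
    let me := IsLocalization.Away.mapₐ (Localization.Away g') (Localization.Away (e g')) e.toAlgHom g'
    haveI : Algebra.Etale C (Localization.Away (e g')) := Algebra.Etale.of_equiv (AlgEquiv.ofBijective me
      ⟨IsLocalization.Away.mapₐ_injective_of_injective g' e.injective,
        IsLocalization.Away.mapₐ_surjective_of_surjective g' e.surjective⟩)
    haveI h2 : Algebra.IsEtaleAt C QT := isEtaleAt_of_away (g := e g') hg'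
    haveI : QT.LiesOver Q := ⟨hQT.symm⟩
    letI := Localization.AtPrime.algebraOfLiesOver Q QT
    haveI : Algebra.FormallyEtale (Localization.AtPrime Q) (Localization.AtPrime QT) :=
      Algebra.FormallyEtale.localization_base Q.primeCompl
    haveI : Algebra.Smooth C (Localization.Away (e g')) := inferInstance
    have hflat : Module.Flat C (Localization.AtPrime QT) := by
      have hu : IsUnit (algebraMap T (Localization.AtPrime QT) (e g')) :=
        IsLocalization.map_units (Localization.AtPrime QT) (⟨e g', hg'⟩ : QT.primeCompl)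
      letI : Algebra (Localization.Away (e g')) (Localization.AtPrime QT) :=
        (IsLocalization.Away.lift (e g') hu).toAlgebra
      haveI : IsScalarTower T (Localization.Away (e g')) (Localization.AtPrime QT) :=
        IsScalarTower.of_algebraMap_eq fun t => (IsLocalization.Away.lift_eq (e g') hu t).symm
      haveI : IsScalarTower C (Localization.Away (e g')) (Localization.AtPrime QT) :=
        IsScalarTower.of_algebraMap_eq fun t => by
          rw [IsScalarTower.algebraMap_apply C T (Localization.Away (e g')), ← IsScalarTower.algebraMap_apply T (Localization.Away (e g')),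
            ← IsScalarTower.algebraMap_apply]
      haveI : IsLocalization (Algebra.algebraMapSubmonoid (Localization.Away (e g')) QT.primeCompl) (Localization.AtPrime QT) :=
        IsLocalization.isLocalization_of_submonoid_le (Localization.Away (e g')) (Localization.AtPrime QT)
          (Submonoid.powers (e g')) QT.primeCompl (Submonoid.powers_le.mpr hg')
      haveI : Module.Flat (Localization.Away (e g')) (Localization.AtPrime QT) :=
        IsLocalization.flat _ (Algebra.algebraMapSubmonoid (Localization.Away (e g')) QT.primeCompl)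
      exact Module.Flat.trans C (Localization.Away (e g')) _
    haveI : Module.Flat (Localization.AtPrime Q) (Localization.AtPrime QT) :=
      (Module.flat_iff_of_isLocalization (Localization.AtPrime Q) Q.primeCompl _).mpr hflat
    exact formallyUnramified_descends (R := R₀) (S := Localization.AtPrime Q) (T := Localization.AtPrime QT)
  -- conclude
  obtain ⟨d, hd⟩ : ∃ d : ℕ, ringKrullDim R₀ = (d : WithBot ℕ∞) := by
    obtain ⟨a, ha⟩ := WithBot.ne_bot_iff_exists.mp (ringKrullDim_ne_bot (R := R₀))
    obtain ⟨d, hd⟩ := ENat.ne_top_iff_exists.mp (fun h : a = ⊤ => ringKrullDim_ne_top (R := R₀) (by rw [← ha, h]; rfl))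
    exact ⟨d, by rw [← ha, ← hd]; rfl⟩
  have hresC : ∀ z : C, ∃ r : R₀, z - algebraMap R₀ C r ∈ maximalIdeal C := fun z => by
    obtain ⟨r, hr⟩ := hres z
    exact ⟨r, fun hu => hr (hu.map C.subtype)⟩
  have hsurj : Function.Surjective (algebraMap R₀ C) := by
    rcases Nat.eq_zero_or_pos d with rfl | hd1
    · haveI := Groth.Ega4Algebra1.isDomain_of_isRegularLocalRing R₀
      haveI : Ring.KrullDimLE 0 R₀ := Ring.krullDimLE_iff.mpr (by rw [hd])
      have hfield : IsField C := isField_of_isIntegral_of_isField' (R := R₀) (Ring.KrullDimLE.isField_of_isDomain)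
      intro z
      obtain ⟨r, hr⟩ := hresC z
      rw [(isField_iff_maximalIdeal_eq.mp hfield), Ideal.mem_bot, sub_eq_zero] at hr
      exact ⟨r, hr.symm⟩
    · haveI := etale_of_codim_one d R₀ hd hd1 C hinjC hunr
      haveI : IsLocalHom (algebraMap R₀ C) := ⟨fun r hr => by
        by_contra hr'
        obtain ⟨M, hM, hMr⟩ := Ideal.exists_ideal_over_maximal_of_isIntegral (S := C) (maximalIdeal R₀) (by
          rw [(RingHom.injective_iff_ker_eq_bot _).mp hinjC]; exact bot_le)
        exact hM.ne_top (Ideal.eq_top_of_isUnit_mem M (show algebraMap R₀ C r ∈ M from by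
          rw [← Ideal.mem_comap, hMr]; exact hr') hr)⟩
      have hmap : (maximalIdeal R₀).map (algebraMap R₀ C) = maximalIdeal C :=
        Algebra.FormallyUnramified.map_maximalIdeal
      have htop : (⊤ : Submodule R₀ C) ≤ Submodule.span R₀ {(1 : C)} := by
        refine Submodule.le_of_le_smul_of_le_jacobson_bot (Module.finite_def.mp inferInstance) (maximalIdeal_le_jacobson _) ?_
        intro z _
        obtain ⟨r, hr⟩ := hresC z
        have hz : z = r • (1 : C) + (z - algebraMap R₀ C r) := by rw [Algebra.algebraMap_eq_smul_one]; abel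
        rw [hz]
        refine Submodule.add_mem_sup (Submodule.smul_mem _ _ (Submodule.subset_span rfl)) ?_
        rw [Ideal.smul_top_eq_map, Submodule.restrictScalars_mem, hmap]
        exact hr
      intro z
      obtain ⟨r, hr⟩ := Submodule.mem_span_singleton.mp (htop (Submodule.mem_top : z ∈ ⊤))
      exact ⟨r, by rw [Algebra.algebraMap_eq_smul_one]; exact hr⟩
  rw [eq_top_iff]
  intro h _
  by_contra hh
  obtain ⟨t, ht, hne⟩ := exists_fixed_not_fixed (A := A) N hh
  obtain ⟨r, hr⟩ := hsurj ⟨t, fun n => ht n.1 n.2⟩
  have hrt : (r : A) = t := congr_arg Subtype.val hr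
  exact hne (by rw [← hrt]; exact r.2 h)


/-- Transfer to a ring equal to the ring of invariants. -/
theorem regular_fixedPoints (R : Type*) [CommRing R] [IsRegularLocalRing R]
    (A : Type u) [CommRing A] [IsLocalRing A] [Algebra R A] [Module.Finite R A] (hinj : Function.Injective (algebraMap R A))
    (hres : Function.Surjective (IsLocalRing.residue A ∘ algebraMap R A))
    (H : Type v) [Group H] [MulSemiringAction H A] [SMulCommClass H R A]
    (hfix : ∀ a : A, (∀ h : H, h • a = a) → a ∈ Set.range (algebraMap R A)) :
    IsRegularLocalRing (FixedPoints.subring A H) ∧ Module.Finite (FixedPoints.subring A H) A ∧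
      ∀ a : A, ∃ r : FixedPoints.subring A H, a - (r : A) ∈ maximalIdeal A := by
  let f : R →+* FixedPoints.subring A H := (algebraMap R A).codRestrict _ fun r h => smul_algebraMap h r
  have hf : Function.Bijective f := ⟨fun a b hab => hinj (congr_arg Subtype.val hab),
    fun x => let ⟨r, hr⟩ := hfix x x.2; ⟨r, Subtype.ext hr⟩⟩
  letI := f.toAlgebra
  haveI : IsScalarTower R (FixedPoints.subring A H) A := IsScalarTower.of_algebraMap_eq fun r => rfl
  refine ⟨IsRegularLocalRing.of_ringEquiv (RingEquiv.ofBijective f hf), Module.Finite.of_restrictScalars_finite R _ A, fun a => ?_⟩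
  obtain ⟨r, hr⟩ := hres (residue A a)
  exact ⟨f r, Ideal.Quotient.eq.mp hr.symm⟩

end Groth.Purity
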