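import Mathlib
import Groth.Agent.PicAux.UFDExtend

/-! A scheme normal outside a dense open is integrally closed in that open. -/

set_option autoImplicit false

universe u

open CategoryTheory AlgebraicGeometry TopologicalSpace Opposite

namespace Groth.Purity

/-- Germs are injective inside an integral open. -/
theorem germ_injective_of_le {X : Scheme.{u}} {W O : X.Opens} [IsIntegral (W : Scheme.{u})] (hOW : O ≤ W) (x : X)
    (hx : x ∈ O) : Function.Injective (X.presheaf.germ O x hx) := by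
  intro a b h
  let x' : (W : Scheme.{u}) := ⟨x, hOW hx⟩
  have h1 : IsIso (W.ι.app O) := W.ι.isIso_app O (by rw [Scheme.Opens.opensRange_ι]; exact hOW)
  apply (ConcreteCategory.bijective_of_isIso (W.ι.app O)).1
  refine germ_injective_of_isIntegral (W : Scheme.{u}) (U := W.ι ⁻¹ᵁ O) x' hx ?_
  rw [← ConcreteCategory.comp_apply, ← ConcreteCategory.comp_apply, ← W.ι.germ_stalkMap O x' hx,
    ConcreteCategory.comp_apply, ConcreteCategory.comp_apply]
  exact congr_arg _ h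

/-- In an integral scheme, an integral section extends to the points with integrally closed local ring. -/
theorem exists_extend_normal_point (Y : Scheme.{u}) [IsIntegral Y] (z : Y) [IsIntegrallyClosed (Y.presheaf.stalk z)]
    {O : Y.Opens} (hO : (O : Set Y).Nonempty) (s : Γ(Y, O))
    (hs : (Y.presheaf.map (homOfLE (le_top : O ≤ ⊤)).op).hom.IsIntegralElem s) :
    ∃ (Z : Y.Opens) (_ : z ∈ Z) (a : Γ(Y, Z)),
      (Y.presheaf.map (homOfLE (inf_le_left : Z ⊓ O ≤ Z)).op).hom a =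
        (Y.presheaf.map (homOfLE (inf_le_right : Z ⊓ O ≤ O)).op).hom s := by
  haveI : Nonempty O := hO.to_subtype
  have hint : IsIntegral (Y.presheaf.stalk z) (Y.germToFunctionField O s) := by
    obtain ⟨p, hpm, hp⟩ := hs
    refine ⟨p.map (Y.presheaf.germ ⊤ z trivial).hom, hpm.map _, ?_⟩
    rw [Polynomial.eval₂_map]
    have h2 := congr_arg (Y.germToFunctionField O).hom hp
    rw [Polynomial.hom_eval₂, map_zero] at h2
    have hcomp : (algebraMap (Y.presheaf.stalk z) Y.functionField).comp (Y.presheaf.germ ⊤ z trivial).hom =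
        (Y.germToFunctionField O).hom.comp (Y.presheaf.map (homOfLE (le_top : O ≤ ⊤)).op).hom := by
      haveI : Nonempty (⊤ : Y.Opens) := ⟨⟨z, trivial⟩⟩
      refine RingHom.ext fun r => ?_
      rw [RingHom.comp_apply, RingHom.comp_apply]
      refine (Y.algebraMap_germ_eq_germToFunctionField (U := ⊤) (x := z) trivial r).trans ?_
      exact (Y.presheaf.germ_res_apply (homOfLE le_top) _ _ r).symm
    rw [hcomp]
    exact h2
  obtain ⟨t, ht⟩ := IsIntegrallyClosed.isIntegral_iff.mp hint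
  obtain ⟨Z, hzZ, a, rfl⟩ := Y.presheaf.exists_germ_eq t
  haveI : Nonempty Z := ⟨⟨z, hzZ⟩⟩
  refine ⟨Z, hzZ, a, ?_⟩
  haveI : Nonempty (Z ⊓ O : Y.Opens) := by
    obtain ⟨w, hw⟩ := nonempty_preirreducible_inter Z.isOpen O.isOpen ⟨z, hzZ⟩ hO
    exact ⟨⟨w, hw⟩⟩
  apply Y.germToFunctionField_injective (Z ⊓ O)
  rw [Y.algebraMap_germ_eq_germToFunctionField hzZ a] at ht
  exact (Y.presheaf.germ_res_apply _ _ _ a).trans (ht.trans (Y.presheaf.germ_res_apply _ _ _ s).symm)

variable {X : Scheme.{u}} [IsLocallyNoetherian X] (O : X.Opens) (hO : Dense (O : Set X))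
  (hn : ∀ x : X, x ∉ O → IsDomain (X.presheaf.stalk x) ∧ IsIntegrallyClosed (X.presheaf.stalk x))

include hO hn in
/-- Sections are determined on the dense open. -/
theorem res_injective_of_normal_outside (V : X.Opens) (a : Γ(X, V))
    (ha : (X.presheaf.map (homOfLE (inf_le_left : V ⊓ O ≤ V)).op).hom a = 0) : a = 0 := by
  refine TopCat.Presheaf.section_ext X.sheaf V a 0 fun z hz => ?_
  show X.presheaf.germ V z hz a = X.presheaf.germ V z hz 0
  rw [map_zero]
  by_cases hzO : z ∈ O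
  · rw [← X.presheaf.germ_res_apply (homOfLE (inf_le_left : V ⊓ O ≤ V)) z ⟨hz, hzO⟩ a]
    show X.presheaf.germ (V ⊓ O) z _ ((X.presheaf.map (homOfLE (inf_le_left : V ⊓ O ≤ V)).op).hom a) = 0
    rw [ha, map_zero]
  · obtain ⟨_, -⟩ := hn z hzO
    obtain ⟨W, hzW, hWi, -⟩ := Groth.PicAux.exists_integral_nhd z
    obtain ⟨w, ⟨hwV, hwW⟩, hwO⟩ := hO.inter_open_nonempty _ (V ⊓ W).isOpen ⟨z, hz, hzW⟩
    have hb : (X.presheaf.map (homOfLE (inf_le_left : V ⊓ W ≤ V)).op).hom a = 0 := by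
      apply germ_injective_of_le (X := X) (W := W) (O := V ⊓ W) inf_le_right w ⟨hwV, hwW⟩
      rw [map_zero]
      refine (X.presheaf.germ_res_apply _ _ _ a).trans ?_
      rw [← X.presheaf.germ_res_apply (homOfLE (inf_le_left : V ⊓ O ≤ V)) w ⟨hwV, hwO⟩ a]
      show X.presheaf.germ (V ⊓ O) w _ ((X.presheaf.map (homOfLE (inf_le_left : V ⊓ O ≤ V)).op).hom a) = 0
      rw [ha, map_zero]
    rw [← X.presheaf.germ_res_apply (homOfLE (inf_le_left : V ⊓ W ≤ V)) z ⟨hz, hzW⟩ a]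
    show X.presheaf.germ (V ⊓ W) z _ ((X.presheaf.map (homOfLE (inf_le_left : V ⊓ W ≤ V)).op).hom a) = 0
    rw [hb, map_zero]

/-- Restriction of sections. -/
private abbrev res {U V : X.Opens} (h : V ≤ U) : Γ(X, U) → Γ(X, V) := fun a => (X.presheaf.map (homOfLE h).op).hom a

omit [IsLocallyNoetherian X] in
private theorem res_res {U V W : X.Opens} (h : V ≤ U) (h' : W ≤ V) (a : Γ(X, U)) :
    res h' (res h a) = res (h'.trans h) a := by
  show ((X.presheaf.map (homOfLE h).op) ≫ (X.presheaf.map (homOfLE h').op)).hom a = _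
  rw [← Functor.map_comp]
  rfl

include hO hn in
/-- An integral section on the dense open extends. -/
theorem exists_extend_of_normal_outside (V : X.Opens) (s : Γ(X, V ⊓ O))
    (hs : (X.presheaf.map (homOfLE (inf_le_left : V ⊓ O ≤ V)).op).hom.IsIntegralElem s) :
    ∃ a : Γ(X, V), (X.presheaf.map (homOfLE (inf_le_left : V ⊓ O ≤ V)).op).hom a = s := by
  have key : ∀ z : V, ∃ (Z : X.Opens) (hZ : Z ≤ V) (_ : z.1 ∈ Z) (a : Γ(X, Z)),
      res (inf_le_left : Z ⊓ O ≤ Z) a = res (le_inf (inf_le_left.trans hZ) inf_le_right : Z ⊓ O ≤ V ⊓ O) s := by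
    intro z
    by_cases hzO : z.1 ∈ O
    · exact ⟨V ⊓ O, inf_le_left, ⟨z.2, hzO⟩, s, rfl⟩
    · obtain ⟨hdom, hnor⟩ := hn z.1 hzO
      obtain ⟨W, hzW, hWi, -⟩ := Groth.PicAux.exists_integral_nhd z.1
      haveI := hWi
      let U := W ⊓ V
      haveI : Nonempty (W.ι ⁻¹ᵁ V : (W : Scheme.{u}).Opens) := ⟨⟨⟨z.1, hzW⟩, z.2⟩⟩
      haveI : Nonempty U := ⟨⟨z.1, hzW, z.2⟩⟩
      haveI : IsIntegral (U : Scheme.{u}) := by
        haveI : Nonempty (U : Scheme.{u}) := ⟨⟨z.1, hzW, z.2⟩⟩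
        exact isIntegral_of_isOpenImmersion (X.homOfLE (inf_le_left : U ≤ W))
      let z' : (U : Scheme.{u}) := ⟨z.1, hzW, z.2⟩
      haveI : IsIntegrallyClosed ((U : Scheme.{u}).presheaf.stalk z') :=
        IsIntegrallyClosed.of_equiv (U.stalkIso z').commRingCatIsoToRingEquiv.symm
      let O' : (U : Scheme.{u}).Opens := U.ι ⁻¹ᵁ (V ⊓ O)
      have hO' : (O' : Set (U : Scheme.{u})).Nonempty := by
        obtain ⟨w, hw, hwO⟩ := hO.inter_open_nonempty _ U.isOpen ⟨z.1, hzW, z.2⟩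
        exact ⟨⟨w, hw⟩, hw.2, hwO⟩
      have hint : ((U : Scheme.{u}).presheaf.map (homOfLE (le_top : O' ≤ ⊤)).op).hom.IsIntegralElem
          ((U.ι.app (V ⊓ O)).hom s) := by
        obtain ⟨p, hpm, hp⟩ := hs
        refine ⟨p.map (U.ι.appLE V ⊤ (fun w _ => w.2.2)).hom, hpm.map _, ?_⟩
        rw [Polynomial.eval₂_map, ← CommRingCat.hom_comp, Scheme.Hom.appLE_map,
          show U.ι.appLE V O' (fun w h => h.1) =
            X.presheaf.map (homOfLE (inf_le_left : V ⊓ O ≤ V)).op ≫ U.ι.app (V ⊓ O) from by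
              rw [Scheme.Hom.app_eq_appLE, Scheme.Hom.map_appLE],
          CommRingCat.hom_comp, ← Polynomial.hom_eval₂, hp, map_zero]
      obtain ⟨Z', hzZ', a, ha⟩ := exists_extend_normal_point (U : Scheme.{u}) z' hO' _ hint
      have hle : U.ι ''ᵁ Z' ≤ V := by rintro _ ⟨w, -, rfl⟩; exact w.2.2
      refine ⟨U.ι ''ᵁ Z', hle, ⟨z', hzZ', rfl⟩, a, ?_⟩
      have h1 : (U.ι ''ᵁ Z') ⊓ O ≤ U.ι ''ᵁ (Z' ⊓ O') := by
        rintro _ ⟨⟨w, hw, rfl⟩, hwO⟩
        exact ⟨w, ⟨hw, w.2.2, hwO⟩, rfl⟩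
      have h2 := congr_arg (res h1) ha
      simp only [Scheme.Opens.ι_app] at h2
      have h3 : res h1 (res (U.ι.image_mono (inf_le_left : Z' ⊓ O' ≤ Z')) a) =
          res h1 (res (U.ι.image_mono (inf_le_right : Z' ⊓ O' ≤ O')) (res (U.ι.image_preimage_le (V ⊓ O)) s)) := h2
      rw [res_res, res_res, res_res] at h3
      exact h3
  choose Z hZV hzZ a ha using key
  obtain ⟨c, hc, -⟩ := X.sheaf.existsUnique_gluing' Z V (fun z => homOfLE (hZV z))
    (fun z hz => Opens.mem_iSup.mpr ⟨⟨z, hz⟩, hzZ ⟨z, hz⟩⟩) a (by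
      intro z z'
      show res (inf_le_left : Z z ⊓ Z z' ≤ Z z) (a z) = res (inf_le_right : Z z ⊓ Z z' ≤ Z z') (a z')
      refine sub_eq_zero.mp (res_injective_of_normal_outside O hO hn _ _ ?_)
      rw [map_sub, sub_eq_zero]
      have e1 := congr_arg (res (inf_le_inf_right O inf_le_left : Z z ⊓ Z z' ⊓ O ≤ Z z ⊓ O)) (ha z)
      have e2 := congr_arg (res (inf_le_inf_right O inf_le_right : Z z ⊓ Z z' ⊓ O ≤ Z z' ⊓ O)) (ha z')
      rw [res_res, res_res] at e1 e2
      show res _ (res _ (a z)) = res _ (res _ (a z'))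
      rw [res_res, res_res]
      exact e1.trans e2.symm)
  refine ⟨c, ?_⟩
  have hcov : V ⊓ O ≤ ⨆ z : V, Z z ⊓ O := fun w hw => Opens.mem_iSup.mpr ⟨⟨w, hw.1⟩, hzZ ⟨w, hw.1⟩, hw.2⟩
  refine TopCat.Sheaf.eq_of_locally_eq' X.sheaf (fun z : V => Z z ⊓ O) (V ⊓ O)
    (fun z => homOfLE (inf_le_inf_right O (hZV z))) hcov _ _ fun z => ?_
  show res _ (res _ c) = res _ s
  have hcz : res (hZV z) c = a z := hc z
  rw [res_res, ← ha z, ← hcz, res_res]

omit O in
/-- A locally Noetherian scheme which is normal outside a dense open is its own normalization in it. -/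
theorem isIso_fromNormalization_of_normal_outside {P : Scheme.{u}} (j : P ⟶ X) [IsOpenImmersion j] [QuasiCompact j]
    [QuasiSeparated j] (hd : DenseRange j)
    (hn : ∀ x : X, x ∉ Set.range j → IsDomain (X.presheaf.stalk x) ∧ IsIntegrallyClosed (X.presheaf.stalk x)) :
    IsIso j.fromNormalization := by
  refine (IsZariskiLocalAtTarget.iff_of_iSup_eq_top (P := MorphismProperty.isomorphisms Scheme.{u}) _
    (iSup_affineOpens_eq_top X)).mpr fun V => ?_
  show IsIso (j.fromNormalization ∣_ V.1)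
  rw [isIso_morphismRestrict_iff_isIso_app _ V.2]
  rw [j.fromNormalization_app V.2]
  letI := (j.app V.1).hom.toAlgebra
  suffices IsIso (CommRingCat.ofHom (algebraMap Γ(X, V.1) (integralClosure Γ(X, V.1) Γ(P, j ⁻¹ᵁ V.1)))) from
    inferInstance
  rw [ConcreteCategory.isIso_iff_bijective]
  have hle : j ⁻¹ᵁ (V.1 ⊓ j.opensRange) = j ⁻¹ᵁ V.1 := by
    ext w
    exact ⟨fun h => h.1, fun h => ⟨h, ⟨w, rfl⟩⟩⟩
  haveI : IsIso (j.app (V.1 ⊓ j.opensRange)) := j.isIso_app _ inf_le_right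
  let e : Γ(X, V.1 ⊓ j.opensRange) ⟶ Γ(P, j ⁻¹ᵁ V.1) :=
    j.app _ ≫ P.presheaf.map (eqToHom hle.symm).op
  haveI : IsIso e := inferInstance
  have hfac : j.app V.1 = X.presheaf.map (homOfLE (inf_le_left : V.1 ⊓ j.opensRange ≤ V.1)).op ≫ e := by
    simp only [e, Scheme.Hom.app_eq_appLE, Scheme.Hom.appLE_map, Scheme.Hom.map_appLE]
  have hbe := ConcreteCategory.bijective_of_isIso e
  refine ⟨fun a b hab => sub_eq_zero.mp (res_injective_of_normal_outside j.opensRange hd hn V.1 (a - b) ?_),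
    fun s => ?_⟩
  · apply hbe.1
    have hab' := congr_arg Subtype.val hab
    change j.app V.1 a = j.app V.1 b at hab'
    rw [hfac] at hab'
    simp only [ConcreteCategory.comp_apply] at hab'
    rw [map_zero, map_sub, map_sub]
    exact sub_eq_zero.mpr hab'
  · obtain ⟨t, ht⟩ := hbe.2 s.1
    obtain ⟨a, ha⟩ := exists_extend_of_normal_outside j.opensRange hd hn V.1 t (by
      obtain ⟨p, hpm, hp⟩ := s.2
      refine ⟨p, hpm, hbe.1 ?_⟩
      rw [map_zero, ← hp]
      show e.hom _ = _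
      rw [Polynomial.hom_eval₂, ← CommRingCat.hom_comp, ← hfac, show e.hom t = s.1 from ht]
      rfl)
    refine ⟨a, Subtype.ext ?_⟩
    show j.app V.1 a = s.1
    rw [hfac, ← ht, ← ha]
    rfl

end Groth.Purity
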