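import Groth.Agent.Purity.ExtendLocal
import Groth.Agent.Purity.NormalExtend
import Groth.Agent.Pi1Purity.PurityLocal
import Groth.Agent.Ega4Algebra1.RegularLocal
import Groth.Agent.S0065

/-!
# Extending a finite étale cover which extends in codimension one
-/

universe u

set_option autoImplicit false
set_option linter.style.haveILetI false
set_option backward.isDefEq.respectTransparency false
set_option backward.defeqAttrib.useBackward true

open CategoryTheory CategoryTheory.Limits AlgebraicGeometry TopologicalSpace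

namespace Groth.Purity

variable {X : Scheme.{u}} [IsLocallyNoetherian X]

/-- Points with regular local ring of dimension zero lie in every dense open. -/
theorem one_le_ringKrullDim_stalk {U : X.Opens} (hU : Dense (U : Set X)) {y : X} (hy : y ∉ U)
    (hreg : IsRegularLocalRing (X.presheaf.stalk y)) : (1 : WithBot ℕ∞) ≤ ringKrullDim (X.presheaf.stalk y) := by
  haveI := Groth.Ega4Algebra1.isDomain_of_isRegularLocalRing (X.presheaf.stalk y)
  by_contra h
  haveI : Ring.KrullDimLE 0 (X.presheaf.stalk y) := Ring.krullDimLE_iff.mpr (by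
    obtain ⟨a, ha⟩ := WithBot.ne_bot_iff_exists.mp (ringKrullDim_ne_bot (R := X.presheaf.stalk y))
    rw [← ha] at h ⊢
    have : a < 1 := by simpa [not_le] using h
    rw [ENat.lt_one_iff_eq_zero.mp this]
    exact le_rfl)
  obtain ⟨W, hyW, hW, -⟩ := Groth.PicAux.exists_integral_nhd y
  obtain ⟨w, hwW, hwU⟩ := hU.inter_open_nonempty _ W.isOpen ⟨y, hyW⟩
  let η : X := (genericPoint (W : Scheme.{u})).1
  have hη : η ⤳ y := Topology.IsInducing.subtypeVal.specializes_iff.mpr
    ((genericPoint_spec (W : Scheme.{u})).specializes (Set.mem_univ (⟨y, hyW⟩ : (W : Scheme.{u}))))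
  have hηU : η ∈ U := by
    have : genericPoint (W : Scheme.{u}) ⤳ (⟨w, hwW⟩ : (W : Scheme.{u})) :=
      (genericPoint_spec (W : Scheme.{u})).specializes (Set.mem_univ _)
    exact ((Topology.IsInducing.subtypeVal.specializes_iff).mpr this).mem_open U.isOpen hwU
  obtain ⟨p, hp⟩ := (Scheme.range_fromSpecStalk (x := y)).ge hη
  have hpc : p = IsLocalRing.closedPoint (X.presheaf.stalk y) := by
    haveI : Subsingleton (PrimeSpectrum (X.presheaf.stalk y)) := inferInstance
    exact @Subsingleton.elim (PrimeSpectrum (X.presheaf.stalk y)) _ _ _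
  rw [hpc, Scheme.fromSpecStalk_closedPoint] at hp
  exact hy (hp ▸ hηU)

/-- Over an affine open, a cover extends if it does so in codimension one. -/
theorem exists_extend_affine (U : X.Opens) (hU : Dense (U : Set X)) (Y : FEt.Cat (U : Scheme.{u}))
    (hreg : ∀ x : X, x ∉ U → IsRegularLocalRing (X.presheaf.stalk x))
    (hunr : ∀ ξ : X, ξ ∉ U → ringKrullDim (X.presheaf.stalk ξ) = 1 →
      ∃ Yξ : FEt.Cat (Spec (X.presheaf.stalk ξ)),
        Nonempty ((FEt.restrict (pullback.snd U.ι (X.fromSpecStalk ξ))).obj Yξ ≅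
          (FEt.restrict (pullback.fst U.ι (X.fromSpecStalk ξ))).obj Y))
    {W₀ : X.Opens} (hW₀ : IsAffineOpen W₀) :
    ∃ (W : X.Opens) (hUW : U ≤ W), W₀ ≤ W ∧ ∃ (T : Scheme.{u}) (t : T ⟶ (W : Scheme.{u})) (_ : FEt.prop t)
      (γ : Y.left ⟶ T), IsPullback γ Y.hom t (X.homOfLE hUW) := by
  haveI : IsNoetherianRing Γ(X, W₀) := IsLocallyNoetherian.component_noetherian ⟨W₀, hW₀⟩
  haveI : NoetherianSpace ↥W₀ := noetherianSpace_of_isAffineOpen _ hW₀
  let S : Set X.Opens := {W | ∃ hUW : U ≤ W, W ≤ U ⊔ W₀ ∧ ∃ (T : Scheme.{u}) (t : T ⟶ (W : Scheme.{u})) (_ : FEt.prop t)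
    (γ : Y.left ⟶ T), IsPullback γ Y.hom t (X.homOfLE hUW)}
  haveI : IsIso (𝟙 (U : Scheme.{u})) := IsIso.id (U : Scheme.{u})
  haveI : IsIso (𝟙 Y.left) := IsIso.id Y.left
  have hS : U ∈ S := ⟨le_rfl, le_sup_left, Y.left, Y.hom, Y.prop, 𝟙 _, by
    rw [Scheme.homOfLE_rfl]
    exact IsPullback.of_horiz_isIso ⟨(Category.id_comp _).trans (Category.comp_id _).symm⟩⟩
  let π : X.Opens → Opens {w : X // w ∈ W₀} := fun W => ⟨Subtype.val ⁻¹' (W : Set X), W.isOpen.preimage continuous_subtype_val⟩
  obtain ⟨W, ⟨hUW, hWle, T, t, ht, γ, hγ⟩, hmax⟩ :=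
    (InvImage.wf π (wellFounded_gt : WellFounded ((· > ·) : Opens {w : X // w ∈ W₀} → Opens {w : X // w ∈ W₀} → Prop))).has_min S ⟨U, hS⟩
  refine ⟨W, hUW, ?_, T, t, ht, γ, hγ⟩
  by_contra hle
  obtain ⟨z, hz₀, hzW⟩ := SetLike.not_le_iff_exists.mp hle
  obtain ⟨⟨x, hx₀⟩, hx, hxmax⟩ := Groth.Pi1Purity.exists_generic (X := (W₀ : Scheme.{u}))
    (Z := ((W₀.ι ⁻¹ᵁ W : (W₀ : Scheme.{u}).Opens) : Set (W₀ : Scheme.{u}))ᶜ)
    (W₀.ι ⁻¹ᵁ W).isOpen.isClosed_compl ⟨⟨z, hz₀⟩, hzW⟩
  have hxW : x ∉ W := hx
  have hgen : ∀ y, y ⤳ x → y ≠ x → y ∈ W := fun y hy hne => by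
    by_contra hyW
    exact hne (congr_arg Subtype.val
      (hxmax ⟨y, hy.mem_open W₀.isOpen hx₀⟩ hyW (Topology.IsInducing.subtypeVal.specializes_iff.mp hy)))
  have hxU : x ∉ U := fun h => hxW (hUW h)
  have hrx := hreg x hxU
  have h1 := one_le_ringKrullDim_stalk hU hxU hrx
  let P := X.fromSpecStalk x ⁻¹ᵁ W
  let r : (P : Scheme.{u}) ⟶ (W : Scheme.{u}) := X.fromSpecStalk x ∣_ W
  let B : FEt.Cat (P : Scheme.{u}) :=
    MorphismProperty.Over.mk ⊤ (pullback.snd t r) (MorphismProperty.pullback_snd _ _ ht)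
  have hP : P = FEt.puncturedSpec (X.presheaf.stalk x) := Groth.Pi1Purity.preimage_fromSpecStalk_eq hxW hgen
  obtain ⟨Yx, ⟨eB⟩⟩ : ∃ Yx : FEt.Cat (Spec (X.presheaf.stalk x)), Nonempty ((FEt.restrict P.ι).obj Yx ≅ B) := by
    obtain ⟨a, ha⟩ := WithBot.ne_bot_iff_exists.mp (ringKrullDim_ne_bot (R := X.presheaf.stalk x))
    rcases eq_or_ne a 1 with ha1 | ha1
    · obtain ⟨Yξ, ⟨I⟩⟩ := hunr x hxU (by rw [← ha, ha1]; rfl)
      -- the punctured local scheme lies over `U`
      have hPU : P ≤ X.fromSpecStalk x ⁻¹ᵁ U := by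
        intro p hp
        show X.fromSpecStalk x p ∈ U
        by_contra hpU
        have hsp : X.fromSpecStalk x p ⤳ x := (Scheme.range_fromSpecStalk (x := x)).le ⟨p, rfl⟩
        have hd := one_le_ringKrullDim_stalk hU hpU (hreg _ hpU)
        haveI := Groth.Ega4Algebra1.isDomain_of_isRegularLocalRing (X.presheaf.stalk x)
        haveI : Ring.KrullDimLE 1 (X.presheaf.stalk x) := Ring.krullDimLE_iff.mpr (by rw [← ha, ha1]; exact le_rfl)
        rcases eq_or_ne p.asIdeal ⊥ with hb | hb
        · -- the generic point lies in `U`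
          obtain ⟨N, hxN, hN, -⟩ := Groth.PicAux.exists_integral_nhd x
          obtain ⟨w, hwN, hwU⟩ := hU.inter_open_nonempty _ N.isOpen ⟨x, hxN⟩
          let η : (N : Scheme.{u}) := genericPoint (N : Scheme.{u})
          have hη : η.1 ⤳ x := Topology.IsInducing.subtypeVal.specializes_iff.mpr
            ((genericPoint_spec (N : Scheme.{u})).specializes (Set.mem_univ (⟨x, hxN⟩ : (N : Scheme.{u}))))
          have hηU : η.1 ∈ U :=
            (Topology.IsInducing.subtypeVal.specializes_iff.mpr
              ((genericPoint_spec (N : Scheme.{u})).specializes (Set.mem_univ (⟨w, hwN⟩ : (N : Scheme.{u}))))).mem_open U.isOpen hwU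
          obtain ⟨q, hq⟩ := (Scheme.range_fromSpecStalk (x := x)).ge hη
          have hpq : p ⤳ q := (PrimeSpectrum.le_iff_specializes p q).mp (show p.asIdeal ≤ q.asIdeal by rw [hb]; exact bot_le)
          exact hpU ((hq ▸ hpq.map (X.fromSpecStalk x).continuous).mem_open U.isOpen hηU)
        · have hpm : p = IsLocalRing.closedPoint (X.presheaf.stalk x) :=
            PrimeSpectrum.ext (by
              haveI := p.2
              by_contra hne
              have hlt : p.asIdeal < IsLocalRing.maximalIdeal (X.presheaf.stalk x) :=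
                lt_of_le_of_ne (IsLocalRing.le_maximalIdeal p.2.ne_top) hne
              have h3 := Ideal.height_strict_mono_of_isPrime hlt
              have h4 : (IsLocalRing.maximalIdeal (X.presheaf.stalk x)).height = 1 := by
                have := IsLocalRing.maximalIdeal_height_eq_ringKrullDim (R := X.presheaf.stalk x)
                rw [← ha, ha1] at this
                exact WithBot.coe_eq_coe.mp this
              rw [h4, ENat.lt_one_iff_eq_zero, Ideal.height_eq_zero_iff, IsDomain.minimalPrimes_eq_singleton_bot] at h3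
              exact hb h3)
          exact hxW (by
            have := hp
            rw [hpm] at this
            change X.fromSpecStalk x (IsLocalRing.closedPoint (X.presheaf.stalk x)) ∈ W at this
            rwa [Scheme.fromSpecStalk_closedPoint] at this)
      let q : (P : Scheme.{u}) ⟶ pullback U.ι (X.fromSpecStalk x) :=
        pullback.lift ((Spec (X.presheaf.stalk x)).homOfLE hPU ≫ X.fromSpecStalk x ∣_ U) P.ι
          (by rw [Category.assoc, morphismRestrict_ι, Scheme.homOfLE_ι_assoc])
      have hq1 : q ≫ pullback.fst U.ι (X.fromSpecStalk x) ≫ X.homOfLE hUW = r := by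
        rw [← cancel_mono W.ι]
        simp only [q, r, Category.assoc, pullback.lift_fst_assoc, Scheme.homOfLE_ι, morphismRestrict_ι,
          Scheme.homOfLE_ι_assoc]
        rfl
      have hq2 : q ≫ pullback.snd U.ι (X.fromSpecStalk x) = P.ι := pullback.lift_snd _ _ _
      let Iu := (MorphismProperty.Over.forget _ _ _ ⋙ Over.forget _).mapIso I
      have hI : Iu.hom ≫ pullback.snd Y.hom (pullback.fst U.ι (X.fromSpecStalk x)) =
          pullback.snd Yξ.hom (pullback.snd U.ι (X.fromSpecStalk x)) := MorphismProperty.Over.w I.hom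
      let L := pullback (pullback.snd Yξ.hom (pullback.snd U.ι (X.fromSpecStalk x))) q
      have hL₁ : IsPullback (pullback.fst (pullback.snd Yξ.hom (pullback.snd U.ι (X.fromSpecStalk x))) q ≫
          pullback.fst Yξ.hom (pullback.snd U.ι (X.fromSpecStalk x))) (pullback.snd _ q) Yξ.hom P.ι := by
        rw [← hq2]
        exact (IsPullback.of_hasPullback _ _).paste_horiz (IsPullback.of_hasPullback _ _)
      have hmid : IsPullback (Iu.hom ≫ pullback.fst Y.hom (pullback.fst U.ι (X.fromSpecStalk x)))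
          (pullback.snd Yξ.hom (pullback.snd U.ι (X.fromSpecStalk x))) Y.hom (pullback.fst U.ι (X.fromSpecStalk x)) :=
        (IsPullback.of_hasPullback Y.hom (pullback.fst U.ι (X.fromSpecStalk x))).of_iso Iu.symm (Iso.refl _) (Iso.refl _)
          (Iso.refl _) (by simp) (by
            rw [Iso.refl_hom, Category.comp_id, Iso.symm_hom, Iso.eq_inv_comp]; exact hI) (by simp) (by simp)
      have hL₂ : IsPullback (pullback.fst (pullback.snd Yξ.hom (pullback.snd U.ι (X.fromSpecStalk x))) q ≫
          (Iu.hom ≫ pullback.fst Y.hom (pullback.fst U.ι (X.fromSpecStalk x))) ≫ γ)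
          (pullback.snd _ q) t r := by
        rw [← hq1]
        exact (IsPullback.of_hasPullback _ _).paste_horiz (hmid.paste_horiz hγ)
      exact ⟨Yξ, ⟨MorphismProperty.Over.isoMk (hL₁.isoPullback.symm ≪≫ hL₂.isoPullback) (by
        show (hL₁.isoPullback.symm ≪≫ hL₂.isoPullback).hom ≫ pullback.snd t r = pullback.snd Yξ.hom P.ι
        rw [Iso.trans_hom, Category.assoc, hL₂.isoPullback_hom_snd, Iso.symm_hom, Iso.inv_comp_eq,
          hL₁.isoPullback_hom_snd])⟩⟩
    · haveI := hrx
      have h2 : (2 : WithBot ℕ∞) ≤ ringKrullDim (X.presheaf.stalk x) := by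
        rw [← ha] at h1 ⊢
        have h1' : (1 : ℕ∞) ≤ a := by exact_mod_cast h1
        have h2' : (2 : ℕ∞) ≤ a := by
          have := Order.add_one_le_of_lt (lt_of_le_of_ne h1' (Ne.symm ha1))
          rwa [one_add_one_eq_two] at this
        exact WithBot.coe_le_coe.mpr h2'
      haveI : (FEt.restrict P.ι).EssSurj := by
        rw [hP]
        exact Groth.Pi1Purity.purityHolds_of_isRegularLocalRing _ h2
      exact ⟨_, ⟨(FEt.restrict P.ι).objObjPreimageIso B⟩⟩
  obtain ⟨W', hle', hW'le, hxW', T', t', ht', γ', hγ'⟩ := exists_extend_of_local t ht hW₀ hx₀ Yx eB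
  refine hmax W' ⟨hUW.trans hle', hW'le.trans (sup_le hWle le_sup_right), T', t', ht', γ ≫ γ', ?_⟩ ?_
  · rw [← X.homOfLE_homOfLE hUW hle']
    exact hγ.paste_horiz hγ'
  · refine lt_of_le_of_ne (fun w hw => hle' hw) fun h => ?_
    have : (⟨x, hx₀⟩ : {w : X // w ∈ W₀}) ∈ π W' := hxW'
    rw [← h] at this
    exact hxW this

/-- A cover extending a dense open part is the normalization in it. -/
theorem isIso_normalizationDesc_of_cover {W T P : Scheme.{u}} [IsLocallyNoetherian W] (O : W.Opens) (hO : Dense (O : Set W))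
    (hreg : ∀ w : W, w ∉ O → IsRegularLocalRing (W.presheaf.stalk w)) (t : T ⟶ W) [IsFinite t] [Etale t]
    (j : P ⟶ T) [IsOpenImmersion j] (hj : Set.range j = t ⁻¹' (O : Set W))
    (h : P ⟶ W) [QuasiCompact h] [QuasiSeparated h] (H : h = j ≫ t) : IsIso (h.normalizationDesc j t H) := by
  haveI : IsLocallyNoetherian T := LocallyOfFiniteType.isLocallyNoetherian t
  haveI : QuasiCompact (j ≫ t) := H ▸ inferInstance
  haveI : QuasiCompact j := QuasiCompact.of_comp j t
  haveI : QuasiSeparated j := inferInstance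
  have hd : DenseRange j := by
    show Dense (Set.range j)
    rw [hj]
    exact hO.preimage t.isOpenMap
  haveI : IsIso j.fromNormalization := isIso_fromNormalization_of_normal_outside j hd fun x hx => by
    rw [hj] at hx
    haveI : IsRegularLocalRing (T.presheaf.stalk x) := (Groth.Agent.S0065.result t x).mpr (hreg (t x) hx)
    exact ⟨Groth.Ega4Algebra1.isDomain_of_isRegularLocalRing _,
      Groth.Ega4Algebra1.isIntegrallyClosed_of_isRegularLocalRing _⟩
  let d := h.normalizationDesc j t H
  have hjd : j = h.toNormalization ≫ d := (h.toNormalization_normalizationDesc j t H).symm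
  let e := j.normalizationDesc h.toNormalization d hjd
  have he : e ≫ d = j.fromNormalization := j.normalizationDesc_comp _ _ hjd
  refine ⟨inv j.fromNormalization ≫ e, ?_, ?_⟩
  · refine Scheme.Hom.normalization.hom_ext h _ _ h.fromNormalization ?_ ?_ (Category.id_comp _)
    · rw [Category.comp_id, h.toNormalization_normalizationDesc_assoc, ← Category.assoc]
      rw [show j ≫ inv j.fromNormalization = j.toNormalization by
        rw [IsIso.comp_inv_eq, Scheme.Hom.toNormalization_fromNormalization]]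
      exact j.toNormalization_normalizationDesc _ _ hjd
    · have h1 : e ≫ h.fromNormalization = j.fromNormalization ≫ t := by
        rw [← h.normalizationDesc_comp j t H, ← Category.assoc, he]
      rw [Category.assoc, Category.assoc, h1, IsIso.inv_hom_id_assoc, h.normalizationDesc_comp]
  · rw [Category.assoc, he, IsIso.inv_hom_id]


theorem range_fst_of_isPullback {P A B C : Scheme.{u}} {a : P ⟶ A} {b : P ⟶ B} {f : A ⟶ C} {g : B ⟶ C}
    (H : IsPullback a b f g) : Set.range a = f ⁻¹' Set.range g := by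
  rw [← H.isoPullback_hom_fst, Scheme.Hom.comp_base, TopCat.coe_comp, Set.range_comp,
    Set.range_eq_univ.mpr (Scheme.Hom.surjective H.isoPullback.hom), Set.image_univ, Scheme.Pullback.range_fst]

end Groth.Purity
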