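import Groth.Agent.Pi1Purity.Extend

/-!
# Extending a finite étale cover across one point, given an extension over its local scheme

The proof is the one of `Groth.Pi1Purity.exists_extend_step`, with purity replaced by the given
extension and the ambient scheme only locally Noetherian.
-/

universe u

set_option autoImplicit false
set_option backward.isDefEq.respectTransparency false
set_option backward.defeqAttrib.useBackward true
set_option linter.style.haveILetI false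

open CategoryTheory CategoryTheory.Limits AlgebraicGeometry TopologicalSpace

namespace Groth.Purity

open Groth.Limits Groth.Pi1Purity

variable {X : Scheme.{u}} [IsLocallyNoetherian X]

theorem exists_extend_of_local {W : X.Opens} {T₁ : Scheme.{u}} (t₁ : T₁ ⟶ (W : Scheme.{u})) (h₁ : FEt.prop t₁)
    {x : X} {W₀ : X.Opens} (hW₀ : IsAffineOpen W₀) (hxW₀ : x ∈ W₀)
    (Y : FEt.Cat (Spec (X.presheaf.stalk x)))
    (eB : (FEt.restrict (X.fromSpecStalk x ⁻¹ᵁ W).ι).obj Y ≅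
      MorphismProperty.Over.mk ⊤ (pullback.snd t₁ (X.fromSpecStalk x ∣_ W)) (MorphismProperty.pullback_snd _ _ h₁)) :
    ∃ (W' : X.Opens) (hle : W ≤ W'), W' ≤ W ⊔ W₀ ∧ x ∈ W' ∧
      ∃ (T : Scheme.{u}) (t : T ⟶ (W' : Scheme.{u})) (_ : FEt.prop t) (γ : T₁ ⟶ T),
        IsPullback γ t₁ t (X.homOfLE hle) := by
  haveI : IsFinite t₁ := h₁.1
  haveI : Etale t₁ := h₁.2
  let P := X.fromSpecStalk x ⁻¹ᵁ W
  let r : (P : Scheme.{u}) ⟶ (W : Scheme.{u}) := X.fromSpecStalk x ∣_ W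
  let B : FEt.Cat (P : Scheme.{u}) :=
    MorphismProperty.Over.mk ⊤ (pullback.snd t₁ r) (MorphismProperty.pullback_snd _ _ h₁)
  let eL : pullback Y.hom P.ι ≅ pullback t₁ r := (MorphismProperty.Over.forget _ _ _ ⋙ Over.forget _).mapIso eB
  have heL : eL.hom ≫ pullback.snd t₁ r = pullback.snd Y.hom P.ι := MorphismProperty.Over.w eB.hom
  haveI : IsNoetherianRing Γ(X, W₀) := IsLocallyNoetherian.component_noetherian ⟨W₀, hW₀⟩
  haveI hnoe : NoetherianSpace ↥W₀ := noetherianSpace_of_isAffineOpen _ hW₀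
  -- spreading out
  obtain ⟨k, T₂, q, hq, τ, hτ⟩ := exists_spread hW₀ hxW₀ Y
  haveI : IsFinite q := hq.1
  haveI : Etale q := hq.2
  haveI := nonempty_basicNhd (W := W₀) hxW₀
  haveI (V : BasicNhd W₀ x) := isAffine_nhdDiagram hW₀ V
  haveI : ∀ {V V' : BasicNhd W₀ x} (m : V ⟶ V'), IsAffineHom ((nhdDiagram W₀ x).map m) :=
    fun m => isAffineHom_nhdDiagram hW₀ m
  obtain ⟨lim⟩ := nonempty_isLimit_nhdCone hW₀ hxW₀
  let O : ((nhdDiagram W₀ x).obj k).Opens := k.1.ι ⁻¹ᵁ W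
  let D' := opensDiagram (nhdDiagram W₀ x) k O
  let c' := opensCone (nhdDiagram W₀ x) (nhdCone W₀ x) k O
  have lim' : IsLimit c' := isLimitOpensCone _ _ lim k O
  let k₀ : Over k := Over.mk (𝟙 k)
  let inO : D'.obj k₀ ⟶ (k.1 : Scheme.{u}) :=
    ((nhdDiagram W₀ x).map k₀.hom ⁻¹ᵁ O).ι ≫ (nhdDiagram W₀ x).map k₀.hom
  let inW : D'.obj k₀ ⟶ (W : Scheme.{u}) := IsOpenImmersion.lift W.ι (inO ≫ k.1.ι) (by
    rintro _ ⟨w, rfl⟩
    rw [Scheme.Opens.range_ι]
    exact w.2)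
  have hinW : inW ≫ W.ι = inO ≫ k.1.ι := IsOpenImmersion.lift_fac _ _ _
  haveI : NoetherianSpace ↥((nhdDiagram W₀ x).obj k₀.left) :=
    (Topology.IsEmbedding.inclusion (show (k.1 : Set X) ⊆ W₀ from by obtain ⟨f, hf⟩ := k.2.2; rw [hf]; exact X.basicOpen_le f)).isInducing.noetherianSpace
  haveI : CompactSpace (D'.obj k₀) := isCompact_iff_compactSpace.1 (NoetherianSpace.isCompact _)
  haveI : IsOpenImmersion inO := by
    haveI : IsIso ((nhdDiagram W₀ x).map k₀.hom) := by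
      change IsIso ((nhdDiagram W₀ x).map (𝟙 k))
      infer_instance
    exact MorphismProperty.comp_mem @IsOpenImmersion _ _ inferInstance inferInstance
  haveI : IsOpenImmersion (inO ≫ k.1.ι) :=
    MorphismProperty.comp_mem @IsOpenImmersion _ _ inferInstance inferInstance
  haveI : IsLocallyNoetherian (D'.obj k₀) := isLocallyNoetherian_of_isOpenImmersion (inO ≫ k.1.ι)
  haveI : QuasiSeparatedSpace (D'.obj k₀) := inferInstance
  let x₀ : pullback t₁ inW ⟶ D'.obj k₀ := pullback.snd _ _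
  let y₀ : pullback q inO ⟶ D'.obj k₀ := pullback.snd _ _
  haveI : IsFinite x₀ := inferInstance
  haveI : IsFinite y₀ := inferInstance
  haveI : Etale x₀ := inferInstance
  haveI : Etale y₀ := inferInstance
  haveI : CompactSpace ↥(pullback t₁ inW) := QuasiCompact.compactSpace_of_compactSpace x₀
  haveI : CompactSpace ↥(pullback q inO) := QuasiCompact.compactSpace_of_compactSpace y₀
  haveI : QuasiSeparatedSpace ↥(pullback t₁ inW) := quasiSeparatedSpace_of_quasiSeparated x₀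
  haveI : QuasiSeparatedSpace ↥(pullback q inO) := quasiSeparatedSpace_of_quasiSeparated y₀
  -- the two restrictions to the punctured local scheme
  have hPO : P = (nhdCone W₀ x).π.app k ⁻¹ᵁ O := by
    change _ = k.1.fromSpecStalkOfMem x k.2.1 ⁻¹ᵁ (k.1.ι ⁻¹ᵁ W)
    rw [← Scheme.Hom.comp_preimage, Scheme.Opens.fromSpecStalkOfMem_ι]
  let π₀ : c'.pt ⟶ D'.obj k₀ := c'.π.app k₀
  let σ : c'.pt ⟶ (P : Scheme.{u}) := (Spec (X.presheaf.stalk x)).homOfLE hPO.ge
  haveI : IsIso σ := ⟨(Spec (X.presheaf.stalk x)).homOfLE hPO.le,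
    by rw [Scheme.homOfLE_homOfLE, Scheme.homOfLE_rfl]; rfl,
    by rw [Scheme.homOfLE_homOfLE, Scheme.homOfLE_rfl]⟩
  have hπO : π₀ ≫ inO = σ ≫ P.ι ≫ k.1.fromSpecStalkOfMem x k.2.1 := by
    simp only [π₀, σ, inO, Scheme.homOfLE_ι_assoc]
    rw [← Category.assoc, show c'.π.app k₀ ≫ ((nhdDiagram W₀ x).map k₀.hom ⁻¹ᵁ O).ι = _ from
      Scheme.Hom.resLE_comp_ι _ _, Category.assoc]
    exact congrArg (((nhdCone W₀ x).π.app k ⁻¹ᵁ O).ι ≫ ·) ((nhdCone W₀ x).w k₀.hom)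
  have hπW : π₀ ≫ inW = σ ≫ r := by
    rw [← cancel_mono W.ι, Category.assoc, hinW, reassoc_of% hπO, Category.assoc, morphismRestrict_ι,
      Scheme.Opens.fromSpecStalkOfMem_ι]
  let Z := pullback (pullback.snd t₁ r) σ
  have hZ₁ : IsPullback (pullback.fst (pullback.snd t₁ r) σ ≫ pullback.fst t₁ r)
      (pullback.snd (pullback.snd t₁ r) σ) t₁ (π₀ ≫ inW) := by
    rw [hπW]
    exact (IsPullback.of_hasPullback _ _).paste_horiz (IsPullback.of_hasPullback t₁ r)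
  have hZ₂ : IsPullback ((pullback.fst (pullback.snd t₁ r) σ ≫ eL.inv ≫ pullback.fst Y.hom P.ι) ≫ τ)
      (pullback.snd (pullback.snd t₁ r) σ) q (π₀ ≫ inO) := by
    rw [hπO, ← Category.assoc]
    have h0 : IsPullback (eL.inv ≫ pullback.fst Y.hom P.ι) (pullback.snd t₁ r) Y.hom P.ι :=
      (IsPullback.of_hasPullback Y.hom P.ι).of_iso eL (Iso.refl _) (Iso.refl _) (Iso.refl _)
        (by simp) (by simp [heL]) (by simp) (by simp)
    exact ((IsPullback.of_hasPullback _ σ).paste_horiz h0).paste_horiz hτ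
  let a₁ : Z ⟶ pullback t₁ inW := pullback.lift
    (pullback.fst (pullback.snd t₁ r) σ ≫ pullback.fst t₁ r) (pullback.snd (pullback.snd t₁ r) σ ≫ π₀)
    (by rw [hZ₁.w, Category.assoc])
  let a₂ : Z ⟶ pullback q inO := pullback.lift
    ((pullback.fst (pullback.snd t₁ r) σ ≫ eL.inv ≫ pullback.fst Y.hom P.ι) ≫ τ)
    (pullback.snd (pullback.snd t₁ r) σ ≫ π₀) (by rw [hZ₂.w, Category.assoc])
  have ha₁ : IsPullback a₁ (pullback.snd (pullback.snd t₁ r) σ) x₀ π₀ :=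
    IsPullback.of_right (by rw [show a₁ ≫ pullback.fst t₁ inW = _ from pullback.lift_fst _ _ _]; exact hZ₁)
      (pullback.lift_snd _ _ _) (IsPullback.of_hasPullback t₁ inW)
  have ha₂ : IsPullback a₂ (pullback.snd (pullback.snd t₁ r) σ) y₀ π₀ :=
    IsPullback.of_right (by rw [show a₂ ≫ pullback.fst q inO = _ from pullback.lift_fst _ _ _]; exact hZ₂)
      (pullback.lift_snd _ _ _) (IsPullback.of_hasPullback q inO)
  let e : pullback x₀ π₀ ≅ pullback y₀ π₀ := ha₁.isoPullback.symm ≪≫ ha₂.isoPullback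
  have he : e.hom ≫ pullback.snd _ _ = pullback.snd _ _ := by
    simp [e]
  obtain ⟨j, φ, ej, hej, -⟩ := exists_iso_stage D' x₀ lim' y₀ e he
  -- the common stage
  let Oj := (nhdDiagram W₀ x).map j.hom ⁻¹ᵁ O
  let o₂ : D'.obj j ⟶ (j.left.1 : Scheme.{u}) := Oj.ι
  let o₁ : D'.obj j ⟶ (W : Scheme.{u}) := D'.map φ ≫ inW
  let dj : (j.left.1 : Scheme.{u}) ⟶ (k.1 : Scheme.{u}) := (nhdDiagram W₀ x).map j.hom
  have hdj : dj ≫ k.1.ι = j.left.1.ι := X.homOfLE_ι (leOfHom j.hom : j.left ≤ k)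
  have hφO : D'.map φ ≫ inO = o₂ ≫ dj := by
    simp only [inO, ← Category.assoc]
    rw [show D'.map φ ≫ ((nhdDiagram W₀ x).map k₀.hom ⁻¹ᵁ O).ι = _ from Scheme.Hom.resLE_comp_ι _ _,
      Category.assoc, ← Functor.map_comp]
    exact congrArg (fun m => Oj.ι ≫ (nhdDiagram W₀ x).map m) (Subsingleton.elim _ _)
  have ho : o₁ ≫ W.ι = o₂ ≫ j.left.1.ι := by
    simp only [o₁, Category.assoc, hinW, reassoc_of% hφO, hdj]
  have hO : IsPullback o₁ o₂ W.ι j.left.1.ι :=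
    IsOpenImmersion.isPullback o₁ o₂ W.ι j.left.1.ι ho.symm (by
      rw [Scheme.Opens.opensRange_ι, Scheme.Opens.opensRange_ι]
      change j.left.1.ι ⁻¹ᵁ W = dj ⁻¹ᵁ (k.1.ι ⁻¹ᵁ W)
      rw [← Scheme.Hom.comp_preimage, hdj])
  haveI : IsFinite (pullback.snd q dj) := inferInstance
  let Zj := pullback x₀ (D'.map φ)
  have hg₁ : IsPullback (pullback.fst x₀ (D'.map φ) ≫ pullback.fst t₁ inW) (pullback.snd x₀ (D'.map φ)) t₁ o₁ :=
    (IsPullback.of_hasPullback _ _).paste_horiz (IsPullback.of_hasPullback t₁ inW)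
  have hg₂' : IsPullback (ej.hom ≫ pullback.fst y₀ (D'.map φ) ≫ pullback.fst q inO)
      (pullback.snd x₀ (D'.map φ)) q (o₂ ≫ dj) := by
    rw [← hφO]
    exact ((IsPullback.of_hasPullback _ _).paste_horiz (IsPullback.of_hasPullback q inO)).of_iso ej.symm
      (Iso.refl _) (Iso.refl _) (Iso.refl _) (by simp; rfl) (by rw [Iso.symm_hom, Iso.refl_hom, Category.comp_id,
        Iso.eq_inv_comp, hej]) (by simp) (by simp)
  let g₂ : Zj ⟶ pullback q dj := pullback.lift (ej.hom ≫ pullback.fst y₀ (D'.map φ) ≫ pullback.fst q inO)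
    (pullback.snd x₀ (D'.map φ) ≫ o₂) (by rw [hg₂'.w, Category.assoc])
  have hg₂ : IsPullback g₂ (pullback.snd x₀ (D'.map φ)) (pullback.snd q dj) o₂ :=
    IsPullback.of_right (by rw [show g₂ ≫ pullback.fst q dj = _ from pullback.lift_fst _ _ _]; exact hg₂')
      (pullback.lift_snd _ _ _) (IsPullback.of_hasPullback q dj)
  obtain ⟨T, t, ht, γ, hγ⟩ := exists_glue_cover o₁ o₂ hO t₁ h₁ (pullback.snd q dj)
    ⟨inferInstance, inferInstance⟩ _ _ _ hg₁ hg₂
  exact ⟨W ⊔ j.left.1, le_sup_left, sup_le_sup_left (by obtain ⟨f, hf⟩ := j.left.2.2; rw [hf]; exact X.basicOpen_le f) W, (le_sup_right : j.left.1 ≤ W ⊔ j.left.1) j.left.2.1, T, t, ht, γ, hγ⟩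

end Groth.Purity
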