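import Groth.Agent.Pi1FEt.FiberFun
import Mathlib.CategoryTheory.Galois.IsFundamentalgroup
import Mathlib.CategoryTheory.Galois.Equivalence
import Mathlib.FieldTheory.Galois.Profinite
import Mathlib.FieldTheory.AbsoluteGaloisGroup
import Mathlib.FieldTheory.PurelyInseparable.Basic
import Mathlib.RingTheory.Etale.Field

/-!
# The fundamental group of a field is its absolute Galois group
-/

universe u

set_option autoImplicit false
set_option linter.style.haveILetI false
set_option backward.isDefEq.respectTransparency false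

open CategoryTheory CategoryTheory.Limits AlgebraicGeometry CommAlgCat PreGaloisCategory Opposite
open scoped FintypeCatDiscrete

namespace Groth.FieldPiOne

variable (K : Type u) [Field K]

/-- The algebraic closure. -/
abbrev Ω : Type u := AlgebraicClosure K

variable {K} in
/-- An automorphism fixing the separable elements of a field fixes the field. -/
theorem mem_fixingSubgroup (σ : Ω K ≃ₐ[K] Ω K) (E : IntermediateField K (Ω K))
    (h : ∀ y ∈ E, IsSeparable K y → σ y = y) : σ ∈ E.fixingSubgroup := by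
  rw [IntermediateField.mem_fixingSubgroup_iff]
  intro x hx
  obtain ⟨q, hq⟩ := ExpChar.exists K
  haveI := hq
  haveI : ExpChar (Ω K) q := expChar_of_injective_algebraMap (algebraMap K (Ω K)).injective q
  haveI : ExpChar (separableClosure K (Ω K)) q :=
    expChar_of_injective_algebraMap (algebraMap K (separableClosure K (Ω K))).injective q
  obtain ⟨n, y, hy⟩ := IsPurelyInseparable.pow_mem (separableClosure K (Ω K)) q x
  have hs : IsSeparable K (x ^ q ^ n) := by rw [← hy]; exact mem_separableClosure_iff.mp y.2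
  have h1 := h _ (pow_mem hx _) hs
  rw [map_pow] at h1
  exact iterateFrobenius_inj (Ω K) q n h1

theorem compactSpace : CompactSpace (Ω K ≃ₐ[K] Ω K) := by
  let S := separableClosure K (Ω K)
  haveI : IsGalois K S := inferInstance
  let r : (Ω K ≃ₐ[K] Ω K) →* (S ≃ₐ[K] S) := AlgEquiv.restrictNormalHom S
  have hr : ∀ σ (y : S), σ (y : Ω K) = (r σ y : Ω K) := fun σ y =>
    (AlgEquiv.restrictNormal_commutes σ S y).symm
  have hinj : Function.Injective r := by
    rw [injective_iff_map_eq_one]
    intro σ hσ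
    have h := mem_fixingSubgroup σ ⊤ fun y _ hy => by
      have := hr σ ⟨y, mem_separableClosure_iff.mpr hy⟩
      rwa [hσ] at this
    rw [IntermediateField.mem_fixingSubgroup_iff] at h
    exact AlgEquiv.ext fun x => h x trivial
  let e : (Ω K ≃ₐ[K] Ω K) ≃* (S ≃ₐ[K] S) :=
    MulEquiv.ofBijective r ⟨hinj, AlgEquiv.restrictNormalHom_surjective _⟩
  have hc : Continuous e.symm.toMonoidHom := by
    apply continuous_of_continuousAt_one
    rw [continuousAt_def, map_one]
    intro A hA
    rw [krullTopology_mem_nhds_one_iff] at hA ⊢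
    obtain ⟨E, hE, hEA⟩ := hA
    let E' : IntermediateField K S := IntermediateField.comap S.val E
    let l : E' →ₗ[K] E :=
      { toFun := fun y => ⟨y.1.1, y.2⟩
        map_add' := fun _ _ => rfl
        map_smul' := fun _ _ => rfl }
    haveI := hE
    refine ⟨E', Module.Finite.of_injective l fun a b hab => ?_, fun τ hτ => hEA ?_⟩
    · exact Subtype.ext (Subtype.ext (congrArg (fun z : E => (z : Ω K)) hab))
    · refine mem_fixingSubgroup _ E fun y hy hys => ?_
      let y' : S := ⟨y, mem_separableClosure_iff.mpr hys⟩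
      have h1 := hr (e.symm τ) y'
      have h2 : r (e.symm τ) = τ := e.apply_symm_apply τ
      rw [h2, (IntermediateField.mem_fixingSubgroup_iff _ _).mp hτ y' hy] at h1
      exact h1
  exact Function.Surjective.compactSpace (f := e.symm) hc e.symm.surjective

/-- The base point of `Spec K`. -/
noncomputable abbrev ξ : Spec (CommRingCat.of (Ω K)) ⟶ Spec (CommRingCat.of K) :=
  Spec.map (CommRingCat.ofHom (algebraMap K (Ω K)))

/-- The fibre functor. -/
noncomputable abbrev F : FEt.Cat (Spec (CommRingCat.of K)) ⥤ FintypeCat.{u} := Pi1FEt.fiberFun (ξ K)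

variable {K}

/-- The action of an automorphism on geometric points. -/
noncomputable def ρ (σ : Ω K ≃ₐ[K] Ω K) : Spec (CommRingCat.of (Ω K)) ⟶ Spec (CommRingCat.of (Ω K)) :=
  Spec.map (CommRingCat.ofHom σ.toAlgHom.toRingHom)

theorem ρ_one : ρ (1 : Ω K ≃ₐ[K] Ω K) = 𝟙 _ := Spec.map_id _

theorem ρ_mul (σ τ : Ω K ≃ₐ[K] Ω K) : ρ (σ * τ) = ρ σ ≫ ρ τ := by
  rw [ρ, ρ, ρ, ← Spec.map_comp]
  rfl

theorem ρ_ξ (σ : Ω K ≃ₐ[K] Ω K) : ρ σ ≫ ξ K = ξ K := by
  rw [ρ, ξ, ← Spec.map_comp, ← CommRingCat.ofHom_comp]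
  exact congrArg (fun t => Spec.map (CommRingCat.ofHom t)) (AlgHom.comp_algebraMap σ.toAlgHom)

noncomputable instance mulActionPoints (A : FEt.Cat (Spec (CommRingCat.of K))) :
    MulAction (Ω K ≃ₐ[K] Ω K) (FEt.fiberObj (ξ K) A) where
  smul σ s := ⟨ρ σ ≫ s.1, by rw [Category.assoc, s.2, ρ_ξ]⟩
  one_smul s := Subtype.ext (show ρ 1 ≫ s.1 = s.1 by rw [ρ_one, Category.id_comp])
  mul_smul σ τ s := Subtype.ext (show ρ (σ * τ) ≫ s.1 = ρ σ ≫ ρ τ ≫ s.1 by rw [ρ_mul, Category.assoc])

theorem smul_val {A : FEt.Cat (Spec (CommRingCat.of K))} (σ : Ω K ≃ₐ[K] Ω K) (s : FEt.fiberObj (ξ K) A) :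
    (σ • s).1 = ρ σ ≫ s.1 := rfl

theorem toEquiv_map {C : Type*} [Category C] {Φ : C ⥤ FintypeCat.{u}} {Ψ : C ⥤ Type u}
    (η : Φ ⋙ FintypeCat.incl ≅ Ψ) {A B : C} (f : A ⟶ B) (x : Φ.obj A) :
    (η.app B).toEquiv (Φ.map f x) = Ψ.map f ((η.app A).toEquiv x) :=
  ConcreteCategory.congr_hom (η.hom.naturality f) x

/-- The fibre of `F` is the set of geometric points. -/
noncomputable def pts (A : FEt.Cat (Spec (CommRingCat.of K))) : (F K).obj A ≃ FEt.fiberObj (ξ K) A :=
  ((Pi1FEt.fiberFunIso (ξ K)).app A).toEquiv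

theorem pts_map {A B : FEt.Cat (Spec (CommRingCat.of K))} (f : A ⟶ B) (x : (F K).obj A) :
    (pts B ((F K).map f x)).1 = (pts A x).1 ≫ f.left :=
  congrArg Subtype.val (toEquiv_map (Pi1FEt.fiberFunIso (ξ K)) f x)

noncomputable instance mulActionFiber (A : FEt.Cat (Spec (CommRingCat.of K))) :
    MulAction (Ω K ≃ₐ[K] Ω K) ((F K).obj A) where
  smul σ x := (pts A).symm (σ • pts A x)
  one_smul x := show (pts A).symm ((1 : Ω K ≃ₐ[K] Ω K) • pts A x) = x by
    rw [one_smul, Equiv.symm_apply_apply]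
  mul_smul σ τ x :=
    show (pts A).symm ((σ * τ) • pts A x) = (pts A).symm (σ • pts A ((pts A).symm (τ • pts A x))) by
      rw [Equiv.apply_symm_apply, mul_smul]

theorem pts_smul (A : FEt.Cat (Spec (CommRingCat.of K))) (σ : Ω K ≃ₐ[K] Ω K) (x : (F K).obj A) :
    pts A (σ • x) = σ • pts A x :=
  (pts A).apply_symm_apply _

instance : IsNaturalSMul (F K) (Ω K ≃ₐ[K] Ω K) where
  naturality σ {A B} f x := (pts B).injective (Subtype.ext (by
    rw [pts_map, pts_smul, pts_smul, smul_val, smul_val, pts_map, Category.assoc]))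

/-- The point attached to an algebra map. -/
noncomputable def pointOf (B : FiniteEtale.{u} K) (φ : B.obj →ₐ[K] Ω K) :
    FEt.fiberObj (ξ K) (Pi1FEt.specObj K B) :=
  ⟨Spec.map (CommRingCat.ofHom φ.toRingHom), by
    change Spec.map _ ≫ Spec.map _ = _
    rw [← Spec.map_comp, ← CommRingCat.ofHom_comp]
    exact congrArg (fun t => Spec.map (CommRingCat.ofHom t)) (AlgHom.comp_algebraMap φ)⟩

theorem smul_pointOf (B : FiniteEtale.{u} K) (σ : Ω K ≃ₐ[K] Ω K) (φ : B.obj →ₐ[K] Ω K) :
    σ • pointOf B φ = pointOf B (σ.toAlgHom.comp φ) := by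
  refine Subtype.ext ?_
  show Spec.map _ ≫ Spec.map _ = Spec.map _
  rw [← Spec.map_comp]
  rfl

theorem pointOf_surjective (B : FiniteEtale.{u} K) : Function.Surjective (pointOf B) := fun s => by
  obtain ⟨ψ, hψ⟩ := Spec.map_surjective s.1
  have hcomm : CommRingCat.ofHom (algebraMap K B.obj) ≫ ψ = CommRingCat.ofHom (algebraMap K (Ω K)) := by
    apply Spec.map_injective
    rw [Spec.map_comp, hψ]
    exact s.2
  exact ⟨{ toRingHom := ψ.hom
           commutes' := fun r => RingHom.congr_fun (congrArg CommRingCat.Hom.hom hcomm) r }, Subtype.ext hψ⟩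

theorem pointOf_injective (B : FiniteEtale.{u} K) : Function.Injective (pointOf B) := fun φ ψ h =>
  AlgHom.ext fun x =>
    RingHom.congr_fun (congrArg CommRingCat.Hom.hom (Spec.map_injective (congrArg Subtype.val h))) x

/-- Every fibre is, equivariantly, the set of points of an algebra. -/
theorem exists_algebra (A : FEt.Cat (Spec (CommRingCat.of K))) :
    ∃ (B : FiniteEtale.{u} K) (i : Pi1FEt.specObj K B ≅ A) (e : (B.obj →ₐ[K] Ω K) ≃ (F K).obj A),
      (∀ (σ : Ω K ≃ₐ[K] Ω K) φ, σ • e φ = e (σ.toAlgHom.comp φ)) ∧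
      ∀ φ, (pts A (e φ)).1 = (pointOf B φ).1 ≫ i.hom.left := by
  let B := (Pi1FEt.specFun K).objPreimage A
  let i : Pi1FEt.specObj K B.unop ≅ A := (Pi1FEt.specFun K).objObjPreimageIso A
  let e : (B.unop.obj →ₐ[K] Ω K) ≃ (F K).obj A :=
    ((Equiv.ofBijective _ ⟨pointOf_injective B.unop, pointOf_surjective B.unop⟩).trans (pts _).symm).trans
      (FintypeCat.equivEquivIso.symm ((F K).mapIso i))
  have he : ∀ φ, (pts A (e φ)).1 = (pointOf B.unop φ).1 ≫ i.hom.left := fun φ => by
    show (pts A ((F K).map i.hom ((pts _).symm (pointOf B.unop φ)))).1 = _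
    rw [pts_map, Equiv.apply_symm_apply]
  refine ⟨B.unop, i, e, fun σ φ => (pts A).injective (Subtype.ext ?_), he⟩
  rw [pts_smul, smul_val, he, he, ← smul_pointOf, smul_val, Category.assoc]

theorem transitive (X : FEt.Cat (Spec (CommRingCat.of K))) [PreGaloisCategory.IsConnected X] :
    MulAction.IsPretransitive (Ω K ≃ₐ[K] Ω K) ((F K).obj X) := by
  refine ⟨fun x y => ?_⟩
  obtain ⟨B, i, e, he, -⟩ := exists_algebra X
  obtain ⟨φ, rfl⟩ := e.surjective x
  obtain ⟨ψ, rfl⟩ := e.surjective y
  let Q := B.obj ⧸ RingHom.ker φ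
  haveI : Module.Finite K Q := inferInstance
  haveI : Algebra.FormallyUnramified K Q :=
    Algebra.FormallyUnramified.of_surjective (Ideal.Quotient.mkₐ K (RingHom.ker φ)) Ideal.Quotient.mk_surjective
  haveI : Algebra.FinitePresentation K Q := Algebra.FinitePresentation.of_finiteType.mp inferInstance
  haveI : Algebra.Etale K Q := Algebra.Etale.of_formallyUnramified_of_flat
  let B' : FiniteEtale.{u} K := FiniteEtale.of K Q
  let π : B ⟶ B' := ObjectProperty.homMk (CommAlgCat.ofHom (Ideal.Quotient.mkₐ K (RingHom.ker φ)))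
  let j : Pi1FEt.specObj K B' ⟶ X := (Pi1FEt.specFun K).map π.op ≫ i.hom
  haveI : Mono ((Pi1FEt.specFun K).map π.op) := by
    haveI : IsClosedImmersion (Spec.map (CommRingCat.ofHom (Ideal.Quotient.mkₐ K (RingHom.ker φ)).toRingHom)) :=
      IsClosedImmersion.spec_of_surjective _ Ideal.Quotient.mk_surjective
    refine (MorphismProperty.Over.forget FEt.prop ⊤ _ ⋙ Over.forget _).mono_of_mono_map ?_
    exact (inferInstance : Mono (Spec.map (CommRingCat.ofHom (Ideal.Quotient.mkₐ K (RingHom.ker φ)).toRingHom)))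
  haveI : Mono j := mono_comp _ _
  letI : PreGaloisCategory (FEt.Cat (Spec (CommRingCat.of K))) := Pi1FEt.preGaloisCategory _
  haveI := Pi1FEt.fiberFunctor_fiberFun (ξ K)
  haveI : IsIso j := IsConnected.noTrivialComponent _ j fun hI => by
    have h := (initial_iff_fiber_empty (F K) (Pi1FEt.specObj K B')).mp ⟨hI⟩
    exact h.false ((pts _).symm (pointOf B' (Ideal.Quotient.liftₐ _ φ fun a ha => ha)))
  haveI : IsIso ((Pi1FEt.specFun K).map π.op) := IsIso.of_isIso_comp_right _ i.hom
  haveI : IsIso π.op := isIso_of_reflects_iso _ (Pi1FEt.specFun K)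
  haveI : IsIso π := isIso_of_op π
  have hπ : Function.Injective (Ideal.Quotient.mkₐ K (RingHom.ker φ)) :=
    (CommAlgCat.algEquivOfIso (asIso ((ObjectProperty.ι _).map π))).injective
  have hφ : Function.Injective φ := fun a b h => hπ (Ideal.Quotient.eq.mpr (by
    rw [RingHom.mem_ker, map_sub, h, sub_self]))
  let E : IntermediateField K (Ω K) :=
    φ.range.toIntermediateField fun x hx => φ.range.inv_mem_of_algebraic (x := ⟨x, hx⟩) (Algebra.IsAlgebraic.isAlgebraic x)
  let eφ : B.obj ≃ₐ[K] φ.range := AlgEquiv.ofInjective φ hφ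
  let f : E →ₐ[K] Ω K := ψ.comp eφ.symm.toAlgHom
  let g : Ω K →ₐ[K] Ω K := f.liftNormal (Ω K)
  have hg : ∀ b, g (φ b) = ψ b := fun b => by
    refine (AlgHom.liftNormal_commutes f (Ω K) (eφ b)).trans ?_
    show ψ (eφ.symm (eφ b)) = ψ b
    rw [AlgEquiv.symm_apply_apply]
  refine ⟨AlgEquiv.ofBijective g (Algebra.IsAlgebraic.algHom_bijective g), ?_⟩
  rw [he]
  exact congrArg e (AlgHom.ext hg)

theorem continuous_smul (X : FEt.Cat (Spec (CommRingCat.of K))) :
    ContinuousSMul (Ω K ≃ₐ[K] Ω K) ((F K).obj X) := by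
  rw [continuousSMul_iff_stabilizer_isOpen]
  intro x
  obtain ⟨B, i, e, he, -⟩ := exists_algebra X
  obtain ⟨φ, rfl⟩ := e.surjective x
  obtain ⟨t, ht⟩ := (Module.Finite.fg_top : (⊤ : Submodule K B.obj).FG)
  let E : IntermediateField K (Ω K) := IntermediateField.adjoin K (φ '' (t : Set B.obj))
  haveI : FiniteDimensional K E := by
    haveI := ((t.finite_toSet).image φ).to_subtype
    exact IntermediateField.finiteDimensional_adjoin fun x _ => (Algebra.IsAlgebraic.isAlgebraic x).isIntegral
  refine Subgroup.isOpen_mono ?_ E.fixingSubgroup_isOpen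
  intro σ hσ
  rw [MulAction.mem_stabilizer_iff, he]
  refine congrArg e (AlgHom.toLinearMap_injective (LinearMap.ext_on ht fun b hb => ?_))
  exact (IntermediateField.mem_fixingSubgroup_iff _ _).mp hσ _
    (IntermediateField.subset_adjoin K _ ⟨b, hb, rfl⟩)

theorem non_trivial (σ : Ω K ≃ₐ[K] Ω K)
    (h : ∀ (X : FEt.Cat (Spec (CommRingCat.of K))) (x : (F K).obj X), σ • x = x) : σ = 1 := by
  have h1 := mem_fixingSubgroup σ ⊤ fun y _ hy => by
    let L := IntermediateField.adjoin K {y}
    haveI : FiniteDimensional K L := IntermediateField.adjoin.finiteDimensional hy.isIntegral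
    haveI : Algebra.IsSeparable K L := (IntermediateField.isSeparable_adjoin_simple_iff_isSeparable _ _).mpr hy
    haveI : Algebra.FormallyUnramified K L := Algebra.FormallyUnramified.of_isSeparable K L
    haveI : Algebra.FinitePresentation K L := Algebra.FinitePresentation.of_finiteType.mp inferInstance
    haveI : Algebra.Etale K L := Algebra.Etale.of_formallyUnramified_of_flat
    let B : FiniteEtale.{u} K := FiniteEtale.of K L
    have h2 := h (Pi1FEt.specObj K B) ((pts _).symm (pointOf B L.val))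
    apply_fun pts _ at h2
    rw [pts_smul, Equiv.apply_symm_apply, smul_pointOf] at h2
    exact DFunLike.congr_fun (pointOf_injective B h2) ⟨y, IntermediateField.mem_adjoin_simple_self K y⟩
  rw [IntermediateField.mem_fixingSubgroup_iff] at h1
  exact AlgEquiv.ext fun x => h1 x trivial

theorem connectedSpace_spec : ConnectedSpace (Spec (CommRingCat.of K)) :=
  inferInstanceAs (ConnectedSpace (PrimeSpectrum K))

/-- The absolute Galois group is a fundamental group of the field. -/
theorem isFundamentalGroup [CompactSpace (Ω K ≃ₐ[K] Ω K)] [GaloisCategory (FEt.Cat (Spec (CommRingCat.of K)))] :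
    IsFundamentalGroup (F K) (Ω K ≃ₐ[K] Ω K) where
  transitive_of_isGalois X _ := transitive X
  continuous_smul := continuous_smul
  non_trivial' := non_trivial

variable (K)

theorem galoisCategory : GaloisCategory (FEt.Cat (Spec (CommRingCat.of K))) :=
  letI := Pi1FEt.preGaloisCategory (Spec (CommRingCat.of K))
  haveI := connectedSpace_spec (K := K)
  haveI := Pi1FEt.fiberFunctor_fiberFun (ξ K)
  ⟨F K, ⟨inferInstance⟩⟩

theorem nonempty_mulEquiv :
    Nonempty (Field.absoluteGaloisGroup K ≃* FEt.piOne (Spec (CommRingCat.of K)) (ξ K)) := by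
  letI := galoisCategory K
  haveI := connectedSpace_spec (K := K)
  haveI := Pi1FEt.fiberFunctor_fiberFun (ξ K)
  haveI := compactSpace K
  haveI := isFundamentalGroup (K := K)
  exact ⟨(toAutMulEquiv (F K) (Ω K ≃ₐ[K] Ω K)).trans
    (((Functor.FullyFaithful.ofFullyFaithful FintypeCat.incl.{u}).whiskeringRight _).autMulEquivOfFullyFaithful _
      |>.trans (Iso.conjAut (Pi1FEt.fiberFunIso (ξ K))))⟩

theorem nonempty_equivalence :
    Nonempty (FEt.Cat (Spec (CommRingCat.of K)) ≌ ContAction FintypeCat.{u} (Field.absoluteGaloisGroup K)) := by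
  letI := galoisCategory K
  haveI := connectedSpace_spec (K := K)
  haveI := Pi1FEt.fiberFunctor_fiberFun (ξ K)
  haveI := compactSpace K
  haveI := isFundamentalGroup (K := K)
  let e := toAutMulEquiv (F K) (Ω K ≃ₐ[K] Ω K)
  have he := toAutMulEquiv_isHomeomorph (F K) (Ω K ≃ₐ[K] Ω K)
  let e' : (Ω K ≃ₐ[K] Ω K) ≃ₜ* Aut (F K) :=
    { e with
      continuous_toFun := he.continuous
      continuous_invFun := he.homeomorph.symm.continuous.congr fun t => e.injective
        ((he.homeomorph.apply_symm_apply t).trans (e.apply_symm_apply t).symm) }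
  exact ⟨(functorToContAction (F K)).asEquivalence.trans (ContAction.resEquiv _ e')⟩

end Groth.FieldPiOne
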