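import Mathlib
import Groth.Agent.EtaleAlgebra.WeaklyEtale
import Groth.Agent.S4599

/-!
# Unramified and étale morphisms are flat-locally immersions
-/

universe u

set_option autoImplicit false
set_option linter.style.haveILetI false
set_option backward.isDefEq.respectTransparency false

open CategoryTheory CategoryTheory.Limits AlgebraicGeometry

namespace Groth.Purity

variable {X Y : Scheme.{u}}

/-- Around each point, an unramified morphism is a closed immersion followed by an étale morphism. -/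
theorem exists_etale_chart (f : X ⟶ Y) [LocallyOfFinitePresentation f] [FormallyUnramified f] (x : X) :
    ∃ (Y' : Scheme.{u}) (g : Y' ⟶ Y) (W : Scheme.{u}) (w : W ⟶ X) (j : W ⟶ Y'),
      Etale g ∧ IsOpenImmersion w ∧ x ∈ Set.range w ∧ IsClosedImmersion j ∧ w ≫ f = j ≫ g := by
  obtain ⟨_, ⟨V : Y.Opens, hV, rfl⟩, hxV, -⟩ :=
    Y.isBasis_affineOpens.exists_subset_of_mem_open (Set.mem_univ (f x)) isOpen_univ
  obtain ⟨_, ⟨U : X.Opens, hU, rfl⟩, hxU, hle⟩ :=
    X.isBasis_affineOpens.exists_subset_of_mem_open (show x ∈ f ⁻¹ᵁ V from hxV) (f ⁻¹ᵁ V).2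
  have e : U ≤ f ⁻¹ᵁ V := hle
  letI := (f.appLE V U e).hom.toAlgebra
  haveI : Algebra.FormallyUnramified Γ(Y, V) Γ(X, U) :=
    HasRingHomProperty.appLE (P := @FormallyUnramified) f inferInstance ⟨V, hV⟩ ⟨U, hU⟩ e
  haveI : Algebra.FinitePresentation Γ(Y, V) Γ(X, U) := f.finitePresentation_appLE hV hU e
  let q := (hU.primeIdealOf ⟨x, hxU⟩).asIdeal
  haveI : Algebra.IsUnramifiedAt Γ(Y, V) q := Algebra.FormallyUnramified.comp _ Γ(X, U) _
  obtain ⟨s, hs, P, φ, hφ⟩ := Algebra.IsUnramifiedAt.exists_hasStandardEtaleSurjectionOn (R := Γ(Y, V)) q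
  let w : Spec (CommRingCat.of (Localization.Away s)) ⟶ X :=
    Spec.map (CommRingCat.ofHom (algebraMap Γ(X, U) (Localization.Away s))) ≫ hU.fromSpec
  let g : Spec (CommRingCat.of P.Ring) ⟶ Y :=
    Spec.map (CommRingCat.ofHom (algebraMap Γ(Y, V) P.Ring)) ≫ hV.fromSpec
  haveI : IsOpenImmersion (Spec.map (CommRingCat.ofHom (algebraMap Γ(X, U) (Localization.Away s)))) :=
    IsOpenImmersion.of_isLocalization s
  haveI : Etale (Spec.map (CommRingCat.ofHom (algebraMap Γ(Y, V) P.Ring))) :=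
    (HasRingHomProperty.Spec_iff (P := @Etale)).mpr (RingHom.etale_algebraMap.mpr inferInstance)
  refine ⟨_, g, _, w, Spec.map (CommRingCat.ofHom φ.toRingHom), inferInstance, inferInstance, ?_,
    IsClosedImmersion.spec_of_surjective _ hφ, ?_⟩
  · obtain ⟨p, hp⟩ := (PrimeSpectrum.localization_away_comap_range (Localization.Away s) s).ge
      (show hU.primeIdealOf ⟨x, hxU⟩ ∈ PrimeSpectrum.basicOpen s from hs)
    refine ⟨p, ?_⟩
    rw [Scheme.Hom.comp_apply]
    exact (congrArg hU.fromSpec hp).trans (hU.fromSpec_primeIdealOf ⟨x, hxU⟩)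
  · simp only [w, g, Category.assoc]
    rw [← IsAffineOpen.SpecMap_appLE_fromSpec f hV hU e, ← Spec.map_comp_assoc, ← Spec.map_comp_assoc]
    refine congrArg (fun t => Spec.map t ≫ hV.fromSpec) ?_
    ext a
    exact (φ.commutes a).symm

/-- A family of charts gives a covering by opens of base changes. -/
theorem exists_cover (f : X ⟶ Y) (Q : MorphismProperty Scheme.{u}) [Q.RespectsIso]
    (h : ∀ x : X, ∃ (Y' : Scheme.{u}) (g : Y' ⟶ Y) (W : Scheme.{u}) (w : W ⟶ X) (j : W ⟶ Y'),
      Etale g ∧ IsOpenImmersion w ∧ x ∈ Set.range w ∧ (Q j ∧ Mono j) ∧ w ≫ f = j ≫ g) :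
    ∃ (ι : Type u) (Y' : ι → Scheme.{u}) (g : ∀ a, Y' a ⟶ Y) (U : ∀ a, (pullback f (g a)).Opens),
      (∀ a, Etale (g a)) ∧ (∀ x : X, ∃ a, x ∈ (pullback.fst f (g a)).base '' (U a : Set ↥(pullback f (g a)))) ∧
        ∀ a, Q ((U a).ι ≫ pullback.snd f (g a)) := by
  choose Y' g W w j hg hw hx hj hc using h
  haveI := hg
  haveI := hw
  let σ : ∀ a, W a ⟶ pullback f (g a) := fun a => pullback.lift (w a) (j a) (hc a)
  haveI : ∀ a, Etale (σ a) := fun a => by
    haveI : Etale (σ a ≫ pullback.fst f (g a)) := by simp only [σ, pullback.lift_fst]; infer_instance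
    exact Etale.of_comp (σ a) (pullback.fst f (g a))
  haveI : ∀ a, Mono (σ a) := fun a => by
    haveI := (hj a).2
    haveI : Mono (σ a ≫ pullback.snd f (g a)) := by simp only [σ, pullback.lift_snd]; infer_instance
    exact mono_of_mono _ (pullback.snd f (g a))
  haveI : ∀ a, IsOpenImmersion (σ a) := fun a => IsOpenImmersion.of_flat_of_mono (σ a)
  refine ⟨X, Y', g, fun a => (σ a).opensRange, hg, fun x => ⟨x, ?_⟩, fun a => ?_⟩
  · obtain ⟨y, hy⟩ := hx x
    refine ⟨σ x y, ⟨y, rfl⟩, ?_⟩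
    rw [← Scheme.Hom.comp_apply, pullback.lift_fst]
    exact hy
  · have e : (σ a).opensRange.ι ≫ pullback.snd f (g a) = (σ a).isoOpensRange.inv ≫ j a := by
      rw [Iso.eq_inv_comp, Scheme.Hom.isoOpensRange_hom_ι_assoc, pullback.lift_snd]
    rw [e]
    exact (Q.cancel_left_of_respectsIso _ _).mpr (hj a).1

section backward

variable (f : X ⟶ Y) [LocallyOfFinitePresentation f] {Y' : Scheme.{u}} (g : Y' ⟶ Y) [Flat g]
  (U : (pullback f g).Opens) [Mono (U.ι ≫ pullback.snd f g)] (z : U.toScheme)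

/-- The diagonal is locally an isomorphism below a flat-local monomorphism. -/
theorem injective_stalkMap_diagonal :
    Function.Injective ((pullback.diagonal f).stalkMap ((U.ι ≫ pullback.fst f g) z)) := by
  let Z := U.toScheme
  let p := U.ι ≫ pullback.fst f g
  let h := U.ι ≫ pullback.snd f g
  let b := pullback.fst f f ≫ f
  let T := pullback b g
  let q : T ⟶ pullback f f := pullback.fst b g
  let t : T ⟶ Y' := pullback.snd b g
  let r₁ : T ⟶ pullback f g := pullback.lift (q ≫ pullback.fst f f) t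
    (by simpa [q, t, b] using pullback.condition (f := b) (g := g))
  let r₂ : T ⟶ pullback f g := pullback.lift (q ≫ pullback.snd f f) t
    (by simpa [q, t, b, pullback.condition] using pullback.condition (f := b) (g := g))
  let d : Z ⟶ T := pullback.lift (p ≫ pullback.diagonal f) h (by
    simp [p, h, b, pullback.condition])
  let O : T.Opens := r₁ ⁻¹ᵁ U ⊓ r₂ ⁻¹ᵁ U
  have h₁ : Set.range (O.ι ≫ r₁) ⊆ Set.range U.ι := by
    rintro _ ⟨o, rfl⟩; rw [Scheme.Opens.range_ι]; exact o.2.1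
  have h₂ : Set.range (O.ι ≫ r₂) ⊆ Set.range U.ι := by
    rintro _ ⟨o, rfl⟩; rw [Scheme.Opens.range_ι]; exact o.2.2
  let a₁ := IsOpenImmersion.lift U.ι (O.ι ≫ r₁) h₁
  let a₂ := IsOpenImmersion.lift U.ι (O.ι ≫ r₂) h₂
  have e₁ : a₁ ≫ U.ι = O.ι ≫ r₁ := IsOpenImmersion.lift_fac _ _ _
  have e₂ : a₂ ≫ U.ι = O.ι ≫ r₂ := IsOpenImmersion.lift_fac _ _ _
  have ha : a₁ = a₂ := by
    rw [← cancel_mono (U.ι ≫ pullback.snd f g), reassoc_of% e₁, reassoc_of% e₂]
    simp [r₁, r₂]
  have hd₁ : d ≫ r₁ = U.ι := pullback.hom_ext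
    (by simp [d, r₁, q, p]) (by simp [d, r₁, t, h])
  have hd₂ : d ≫ r₂ = U.ι := pullback.hom_ext
    (by simp [d, r₂, q, p]) (by simp [d, r₂, t, h])
  have hd : Set.range d ⊆ Set.range O.ι := by
    rintro _ ⟨o, rfl⟩
    rw [Scheme.Opens.range_ι]
    exact ⟨show (d ≫ r₁) o ∈ U by rw [hd₁]; exact o.2, show (d ≫ r₂) o ∈ U by rw [hd₂]; exact o.2⟩
  let d' := IsOpenImmersion.lift O.ι d hd
  have hd' : d' ≫ O.ι = d := IsOpenImmersion.lift_fac _ _ _
  have i₁ : d' ≫ a₁ = 𝟙 _ := by
    rw [← cancel_mono U.ι, Category.assoc, e₁, reassoc_of% hd', hd₁, Category.id_comp]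
  have i₂ : a₁ ≫ d' = 𝟙 _ := by
    rw [← cancel_mono O.ι, Category.assoc, hd', Category.id_comp]
    refine pullback.hom_ext (pullback.hom_ext ?_ ?_) ?_
    · simp [d, p, reassoc_of% e₁, r₁, q]
    · rw [ha]; simp [d, p, reassoc_of% e₂, r₂, q]
    · simp [d, h, reassoc_of% e₁, r₁, t]
  haveI : IsIso d' := ⟨a₁, i₁, i₂⟩
  haveI : IsOpenImmersion d := by rw [← hd']; infer_instance
  have hinj : ∀ k : Z ⟶ pullback f f, k = d ≫ q → Function.Injective (k.stalkMap z) := by
    rintro k rfl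
    rw [Scheme.Hom.stalkMap_comp]
    haveI : IsIso (d.stalkMap z) :=
      (IsOpenImmersion.iff_isIso_stalkMap.mp (inferInstance : IsOpenImmersion d)).2 z
    have hq : Function.Injective (q.stalkMap (d z)) := by
      letI := (q.stalkMap (d z)).hom.toAlgebra
      haveI : Module.Flat _ _ := Flat.stalkMap q (d z)
      haveI : IsLocalHom (algebraMap ((pullback f f).presheaf.stalk (q (d z))) (T.presheaf.stalk (d z))) :=
        q.toLRSHom.prop (d z)
      haveI : Module.FaithfullyFlat ((pullback f f).presheaf.stalk (q (d z))) (T.presheaf.stalk (d z)) :=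
        Module.FaithfullyFlat.of_flat_of_isLocalHom
      exact FaithfulSMul.algebraMap_injective _ _
    exact ((ConcreteCategory.bijective_of_isIso (d.stalkMap z)).1).comp hq
  have h := hinj (p ≫ pullback.diagonal f) (pullback.lift_fst _ _ _).symm
  rw [Scheme.Hom.stalkMap_comp] at h
  exact fun a b hab => h (congrArg (p.stalkMap z) hab)

theorem flat_stalkMap_of_flat [Flat (U.ι ≫ pullback.snd f g)] :
    (f.stalkMap ((U.ι ≫ pullback.fst f g) z)).hom.Flat := by
  let p := U.ι ≫ pullback.fst f g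
  haveI : Flat (p ≫ f) := by
    rw [show p ≫ f = (U.ι ≫ pullback.snd f g) ≫ g by simp [p, pullback.condition]]
    infer_instance
  have h := Flat.stalkMap (p ≫ f) z
  rw [Scheme.Hom.stalkMap_comp] at h
  letI := (p.stalkMap z).hom.toAlgebra
  haveI : Module.Flat _ _ := Flat.stalkMap p z
  haveI : IsLocalHom (algebraMap (X.presheaf.stalk (p z)) (U.toScheme.presheaf.stalk z)) := p.toLRSHom.prop z
  haveI : Module.FaithfullyFlat (X.presheaf.stalk (p z)) (U.toScheme.presheaf.stalk z) :=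
    Module.FaithfullyFlat.of_flat_of_isLocalHom
  exact Groth.EtaleAlgebra.flat_of_comp_faithfullyFlat _ (U.toScheme.presheaf.stalk z) h

end backward

variable (f : X ⟶ Y) [LocallyOfFinitePresentation f] {ι : Type u} (Y' : ι → Scheme.{u}) (g : ∀ a, Y' a ⟶ Y)
  (U : ∀ a, (pullback f (g a)).Opens)
  (hg : ∀ a, Flat (g a)) (hU : ∀ x : X, ∃ a, x ∈ (pullback.fst f (g a)).base '' (U a : Set ↥(pullback f (g a))))

include hg hU in
theorem formallyUnramified_of_flat_local_mono (hm : ∀ a, Mono ((U a).ι ≫ pullback.snd f (g a))) :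
    FormallyUnramified f := by
  haveI := hg
  haveI := hm
  haveI : Flat (pullback.diagonal f) := Flat.of_stalkMap _ fun x => by
    obtain ⟨a, z, hz, rfl⟩ := hU x
    exact RingHom.Flat.of_bijective ⟨injective_stalkMap_diagonal f (g a) (U a) ⟨z, hz⟩,
      (pullback.diagonal f).stalkMap_surjective _⟩
  haveI : LocallyOfFinitePresentation (pullback.diagonal f) := Groth.Agent.S4599.result f
  haveI : IsOpenImmersion (pullback.diagonal f) := IsOpenImmersion.of_flat_of_mono _
  infer_instance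

include hg hU in
theorem etale_of_flat_local_openImmersion (hm : ∀ a, IsOpenImmersion ((U a).ι ≫ pullback.snd f (g a))) :
    Etale f := by
  haveI := hg
  haveI := hm
  haveI := formallyUnramified_of_flat_local_mono f Y' g U hg hU (fun a => inferInstance)
  haveI : Flat f := Flat.of_stalkMap _ fun x => by
    obtain ⟨a, z, hz, rfl⟩ := hU x
    exact flat_stalkMap_of_flat f (g a) (U a) ⟨z, hz⟩
  exact Etale.of_formallyUnramified_of_flat f

end Groth.Purity
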