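import Mathlib

/-! Elements killing the Kähler differentials. -/

set_option autoImplicit false

universe u v w

open KaehlerDifferential TensorProduct

namespace Groth.Purity

/-- `j` kills every differential of `S` over `R`. -/
def Killed (R : Type u) (S : Type v) [CommRing R] [CommRing S] [Algebra R S] (j : S) : Prop :=
  ∀ s : S, j • D R S s = 0

theorem killed_zero (R : Type u) (S : Type v) [CommRing R] [CommRing S] [Algebra R S] : Killed R S 0 :=
  fun _ => zero_smul _ _

variable {R : Type u} {S : Type v} [CommRing R] [CommRing S] [Algebra R S]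

theorem Killed.smul_eq_zero {j : S} (h : Killed R S j) (ω : Ω[S⁄R]) : j • ω = 0 := by
  have hω : ω ∈ Submodule.span S (Set.range (D R S)) := by rw [span_range_derivation]; trivial
  induction hω using Submodule.span_induction with
  | mem x hx => obtain ⟨s, rfl⟩ := hx; exact h s
  | zero => exact smul_zero _
  | add x y _ _ hx hy => rw [smul_add, hx, hy, add_zero]
  | smul a x _ hx => rw [smul_comm, hx, smul_zero]

theorem exists_killed_of_isUnramifiedAt [Algebra.EssFiniteType R S] (q : Ideal S) [q.IsPrime]
    [Algebra.IsUnramifiedAt R q] : ∃ j ∉ q, Killed R S j := by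
  have h : (⟨q, inferInstance⟩ : PrimeSpectrum S) ∈ Algebra.unramifiedLocus R S := ‹Algebra.IsUnramifiedAt R q›
  rw [Algebra.unramifiedLocus_eq_compl_support, Set.mem_compl_iff, Module.mem_support_iff_of_finite] at h
  obtain ⟨j, hj, hjq⟩ := SetLike.not_le_iff_exists.mp h
  exact ⟨j, hjq, fun s => Module.mem_annihilator.mp hj _⟩

theorem Killed.baseChange {j : S} (hj : Killed R S j) (R' : Type w) [CommRing R'] [Algebra R R'] :
    Killed R' (R' ⊗[R] S) (1 ⊗ₜ j) := by
  letI : Algebra S (R' ⊗[R] S) := Algebra.TensorProduct.rightAlgebra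
  intro x
  induction x using TensorProduct.induction_on with
  | zero => rw [map_zero, smul_zero]
  | add x y hx hy => rw [map_add, smul_add, hx, hy, add_zero]
  | tmul r s =>
    have h1 : ((1 : R') ⊗ₜ[R] j) • D R' (R' ⊗[R] S) ((1 : R') ⊗ₜ s) = 0 := by
      show algebraMap S (R' ⊗[R] S) j • D R' (R' ⊗[R] S) (algebraMap S (R' ⊗[R] S) s) = 0
      rw [← map_D R R' S (R' ⊗[R] S) s, algebraMap_smul, ← map_smul, hj s, map_zero]
    rw [show r ⊗ₜ[R] s = algebraMap R' (R' ⊗[R] S) r * ((1 : R') ⊗ₜ s) by simp,
      Derivation.leibniz, Derivation.map_algebraMap, smul_zero, add_zero, smul_comm, h1, smul_zero]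

theorem Killed.localization {j : S} (hj : Killed R S j) (M : Submonoid S) (L : Type*) [CommRing L] [Algebra S L]
    [IsLocalization M L] [Algebra R L] [IsScalarTower R S L] : Killed R L (algebraMap S L j) := by
  intro x
  obtain ⟨⟨s, m⟩, hm⟩ := IsLocalization.surj M x
  have h1 : ∀ t : S, algebraMap S L j • D R L (algebraMap S L t) = 0 := fun t => by
    rw [← map_D R R S L t, algebraMap_smul, ← map_smul, hj t, map_zero]
  have h2 := h1 s
  rw [← hm, Derivation.leibniz, smul_add, smul_comm, h1 m, smul_zero, zero_add, smul_comm] at h2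
  exact (IsLocalization.map_units L m).smul_left_cancel.mp (h2.trans (smul_zero _).symm)

theorem Killed.of_tower (A : Type w) [CommRing A] [Algebra R A] [Algebra A S] [IsScalarTower R A S]
    {j : S} (hj : Killed R S j) : Killed A S j := fun s => by
  have := congr_arg (map R A S S) (hj s)
  rwa [map_smul, map_D, map_zero, Algebra.algebraMap_self_apply] at this

theorem isUnramifiedAt_of_killed {j : S} (hj : Killed R S j) (q : Ideal S) [q.IsPrime] (hjq : j ∉ q) :
    Algebra.IsUnramifiedAt R q := by
  refine ⟨subsingleton_of_forall_eq 0 fun ω => ?_⟩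
  have h := (hj.localization q.primeCompl (Localization.AtPrime q)).smul_eq_zero ω
  exact (IsLocalization.map_units (Localization.AtPrime q) (⟨j, hjq⟩ : q.primeCompl)).smul_left_cancel.mp
    (h.trans (smul_zero _).symm)

end Groth.Purity
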