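import Mathlib
import Groth.Agent.Purity.Killed
import Groth.Agent.Purity.EtaleAux

/-! Purity for finite free algebras: the branch locus is cut out by the discriminant. -/

set_option autoImplicit false

universe u

open IsLocalRing KaehlerDifferential

namespace Groth.Purity

variable {A : Type u} [CommRing A] [IsNoetherianRing A] {C : Type u} [CommRing C] [Algebra A C] [Module.Finite A C]

/-- A prime of a finite flat algebra has the height of the prime below it. -/
theorem height_eq_of_finite_flat [Module.Flat A C] (Q : Ideal C) [Q.IsPrime] : Q.height = (Q.under A).height := by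
  haveI : IsNoetherianRing C := IsNoetherianRing.of_finite A C
  set p := Q.under A
  haveI : Q.LiesOver p := ⟨rfl⟩
  rw [Ideal.height_eq_height_add_of_liesOver_of_hasGoingDown p Q]
  convert add_zero _
  haveI : (Q.map (Ideal.Quotient.mk (p.map (algebraMap A C)))).IsPrime :=
    Ideal.map_isPrime_of_surjective Ideal.Quotient.mk_surjective (by rw [Ideal.mk_ker]; exact Ideal.map_comap_le)
  rw [Ideal.height_eq_zero_iff]
  have hcm : (Q.map (Ideal.Quotient.mk (p.map (algebraMap A C)))).comap (Ideal.Quotient.mk _) = Q := by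
    rw [Ideal.comap_map_of_surjective _ Ideal.Quotient.mk_surjective, ← RingHom.ker_eq_comap_bot, Ideal.mk_ker]
    exact sup_eq_left.mpr Ideal.map_comap_le
  refine ⟨⟨inferInstance, bot_le⟩, fun J hJ hJle => ?_⟩
  haveI := hJ.1
  have h1 : J.comap (Ideal.Quotient.mk (p.map (algebraMap A C))) ≤ Q := (Ideal.comap_mono hJle).trans hcm.le
  have h2 : p ≤ (J.comap (Ideal.Quotient.mk (p.map (algebraMap A C)))).under A := fun a ha => by
    show Ideal.Quotient.mk _ (algebraMap A C a) ∈ J
    rw [Ideal.Quotient.eq_zero_iff_mem.mpr (Ideal.mem_map_of_mem _ ha)]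
    exact J.zero_mem
  rcases h1.lt_or_eq with h | h
  · exact absurd (lt_of_lt_of_le (Ideal.IsIntegral.comap_lt_comap (R := A) h) h2) (lt_irrefl _)
  · rw [← h, Ideal.map_comap_of_surjective _ Ideal.Quotient.mk_surjective]

/-- In positive dimension, a non-unit lies in a prime of height one. -/
theorem exists_height_eq_one [IsLocalRing A] (hdim : (1 : WithBot ℕ∞) ≤ ringKrullDim A) {d : A} (hd : d ∈ maximalIdeal A) :
    ∃ p : Ideal A, p.IsPrime ∧ d ∈ p ∧ p.height = 1 := by
  classical
  let s : Set (PrimeSpectrum A) := {p | d ∈ p.asIdeal ∧ 1 ≤ p.asIdeal.height}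
  have hm : (⟨maximalIdeal A, inferInstance⟩ : PrimeSpectrum A) ∈ s := ⟨hd, by
    rw [← IsLocalRing.maximalIdeal_height_eq_ringKrullDim] at hdim
    exact_mod_cast hdim⟩
  obtain ⟨⟨p, hp⟩, ⟨hdp, hp1⟩, hmin'⟩ :=
    (InvImage.wf (fun r : PrimeSpectrum A => r.asIdeal.height) wellFounded_lt).has_min s ⟨_, hm⟩
  have hmin : ∀ r ∈ s, ¬ r.asIdeal < p := fun r hr h => hmin' r hr (Ideal.height_strict_mono_of_isPrime h)
  refine ⟨p, hp, hdp, le_antisymm ?_ hp1⟩
  show p.height ≤ ((1 : ℕ) : ℕ∞)
  rw [Ideal.height_le_iff]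
  intro q hq hqp
  by_contra hq1
  rw [not_lt] at hq1
  haveI := hq
  obtain ⟨r, hr, hrq⟩ : ∃ r : Ideal A, r.IsPrime ∧ r < q := by
    by_contra hno
    have : q ∈ minimalPrimes A := ⟨⟨hq, bot_le⟩, fun r hr hrq => by
      by_contra hne
      exact hno ⟨r, hr.1, lt_of_le_not_ge hrq hne⟩⟩
    rw [← Ideal.height_eq_zero_iff] at this
    rw [this] at hq1
    exact not_le.mpr zero_lt_one hq1
  haveI := hr
  have hdq : d ∉ q := fun h => hmin ⟨q, hq⟩ ⟨h, hq1⟩ hqp
  let π := Ideal.Quotient.mk r
  have hker : RingHom.ker π ≤ p := by rw [Ideal.mk_ker]; exact hrq.le.trans hqp.le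
  haveI : (p.map π).IsPrime := Ideal.map_isPrime_of_surjective Ideal.Quotient.mk_surjective hker
  haveI : (q.map π).IsPrime := Ideal.map_isPrime_of_surjective Ideal.Quotient.mk_surjective (by rw [Ideal.mk_ker]; exact hrq.le)
  have hcm : ∀ I : Ideal A, r ≤ I → (I.map π).comap π = I := fun I hI => by
    rw [Ideal.comap_map_of_surjective _ Ideal.Quotient.mk_surjective, ← RingHom.ker_eq_comap_bot, Ideal.mk_ker]
    exact sup_eq_left.mpr hI
  have hmp : p.map π ∈ (Ideal.span {π d}).minimalPrimes := by
    refine ⟨⟨inferInstance, by rw [Ideal.span_singleton_le_iff_mem]; exact Ideal.mem_map_of_mem _ hdp⟩, fun J hJ hJle => ?_⟩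
    haveI := hJ.1
    have h1 : J.comap π ≤ p := (Ideal.comap_mono hJle).trans (hcm p (hrq.le.trans hqp.le)).le
    rcases h1.lt_or_eq with h | h
    · exfalso
      have hdJ : d ∈ J.comap π := hJ.2 (Ideal.mem_span_singleton_self _)
      refine hmin ⟨J.comap π, inferInstance⟩ ⟨hdJ, ?_⟩ h
      have hrJ : r < J.comap π := lt_of_le_of_ne (fun x hx => by
        show π x ∈ J
        rw [Ideal.Quotient.eq_zero_iff_mem.mpr hx]; exact J.zero_mem) fun h' => hdq (hrq.le (h' ▸ hdJ))
      exact Order.one_le_iff_pos.mpr (bot_le.trans_lt (Ideal.height_strict_mono_of_isPrime hrJ))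
    · rw [← h, Ideal.map_comap_of_surjective _ Ideal.Quotient.mk_surjective]
  have h1 : (p.map π).height ≤ 1 := Ideal.height_le_one_of_isPrincipal_of_mem_minimalPrimes _ _ hmp
  have h2 : (⊥ : Ideal (A ⧸ r)) < q.map π := by
    refine bot_lt_iff_ne_bot.mpr fun h => hrq.ne ?_
    rw [← hcm q hrq.le, h, ← RingHom.ker_eq_comap_bot, Ideal.mk_ker]
  have h3 : q.map π < p.map π := lt_of_le_of_ne (Ideal.map_mono hqp.le) fun h => hqp.ne (by
    rw [← hcm q hrq.le, h, hcm p (hrq.le.trans hqp.le)])
  have h4 : (q.map π).height < 1 := (Ideal.height_strict_mono_of_isPrime h3).trans_le h1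
  exact absurd (bot_le.trans_lt (Ideal.height_strict_mono_of_isPrime h2)) (not_lt.mpr (ENat.lt_one_iff_eq_zero.mp h4).le)

omit [IsNoetherianRing A] [Module.Finite A C] in
theorem Killed.map_surjective {C' : Type*} [CommRing C'] [Algebra A C'] [Algebra C C'] [IsScalarTower A C C']
    (hs : Function.Surjective (algebraMap C C')) {j : C} (hj : Killed A C j) : Killed A C' (algebraMap C C' j) := by
  intro x
  obtain ⟨c, rfl⟩ := hs x
  rw [← map_D A A C C' c, algebraMap_smul, ← map_smul, hj c, map_zero]

/-- A finite free algebra over a local ring of positive dimension which is unramified in height one is étale. -/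
theorem etale_of_free_unramified_codim_one [IsLocalRing A] [Module.Free A C]
    (hdim : (1 : WithBot ℕ∞) ≤ ringKrullDim A)
    (hunr : ∀ (Q : Ideal C) [Q.IsPrime], Q.height = 1 → Algebra.IsUnramifiedAt A Q) : Algebra.Etale A C := by
  classical
  let b := Module.Free.chooseBasis A C
  rw [Groth.Misc1.ND.etale_iff_isUnit_discr b]
  by_contra hd
  obtain ⟨p, hp, hdp, hp1⟩ := exists_height_eq_one hdim (IsLocalRing.mem_maximalIdeal _ |>.mpr hd)
  haveI := hp
  let J := Module.annihilator C Ω[C⁄A]
  obtain ⟨a, hap, j, hj, z, hz, haz⟩ : ∃ a ∉ p, ∃ j ∈ J, ∃ z ∈ p.map (algebraMap A C), j + z = algebraMap A C a := by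
    by_contra hno
    have hle : (J ⊔ p.map (algebraMap A C)).comap (algebraMap A C) ≤ p := fun a ha => by
      by_contra hap
      obtain ⟨j, hj, z, hz, h⟩ := Submodule.mem_sup.mp ha
      exact hno ⟨a, hap, j, hj, z, hz, h⟩
    obtain ⟨Q, hQle, hQ, hQp⟩ := Ideal.exists_ideal_over_prime_of_isIntegral p _ hle
    haveI := hQ
    have h1 : Q.height = 1 := by rw [height_eq_of_finite_flat (A := A) Q, Ideal.under_def, hQp, hp1]
    haveI := hunr Q h1
    obtain ⟨j, hjQ, hk⟩ := exists_killed_of_isUnramifiedAt (R := A) Q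
    exact hjQ (hQle (Ideal.mem_sup_left (Module.mem_annihilator.mpr hk.smul_eq_zero)))
  obtain ⟨b', hb'⟩ := exists_basis_quotient b p
  have hd0 : Algebra.discr (A ⧸ p) b' = 0 := by
    rw [discr_quotient b p b' hb', Ideal.Quotient.eq_zero_iff_mem]; exact hdp
  let C' := C ⧸ p.map (algebraMap A C)
  let N := nonZeroDivisors (A ⧸ p)
  let K := FractionRing (A ⧸ p)
  let L := Localization (Algebra.algebraMapSubmonoid C' N)
  letI : Algebra K L := localizationAlgebra N C'
  haveI : IsScalarTower (A ⧸ p) K L := IsScalarTower.of_algebraMap_eq fun r => by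
    rw [IsScalarTower.algebraMap_apply (A ⧸ p) C' L]
    exact (IsLocalization.map_eq _ r).symm
  let bL := b'.localizationLocalization K N L
  have hk : Killed A L (algebraMap C' L (algebraMap C C' j)) :=
    (Killed.map_surjective (C' := C') Ideal.Quotient.mk_surjective fun c => Module.mem_annihilator.mp hj _).localization
      (Algebra.algebraMapSubmonoid C' N) L
  have hu : IsUnit (algebraMap C' L (algebraMap C C' j)) := by
    have h : algebraMap C C' j = algebraMap (A ⧸ p) C' (Ideal.Quotient.mk p a) := by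
      show Ideal.Quotient.mk _ j = Ideal.Quotient.mk _ (algebraMap A C a)
      rw [← haz, map_add, Ideal.Quotient.eq_zero_iff_mem.mpr hz, add_zero]
    rw [h]
    exact IsLocalization.map_units L (⟨_, Ideal.Quotient.mk p a, mem_nonZeroDivisors_of_ne_zero
      (fun h0 => hap (Ideal.Quotient.eq_zero_iff_mem.mp h0)), rfl⟩ : Algebra.algebraMapSubmonoid C' N)
  haveI : Algebra.FormallyUnramified A L := ⟨subsingleton_of_forall_eq 0 fun ω =>
    hu.smul_left_cancel.mp (by rw [hk.smul_eq_zero ω]; exact (smul_zero (M := L) (A := Ω[L⁄A]) _).symm)⟩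
  haveI : IsScalarTower A (A ⧸ p) L := inferInstance
  haveI : IsScalarTower A K L := IsScalarTower.of_algebraMap_eq fun r => by
    rw [IsScalarTower.algebraMap_apply A (A ⧸ p) K, ← IsScalarTower.algebraMap_apply (A ⧸ p) K L,
      ← IsScalarTower.algebraMap_apply A (A ⧸ p) L]
  haveI : Algebra.FormallyUnramified K L := Algebra.FormallyUnramified.of_restrictScalars A K L
  haveI : Module.Finite K L := Module.Finite.of_basis bL
  haveI : Algebra.FinitePresentation K L := Algebra.FinitePresentation.of_finiteType.mp inferInstance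
  haveI : Algebra.Etale K L := Algebra.Etale.of_formallyUnramified_of_flat
  haveI : Module.Free K L := Module.Free.of_basis bL
  have h := (Groth.Misc1.ND.etale_iff_isUnit_discr bL).mp inferInstance
  rw [Algebra.discr_localizationLocalization, hd0, map_zero] at h
  exact not_isUnit_zero h

end Groth.Purity
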