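import Groth.Agent.Ega2Proj.FieldNormalization
import Groth.Agent.LocImm.Birational
import Groth.Agent.Pi1Normal.Covers

/-!
# Finite étale covers of a normal scheme and normalization in the field of a generic fibre
-/

universe u

set_option autoImplicit false
set_option linter.style.haveILetI false
set_option backward.isDefEq.respectTransparency false

open CategoryTheory CategoryTheory.Limits AlgebraicGeometry IsLocalRing

namespace Groth.Purity

variable (X : Scheme.{u}) [IsIntegral X] (L : Type u) [Field L] (φ : X.functionField →+* L)
  (g : Spec (CommRingCat.of L) ⟶ X)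
  (hg : g = Spec.map (CommRingCat.ofHom φ) ≫ X.fromSpecStalk (genericPoint X))
  [QuasiCompact g] [QuasiSeparated g]

include hg in
/-- The generic fibre of a finite étale normalization is the spectrum of the field. -/
theorem isPullback_toNormalization (hfin : φ.Finite) [Etale g.fromNormalization] [IsFinite g.fromNormalization] :
    IsPullback g.toNormalization (Spec.map (CommRingCat.ofHom φ)) g.fromNormalization
      (X.fromSpecStalk (genericPoint X)) := by
  let q := X.fromSpecStalk (genericPoint X)
  let t := g.fromNormalization
  haveI : IsPreimmersion g.toNormalization := by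
    haveI : IsClosedImmersion (Spec.map (Scheme.stalkClosedPointTo g.toNormalization)) :=
      IsClosedImmersion.spec_of_surjective _ fun y => by
        have h : y ∈ Set.range (Scheme.stalkClosedPointTo g.toNormalization).hom := by
          rw [Ega2Proj.range_stalkClosedPointTo X L φ g hg]
          letI := φ.toAlgebra
          haveI : Module.Finite X.functionField L := hfin
          obtain ⟨p, hp, hp'⟩ := Algebra.IsIntegral.isIntegral (R := X.functionField) y
          exact ⟨p, hp, hp'⟩
        exact h
    rw [← Scheme.Spec_stalkClosedPointTo_fromSpecStalk g.toNormalization]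
    infer_instance
  have hcomm : g.toNormalization ≫ t = Spec.map (CommRingCat.ofHom φ) ≫ q :=
    g.toNormalization_fromNormalization.trans hg
  let k : Spec (CommRingCat.of L) ⟶ pullback t q := pullback.lift _ _ hcomm
  have hk1 : k ≫ pullback.fst t q = g.toNormalization := pullback.lift_fst _ _ _
  have hk2 : k ≫ pullback.snd t q = Spec.map (CommRingCat.ofHom φ) := pullback.lift_snd _ _ _
  haveI : IsPreimmersion k := by
    haveI : IsPreimmersion (k ≫ pullback.fst t q) := by rw [hk1]; infer_instance
    exact IsPreimmersion.of_comp k (pullback.fst t q)
  haveI : IsFinite (Spec.map (CommRingCat.ofHom φ)) := (IsFinite.SpecMap_iff _).mpr hfin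
  haveI : IsFinite k := by
    haveI : IsFinite (k ≫ pullback.snd t q) := by rw [hk2]; infer_instance
    exact IsFinite.of_comp k (pullback.snd t q)
  haveI : IsClosedImmersion k := IsClosedImmersion.of_isPreimmersion k k.isClosedMap.isClosed_range
  haveI : Surjective k := ⟨fun p => ⟨closedPoint L, (pullback.fst t q).isEmbedding.injective (by
    rw [← Scheme.Hom.comp_apply, hk1]
    have h1 : t (pullback.fst t q p) = genericPoint X := by
      rw [← Scheme.Hom.comp_apply, pullback.condition, Scheme.Hom.comp_apply,
        @Subsingleton.elim (PrimeSpectrum X.functionField) _ (pullback.snd t q p) (closedPoint _)]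
      exact Scheme.fromSpecStalk_closedPoint
    have h2 : pullback.fst t q p ∈ t.base ⁻¹' {genericPoint X} := h1
    rw [Ega2Proj.preimage_genericPoint X L φ g hg] at h2
    exact (Ega2Proj.toNormalization_closedPoint X L g).trans h2.symm)⟩⟩
  haveI : IsReduced (pullback t q) := by
    haveI : ∀ z : ↥(pullback t q), _root_.IsReduced ((pullback t q).presheaf.stalk z) := fun z => by
      haveI : IsIntegral (Spec (CommRingCat.of X.functionField)) := inferInstance
      have hn : Pi1.IsNormalScheme (Spec (CommRingCat.of X.functionField)) := fun y => by
        have hy : y = genericPoint (Spec (CommRingCat.of X.functionField)) :=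
          @Subsingleton.elim (PrimeSpectrum X.functionField) _ _ _
        subst hy
        exact ⟨inferInstanceAs (IsDomain (Spec (CommRingCat.of X.functionField)).functionField),
          inferInstanceAs (IsIntegrallyClosed (Spec (CommRingCat.of X.functionField)).functionField)⟩
      haveI := ((Pi1Normal.isNormalScheme_of_etale hn (pullback.snd t q)) z).1
      infer_instance
    exact isReduced_of_isReduced_stalk _
  haveI : IsIso k := isIso_of_isClosedImmersion_of_surjective k
  exact IsPullback.of_iso_pullback ⟨hcomm⟩ (asIso k) hk1 hk2

include hg in
/-- A finite étale cover of a normal scheme with generic fibre a field is the normalization in this field. -/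
theorem exists_iso_normalization (hX : Pi1.IsNormalScheme X) (Y : Scheme.{u}) (t : Y ⟶ X)
    [IsFinite t] [Etale t] (j : Spec (CommRingCat.of L) ⟶ Y)
    (hj : IsPullback j (Spec.map (CommRingCat.ofHom φ)) t (X.fromSpecStalk (genericPoint X))) :
    ∃ σ : g.normalization ≅ Y, σ.hom ≫ t = g.fromNormalization := by
  let pt : Spec (CommRingCat.of L) := closedPoint L
  haveI : IsPreimmersion j := MorphismProperty.of_isPullback (P := @IsPreimmersion) hj.flip
    (inferInstanceAs (IsPreimmersion (X.fromSpecStalk (genericPoint X))))
  have hN := Pi1Normal.isNormalScheme_of_etale hX t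
  have hfib : ∀ y : Y, t y = genericPoint X → y = j pt := fun y hy => by
    obtain ⟨z, hz, -⟩ := Scheme.exists_preimage_of_isPullback hj y (closedPoint X.functionField)
      (hy.trans Scheme.fromSpecStalk_closedPoint.symm)
    rw [← hz, @Subsingleton.elim (PrimeSpectrum L) _ z pt]
  have hgen : ∀ y : Y, j pt ⤳ y := fun y => by
    obtain ⟨η, ⟨hη, hηy⟩, -⟩ := Pi1Normal.existsUnique_generic hX t y
    exact hfib η hη ▸ hηy
  have huniv : closure ({j pt} : Set Y) = Set.univ :=
    Set.eq_univ_of_forall fun y => (hgen y).mem_closure
  haveI : IrreducibleSpace Y := irreducibleSpace_def _ |>.2 (by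
    rw [Set.top_eq_univ, ← huniv]; exact isIrreducible_singleton.closure)
  haveI : IsReduced Y :=
    haveI : ∀ z : Y, _root_.IsReduced (Y.presheaf.stalk z) := fun z => by
      haveI := (hN z).1
      infer_instance
    isReduced_of_isReduced_stalk _
  haveI : IsIntegral Y := isIntegral_of_irreducibleSpace_of_isReduced _
  have hjgen : j pt = genericPoint Y := IsGenericPoint.eq huniv (genericPoint_spec _)
  have H : g = j ≫ t := hg.trans hj.w.symm
  let d := g.normalizationDesc j t H
  have hd : g.toNormalization ≫ d = j := g.toNormalization_normalizationDesc j t H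
  haveI : IsIntegralHom (d ≫ t) := by rw [g.normalizationDesc_comp j t H]; infer_instance
  haveI : IsIntegralHom d := IsIntegralHom.of_comp d t
  have hp : g.toNormalization pt = genericPoint g.normalization := Ega2Proj.toNormalization_closedPoint X L g
  have hdgen : d (genericPoint g.normalization) = genericPoint Y := by
    rw [← hp, ← Scheme.Hom.comp_apply, hd, hjgen]
  have hbij : IsIso (d.stalkMap (g.toNormalization pt)) := by
    refine (ConcreteCategory.isIso_iff_bijective _).mpr ⟨?_, fun n => ?_⟩
    · have hf : IsField (Y.presheaf.stalk (d (g.toNormalization pt))) := by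
        rw [show d (g.toNormalization pt) = genericPoint Y by rw [hp, hdgen]]
        exact Field.toIsField Y.functionField
      letI := hf.toField
      exact RingHom.injective (d.stalkMap (g.toNormalization pt)).hom
    · have hc := Scheme.stalkClosedPointTo_comp (R := CommRingCat.of L) g.toNormalization d
      have hs : Function.Surjective (Scheme.stalkClosedPointTo (g.toNormalization ≫ d)) := by
        have h1 : Function.Surjective (Scheme.stalkClosedPointTo j) := by
          intro y
          obtain ⟨b, hb⟩ := (ConcreteCategory.bijective_of_isIso
            (stalkClosedPointIso (CommRingCat.of L)).hom).2 y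
          obtain ⟨a, ha⟩ := j.stalkMap_surjective (closedPoint L) b
          exact ⟨a, (congr_arg _ ha).trans hb⟩
        rw [hd]; exact h1
      rw [hc] at hs
      obtain ⟨a, ha⟩ := hs (Scheme.stalkClosedPointTo g.toNormalization n)
      exact ⟨a, Ega2Proj.stalkClosedPointTo_toNormalization_injective X L g ha⟩
  haveI : IsIso d := LocImmersion.BirationalNormal.isIso_of_isIntegralHom (fun y => (hN y).2) d hdgen
    (LocImmersion.BirationalNormal.isIso_stalkMap_of_eq d hp hbij)
  exact ⟨asIso d, g.normalizationDesc_comp j t H⟩

end Groth.Purity
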