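import Mathlib
import Groth.Agent.Purity.Killed
import Groth.Agent.Purity.GaloisCover
import Groth.Agent.EtaleBase.EtaleLocalAlg
import Groth.Agent.DescentBase.FlatTower
import Groth.Agent.S9246
import Groth.Agent.S9560

/-! Reduction of quasi-finite points to finite local algebras over étale neighbourhoods. -/

set_option autoImplicit false

universe u

open IsLocalRing TensorProduct

namespace Groth.Purity

/-- Transfer of properties to an isomorphic ring. -/
theorem normalDomain_of_ringEquiv {A B : Type u} [CommRing A] [CommRing B] (e : A ≃+* B)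
    (h : IsDomain A ∧ IsIntegrallyClosed A) : IsDomain B ∧ IsIntegrallyClosed B := by
  obtain ⟨_, _⟩ := h
  exact ⟨e.symm.injective.isDomain e.symm.toRingHom, IsIntegrallyClosed.of_equiv e⟩

theorem nonempty_ringEquiv_atPrime_of_eq {R : Type u} [CommRing R] {a b : Ideal R} [a.IsPrime] [b.IsPrime] (h : a = b) :
    Nonempty (Localization.AtPrime a ≃+* Localization.AtPrime b) := by
  subst h
  exact ⟨RingEquiv.refl _⟩

theorem isEtaleAt_of_flat_of_unramified {R S : Type u} [CommRing R] [CommRing S] [Algebra R S] [IsNoetherianRing R]
    [Algebra.FiniteType R S] (q : Ideal S) [q.IsPrime] [Algebra.IsUnramifiedAt R q]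
    [Module.Flat R (Localization.AtPrime q)] : Algebra.IsEtaleAt R q := by
  let p := q.under R
  letI := Localization.AtPrime.algebraOfLiesOver p q
  have hflat : Module.Flat (Localization.AtPrime p) (Localization.AtPrime q) :=
    (Module.flat_iff_of_isLocalization (Localization.AtPrime p) p.primeCompl _).mpr inferInstance
  obtain ⟨hsep, hmap⟩ := (Algebra.isUnramifiedAt_iff_map_eq R p q).mp inferInstance
  exact (Groth.Agent.S9560.result R S p q).mpr ⟨hflat, hmap, inferInstance, hsep⟩

/-- After an étale neighbourhood, a quasi-finite point has a finite local ring over a local base. -/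
theorem exists_finite_local {R S : Type u} [CommRing R] [CommRing S] [Algebra R S] [IsNoetherianRing R]
    [Algebra.FiniteType R S] (q : Ideal S) [q.IsPrime] [Algebra.QuasiFiniteAt R q] :
    ∃ (A C : Type u) (_ : CommRing A) (_ : CommRing C) (_ : Algebra A C) (_ : IsLocalRing A) (_ : IsNoetherianRing A)
      (_ : IsLocalRing C) (_ : Module.Finite A C) (_ : Algebra S C),
      (IsRegularLocalRing (Localization.AtPrime (q.under R)) → IsRegularLocalRing A) ∧
      (ringKrullDim A = ringKrullDim (Localization.AtPrime (q.under R))) ∧
      (ringKrullDim C = ringKrullDim (Localization.AtPrime q)) ∧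
      (IsDomain (Localization.AtPrime q) ∧ IsIntegrallyClosed (Localization.AtPrime q) →
        IsDomain C ∧ IsIntegrallyClosed C) ∧
      (Module.Flat R S → Module.Flat A C) ∧
      (∀ (Q : Ideal C) [Q.IsPrime], (Q.comap (algebraMap S C)).height = Q.height ∧
        Q.comap (algebraMap S C) ≤ q ∧
        (Algebra.IsUnramifiedAt R (Q.comap (algebraMap S C)) → Algebra.IsUnramifiedAt A Q)) ∧
      (Algebra.Etale A C → Algebra.IsEtaleAt R q) := by
  let p := q.under R
  obtain ⟨R', _, _, _, P, _, _, e, -, P', _, _, hP'q, heP', -, hfin, huniq⟩ :=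
    Algebra.exists_etale_isIdempotentElem_forall_liesOver_eq (R := R) (S := S) p q
  let T := R' ⊗[R] S
  let B := Localization.Away e
  let A := Localization.AtPrime P
  let C := Localization (Algebra.algebraMapSubmonoid B P.primeCompl)
  letI : Algebra A C := localizationAlgebra P.primeCompl B
  haveI : IsNoetherianRing R' := Algebra.FiniteType.isNoetherianRing R R'
  haveI : IsNoetherianRing S := Algebra.FiniteType.isNoetherianRing R S
  haveI : IsScalarTower R' A C := IsScalarTower.of_algebraMap_eq fun r => by
    rw [IsScalarTower.algebraMap_apply R' B C]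
    exact (IsLocalization.map_eq _ r).symm
  haveI : Module.Finite A C := Module.Finite.of_isLocalization R' B P.primeCompl
  letI : Algebra S T := Algebra.TensorProduct.rightAlgebra
  haveI : IsScalarTower S T C := inferInstance
  haveI : IsScalarTower R S T := IsScalarTower.of_algebraMap_eq fun r => (Algebra.TensorProduct.includeRight.commutes r).symm
  haveI : IsScalarTower R R' C := inferInstance
  haveI : IsScalarTower R S C := IsScalarTower.of_algebraMap_eq fun r => by
    rw [IsScalarTower.algebraMap_apply R T C, IsScalarTower.algebraMap_apply R S T]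
    rfl
  letI : Algebra R A := inferInstance
  haveI : IsScalarTower R A C := IsScalarTower.of_algebraMap_eq fun r => by
    rw [IsScalarTower.algebraMap_apply R R' A, ← IsScalarTower.algebraMap_apply R' A C, ← IsScalarTower.algebraMap_apply R R' C]
  haveI : Algebra.Etale S T := Algebra.Etale.of_equiv (Algebra.TensorProduct.commRight R S R')
  -- `C` is the local ring of `T` at `P'`
  have hPu : P'.under R' = P := (P'.over_def P).symm
  let I₁ := P'.map (algebraMap T B)
  have hd₁ : Disjoint (Submonoid.powers e : Set T) P' := (Ideal.disjoint_powers_iff_notMem_of_isPrime e).mpr heP'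
  haveI : I₁.IsPrime := IsLocalization.isPrime_of_isPrime_disjoint _ B _ ‹_› hd₁
  have hI₁ : I₁.comap (algebraMap T B) = P' := IsLocalization.under_map_of_isPrime_disjoint _ B ‹_› hd₁
  have hd₂ : Disjoint (Algebra.algebraMapSubmonoid B P.primeCompl : Set B) I₁ := by
    rw [Set.disjoint_left]
    rintro _ ⟨r, hr, rfl⟩ hI
    apply hr
    rw [SetLike.mem_coe, IsScalarTower.algebraMap_apply R' T B, ← Ideal.mem_comap, hI₁] at hI
    rw [← hPu]
    exact hI
  let I₂ := I₁.map (algebraMap B C)
  haveI : I₂.IsPrime := IsLocalization.isPrime_of_isPrime_disjoint _ C _ ‹_› hd₂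
  have hI₂ : I₂.comap (algebraMap T C) = P' := by
    rw [IsScalarTower.algebraMap_eq T B C, ← Ideal.comap_comap]
    exact (congr_arg (Ideal.comap (algebraMap T B)) (IsLocalization.under_map_of_isPrime_disjoint _ C ‹_› hd₂)).trans hI₁
  have hmax : ∀ (Q : Ideal C), Q.IsMaximal → Q = I₂ := by
    intro Q hQ
    have h1 : (Q.comap (algebraMap A C)).IsMaximal := Ideal.isMaximal_comap_of_isIntegral_of_isMaximal Q
    have h2 : (Q.comap (algebraMap T C)).under R' = P := by
      rw [Ideal.under_def, Ideal.comap_comap, ← IsScalarTower.algebraMap_eq, IsScalarTower.algebraMap_eq R' A C,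
        ← Ideal.comap_comap, IsLocalRing.eq_maximalIdeal h1]
      exact IsLocalization.AtPrime.under_maximalIdeal A P
    have h3 : e ∉ Q.comap (algebraMap T C) := fun h => hQ.ne_top (Ideal.eq_top_of_isUnit_mem Q h (by
      rw [IsScalarTower.algebraMap_apply T B C]
      exact (IsLocalization.Away.algebraMap_isUnit e).map _))
    have h4 := huniq (Q.comap (algebraMap T C)) inferInstance ⟨h2.symm⟩ h3
    rw [← hI₂, IsScalarTower.algebraMap_eq T B C, ← Ideal.comap_comap, ← Ideal.comap_comap] at h4
    have h5 : (⟨Q.comap (algebraMap B C), inferInstance⟩ : PrimeSpectrum B) = ⟨I₂.comap (algebraMap B C), inferInstance⟩ :=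
      PrimeSpectrum.localization_comap_injective B (Submonoid.powers e) (PrimeSpectrum.ext h4)
    exact congr_arg PrimeSpectrum.asIdeal (PrimeSpectrum.localization_comap_injective C
      (Algebra.algebraMapSubmonoid B P.primeCompl) (a₁ := ⟨Q, inferInstance⟩) (a₂ := ⟨I₂, inferInstance⟩) h5)
  haveI : Nontrivial C := ⟨⟨0, 1, fun h => Ideal.IsPrime.ne_top ‹I₂.IsPrime› ((Ideal.eq_top_iff_one _).mpr (h ▸ I₂.zero_mem))⟩⟩
  haveI hlocC : IsLocalRing C := by
    obtain ⟨M, hM⟩ := Ideal.exists_maximal C
    exact IsLocalRing.of_unique_max_ideal ⟨I₂, hmax M hM ▸ hM, hmax⟩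
  have hleT : ∀ (Q : Ideal C) [Q.IsPrime], Q.comap (algebraMap T C) ≤ P' := fun Q _ => by
    rw [← hI₂, hmax (maximalIdeal C) inferInstance |>.symm]
    exact Ideal.comap_mono (IsLocalRing.le_maximalIdeal ‹Q.IsPrime›.ne_top)
  have hcomp : ∀ Q : Ideal C, Q.comap (algebraMap S C) = (Q.comap (algebraMap T C)).comap (algebraMap S T) :=
    fun Q => by rw [Ideal.comap_comap, ← IsScalarTower.algebraMap_eq]
  have hqT : P'.comap (algebraMap S T) = q := hP'q
  have hdimT : ∀ (Q : Ideal T) [Q.IsPrime], Q.height = (Q.comap (algebraMap S T)).height := fun Q _ => by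
    have := (Groth.EtaleBase.atPrime_iff_of_etale S T Q).1
    rwa [IsLocalization.AtPrime.ringKrullDim_eq_height Q, IsLocalization.AtPrime.ringKrullDim_eq_height (Q.comap (algebraMap S T)),
      WithBot.coe_eq_coe] at this
  have hheight : ∀ (Q : Ideal C) [Q.IsPrime], Q.height = (Q.comap (algebraMap T C)).height := fun Q _ => by
    rw [IsScalarTower.algebraMap_eq T B C, ← Ideal.comap_comap, ← Ideal.under_def, ← Ideal.under_def]
    rw [IsLocalization.height_under (Submonoid.powers e), IsLocalization.height_under (Algebra.algebraMapSubmonoid B P.primeCompl)]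
  have hlocP' : IsLocalization.AtPrime C P' := by
    haveI h1 : IsLocalization.AtPrime C (maximalIdeal C) := IsLocalization.of_le_isUnit fun x hx => IsLocalRing.notMem_maximalIdeal.mp hx
    haveI h2 : IsLocalization.AtPrime C ((maximalIdeal C).comap (algebraMap B C)) := by
      have := IsLocalization.isLocalization_isLocalization_atPrime_isLocalization
        (Algebra.algebraMapSubmonoid B P.primeCompl) C (maximalIdeal C)
      exact this
    have h3 := IsLocalization.isLocalization_isLocalization_atPrime_isLocalization
      (Submonoid.powers e) C ((maximalIdeal C).comap (algebraMap B C))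
    simp only [Ideal.under_def, Ideal.comap_comap, ← IsScalarTower.algebraMap_eq, hmax (maximalIdeal C) inferInstance] at h3
    exact (show ∀ (a b : Ideal T) (_ : a = b) [a.IsPrime] [b.IsPrime], IsLocalization.AtPrime C a → IsLocalization.AtPrime C b by
      rintro _ _ rfl _ _ h; exact h) _ _ hI₂ h3
  let eC := (IsLocalization.algEquiv P'.primeCompl (Localization.AtPrime P') C).toRingEquiv
  refine ⟨A, C, inferInstance, inferInstance, inferInstance, inferInstance, inferInstance, hlocC, inferInstance, inferInstance,
    ?_, ?_, ?_, ?_, ?_, ?_, ?_⟩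
  · intro h
    refine (Groth.Agent.S9246.result R R' P).mp ?_
    obtain ⟨e'⟩ := nonempty_ringEquiv_atPrime_of_eq (P.over_def p)
    haveI := h
    exact IsRegularLocalRing.of_ringEquiv e'
  · have := (Groth.EtaleBase.atPrime_iff_of_etale R R' P).1
    obtain ⟨e'⟩ := nonempty_ringEquiv_atPrime_of_eq (P.over_def p)
    exact this.trans (ringKrullDim_eq_of_ringEquiv e').symm
  · rw [← ringKrullDim_eq_of_ringEquiv eC, IsLocalization.AtPrime.ringKrullDim_eq_height P',
      IsLocalization.AtPrime.ringKrullDim_eq_height q, hdimT P']
    simp only [hqT]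
  · intro h
    have h' : IsDomain (Localization.AtPrime (P'.comap (algebraMap S T))) ∧
        IsIntegrallyClosed (Localization.AtPrime (P'.comap (algebraMap S T))) :=
      (nonempty_ringEquiv_atPrime_of_eq hqT.symm).elim fun e' => normalDomain_of_ringEquiv e' h
    obtain ⟨_, _⟩ := h'
    exact normalDomain_of_ringEquiv eC (Groth.EtaleBase.isNormalDomain_atPrime_of_etale S T P')
  · intro h
    haveI : Module.Flat R' T := inferInstance
    haveI : Module.Flat T C := IsLocalization.flat C P'.primeCompl
    haveI : Module.Flat R' C := Module.Flat.trans R' T C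
    exact (Module.flat_iff_of_isLocalization A P.primeCompl C).mpr inferInstance
  · intro Q _
    refine ⟨?_, ?_, fun h => ?_⟩
    · rw [hcomp, ← hdimT, ← hheight]
    · rw [hcomp, ← hqT]; exact Ideal.comap_mono (hleT Q)
    · obtain ⟨j, hj, hk⟩ := exists_killed_of_isUnramifiedAt (R := R) (Q.comap (algebraMap S C))
      exact isUnramifiedAt_of_killed (((hk.baseChange R').localization P'.primeCompl C).of_tower A) Q hj
  · intro hAC
    haveI : Algebra.FormallyEtale R' A := Algebra.FormallyEtale.of_isLocalization P.primeCompl
    haveI : Algebra.FormallyEtale R A := Algebra.FormallyEtale.comp R R' A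
    haveI : Algebra.FormallyEtale R C := Algebra.FormallyEtale.comp R A C
    haveI : Module.Flat R R' := inferInstance
    haveI : Module.Flat R A := Module.Flat.trans R R' A
    haveI : Module.Flat A C := inferInstance
    haveI : Module.Flat R C := Module.Flat.trans R A C
    haveI : Algebra.FormallyEtale T C := Algebra.FormallyEtale.of_isLocalization P'.primeCompl
    haveI : Algebra.FormallyEtale S C := Algebra.FormallyEtale.comp S T C
    haveI : Module.Flat T C := IsLocalization.flat C P'.primeCompl
    haveI : Module.Flat S C := Module.Flat.trans S T C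
    have hu : ∀ s : q.primeCompl, IsUnit (algebraMap S C s) := fun s =>
      IsLocalization.map_units C (⟨algebraMap S T s, fun h => s.2 (hqT ▸ h)⟩ : P'.primeCompl)
    letI : Algebra (Localization.AtPrime q) C := (IsLocalization.lift (M := q.primeCompl) hu).toAlgebra
    haveI : IsScalarTower S (Localization.AtPrime q) C := IsScalarTower.of_algebraMap_eq fun s => (IsLocalization.lift_eq hu s).symm
    haveI : IsScalarTower R (Localization.AtPrime q) C := IsScalarTower.of_algebraMap_eq fun r => by
      rw [IsScalarTower.algebraMap_apply R S (Localization.AtPrime q), ← IsScalarTower.algebraMap_apply S (Localization.AtPrime q) C,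
        ← IsScalarTower.algebraMap_apply R S C]
    haveI : IsLocalHom (algebraMap (Localization.AtPrime q) C) := ⟨fun x hx => by
      obtain ⟨s, t, rfl⟩ := IsLocalization.exists_mk'_eq q.primeCompl x
      rw [IsLocalization.AtPrime.isUnit_mk'_iff]
      intro hs
      have h1 := hx.mul ((IsLocalization.map_units (Localization.AtPrime q) t).map (algebraMap (Localization.AtPrime q) C))
      rw [← map_mul, IsLocalization.mk'_spec, ← IsScalarTower.algebraMap_apply, IsScalarTower.algebraMap_apply S T C,
        IsLocalization.AtPrime.isUnit_to_map_iff C P'] at h1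
      exact h1 (hqT ▸ hs : s ∈ P'.comap (algebraMap S T))⟩
    haveI : Algebra.FormallyEtale (Localization.AtPrime q) C := Algebra.FormallyEtale.localization_base q.primeCompl
    haveI : Module.Flat (Localization.AtPrime q) C :=
      (Module.flat_iff_of_isLocalization (Localization.AtPrime q) q.primeCompl C).mpr inferInstance
    haveI : Algebra.IsUnramifiedAt R q := formallyUnramified_descends (R := R) (S := Localization.AtPrime q) (T := C)
    haveI : Module.FaithfullyFlat (Localization.AtPrime q) C := Module.FaithfullyFlat.of_flat_of_isLocalHom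
    haveI := Groth.DescentBase.flat_of_flat_of_faithfullyFlat R (Localization.AtPrime q) C
    exact isEtaleAt_of_flat_of_unramified q

end Groth.Purity
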