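import Mathlib
import Groth.Agent.Purity.QfReduce
import Groth.Agent.PropsBasic.LociBaseChange.Scheme

/-! The dictionary between purity at a point of a scheme and at a prime of a chart. -/

set_option autoImplicit false

universe u

open CategoryTheory AlgebraicGeometry TopologicalSpace

namespace Groth.Purity

/-- An algebraic chart at a point. -/
theorem exists_chart_at {X Y : Scheme.{u}} (f : X ⟶ Y) [LocallyOfFiniteType f] [IsLocallyNoetherian Y] (x : X)
    (hq : f.QuasiFiniteAt x) :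
    ∃ (R S : Type u) (_ : CommRing R) (_ : CommRing S) (_ : Algebra R S) (_ : IsNoetherianRing R)
      (_ : Algebra.FiniteType R S) (q : Ideal S) (_ : q.IsPrime) (_ : Algebra.QuasiFiniteAt R q),
      Nonempty (X.presheaf.stalk x ≃+* Localization.AtPrime q) ∧
      Nonempty (Y.presheaf.stalk (f x) ≃+* Localization.AtPrime (q.under R)) ∧
      (Flat f → Module.Flat R S) ∧
      (∀ (q' : Ideal S) [q'.IsPrime], q' ≤ q → ∃ x' : X, x' ⤳ x ∧
        Nonempty (X.presheaf.stalk x' ≃+* Localization.AtPrime q') ∧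
        ((f.stalkMap x').hom.FormallyUnramified → Algebra.IsUnramifiedAt R q')) ∧
      (Algebra.IsEtaleAt R q → ∃ U : X.Opens, x ∈ U ∧ Etale (U.ι ≫ f)) := by
  obtain ⟨_, ⟨U, hU, rfl⟩, hxU, -⟩ :=
    Y.isBasis_affineOpens.exists_subset_of_mem_open (Set.mem_univ (f x)) isOpen_univ
  obtain ⟨_, ⟨V, hV, rfl⟩, hxV, e⟩ :=
    X.isBasis_affineOpens.exists_subset_of_mem_open (show x ∈ (f ⁻¹ᵁ U : Set X) from hxU) (f ⁻¹ᵁ U).isOpen
  replace hU : IsAffineOpen U := hU
  replace hV : IsAffineOpen V := hV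
  replace e : V ≤ f ⁻¹ᵁ U := e
  letI := (f.appLE U V e).hom.toAlgebra
  haveI : Algebra.FiniteType Γ(Y, U) Γ(X, V) := f.finiteType_appLE hU hV e
  haveI : IsNoetherianRing Γ(Y, U) := IsLocallyNoetherian.component_noetherian ⟨U, hU⟩
  haveI : Algebra.FinitePresentation Γ(Y, U) Γ(X, V) := Algebra.FinitePresentation.of_finiteType.mp inferInstance
  set q := (hV.primeIdealOf ⟨x, hxV⟩).asIdeal with hqdef
  haveI hqf : Algebra.QuasiFiniteAt Γ(Y, U) q := hq.quasiFiniteAt hV hU e hxV
  have hqp : q.under Γ(Y, U) = (hU.primeIdealOf ⟨f x, e hxV⟩).asIdeal :=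
    Groth.PropsBasic.Loci.primeIdealOf_comap f hU hV e hxV
  refine ⟨Γ(Y, U), Γ(X, V), inferInstance, inferInstance, inferInstance, inferInstance, inferInstance, q,
    inferInstance, hqf, ?_, ?_, ?_, ?_, ?_⟩
  · let _ := X.presheaf.algebra_section_stalk (⟨x, hxV⟩ : V)
    have := hV.isLocalization_stalk ⟨x, hxV⟩
    exact ⟨(IsLocalization.algEquiv q.primeCompl (X.presheaf.stalk x) (Localization.AtPrime q)).toRingEquiv⟩
  · let _ := Y.presheaf.algebra_section_stalk (⟨f x, e hxV⟩ : U)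
    have := hU.isLocalization_stalk ⟨f x, e hxV⟩
    obtain ⟨e'⟩ := nonempty_ringEquiv_atPrime_of_eq hqp.symm
    exact ⟨(IsLocalization.algEquiv (hU.primeIdealOf ⟨f x, e hxV⟩).asIdeal.primeCompl (Y.presheaf.stalk (f x))
      (Localization.AtPrime (hU.primeIdealOf ⟨f x, e hxV⟩).asIdeal)).toRingEquiv.trans e'⟩
  · intro hf
    exact f.flat_appLE hU hV e
  · intro q' hq' hle
    let z : Spec Γ(X, V) := ⟨q', hq'⟩
    have hz : z ⤳ hV.primeIdealOf ⟨x, hxV⟩ := (PrimeSpectrum.le_iff_specializes _ _).mp hle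
    have hspec : hV.fromSpec z ⤳ x := by
      have := hz.map hV.fromSpec.continuous
      rwa [hV.fromSpec_primeIdealOf] at this
    have hzV : hV.fromSpec z ∈ V := by
      have := Set.mem_range_self (f := hV.fromSpec) z
      rwa [hV.range_fromSpec] at this
    have hz' : hV.primeIdealOf ⟨hV.fromSpec z, hzV⟩ = z :=
      hV.fromSpec.isOpenEmbedding.injective (hV.fromSpec_primeIdealOf ⟨hV.fromSpec z, hzV⟩)
    have hz'' : (hV.primeIdealOf ⟨hV.fromSpec z, hzV⟩).asIdeal = q' := congr_arg PrimeSpectrum.asIdeal hz'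
    refine ⟨hV.fromSpec z, hspec, ?_, fun h => ?_⟩
    · let _ := X.presheaf.algebra_section_stalk (⟨hV.fromSpec z, hzV⟩ : V)
      have := hV.isLocalization_stalk ⟨hV.fromSpec z, hzV⟩
      obtain ⟨e'⟩ := nonempty_ringEquiv_atPrime_of_eq hz''
      exact ⟨(IsLocalization.algEquiv (hV.primeIdealOf ⟨hV.fromSpec z, hzV⟩).asIdeal.primeCompl
        (X.presheaf.stalk (hV.fromSpec z)) (Localization.AtPrime (hV.primeIdealOf ⟨hV.fromSpec z, hzV⟩).asIdeal)).toRingEquiv.trans e'⟩
    · let p' := (hU.primeIdealOf ⟨f (hV.fromSpec z), e hzV⟩).asIdeal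
      let q'' := (hV.primeIdealOf ⟨hV.fromSpec z, hzV⟩).asIdeal
      have : q''.LiesOver p' := ⟨(Groth.PropsBasic.Loci.primeIdealOf_comap f hU hV e hzV).symm⟩
      let := Localization.AtPrime.algebraOfLiesOver p' q''
      have h2 := (RingHom.FormallyUnramified.respectsIso.arrow_mk_iso_iff
        (IsAffineOpen.arrowStalkMapIso f U hU V hV e hzV)).mp h
      have : Algebra.FormallyUnramified (Localization.AtPrime p') (Localization.AtPrime q'') :=
        RingHom.formallyUnramified_algebraMap.mp h2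
      have h3 : Algebra.IsUnramifiedAt Γ(Y, U) q'' :=
        Algebra.FormallyUnramified.comp Γ(Y, U) (Localization.AtPrime p') _
      exact (show ∀ (a b : Ideal Γ(X, V)) (_ : a = b) [a.IsPrime] [b.IsPrime],
        Algebra.IsUnramifiedAt Γ(Y, U) a → Algebra.IsUnramifiedAt Γ(Y, U) b by
          rintro _ _ rfl _ _ h; exact h) _ _ hz'' h3
  · intro het
    obtain ⟨g, hgq, hg⟩ := Algebra.exists_etale_of_isEtaleAt (R := Γ(Y, U)) q
    let W : X.Opens := X.basicOpen g
    have hW : IsAffineOpen W := hV.basicOpen g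
    have hxW : x ∈ W := by
      have h' : hV.primeIdealOf ⟨x, hxV⟩ ∈ PrimeSpectrum.basicOpen g := hgq
      rw [← hV.fromSpec_preimage_basicOpen] at h'
      have h'' : hV.fromSpec (hV.primeIdealOf ⟨x, hxV⟩) ∈ X.basicOpen g := h'
      rwa [hV.fromSpec_primeIdealOf] at h''
    have hWU : W ≤ f ⁻¹ᵁ U := (X.basicOpen_le g).trans e
    have hetW : (f.appLE U W hWU).hom.Etale := by
      let _ := (f.appLE U W hWU).hom.toAlgebra
      let _ : Algebra Γ(X, V) Γ(X, W) := (X.presheaf.map (homOfLE (X.basicOpen_le g)).op).hom.toAlgebra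
      have : IsLocalization.Away g Γ(X, W) := hV.isLocalization_basicOpen g
      have : IsScalarTower Γ(Y, U) Γ(X, V) Γ(X, W) := .of_algebraMap_eq' (by
        show (f.appLE U W hWU).hom = (f.appLE U V e ≫ X.presheaf.map (homOfLE (X.basicOpen_le g)).op).hom
        rw [Scheme.Hom.appLE_map])
      exact Algebra.Etale.of_equiv ((IsLocalization.algEquiv (Submonoid.powers g)
        (Localization.Away g) Γ(X, W)).restrictScalars Γ(Y, U))
    have : Etale (Spec.map (f.appLE U W hWU)) := (HasRingHomProperty.Spec_iff (P := @Etale)).mpr hetW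
    refine ⟨W, hxW, ?_⟩
    have heq : W.ι ≫ f = hW.isoSpec.hom ≫ Spec.map (f.appLE U W hWU) ≫ hU.fromSpec := by
      rw [IsAffineOpen.SpecMap_appLE_fromSpec f hU hW hWU, IsAffineOpen.isoSpec_hom_fromSpec_assoc]
    rw [heq]
    infer_instance

end Groth.Purity
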